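import Groth.Agent.H29CurveDual.Canonical
import Groth.Agent.H29RR.CurveIntegral
import Groth.Agent.H29RR.Consts
import Groth.Agent.H29RR.Clifford
import Groth.Agent.H19Grp.ImageGroup
import Groth.Agent.S1536

/-!
# Morphisms between invertible modules on curves
-/

set_option autoImplicit false
set_option linter.style.haveILetI false

universe u

open CategoryTheory CategoryTheory.Limits AlgebraicGeometry TopologicalSpace Opposite
open Groth.Agent.H29RR

namespace Groth.Agent.H29CurveDual

attribute [local instance 10000] H10Coh.hasSheafifyAb H10Coh.hasWeakSheafifyAb H10Coh.hasExtAb H10Coh.enoughInjAb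

variable {X : Scheme.{u}}

theorem hom_structure_eq_zero (G : X.Modules) (h : Subsingleton (Coh.HH X G 0)) (φ : Coh.structureModule X ⟶ G) :
    φ = 0 := by
  have h1 : φ.app ⊤ (1 : Γ(X, ⊤)) = 0 := (sec G).symm.injective (Subsingleton.elim _ _)
  refine Scheme.Modules.hom_ext _ _ fun U => ?_
  ext r
  have hr : (show Γ(Coh.structureModule X, U) from r) = (show Γ(X, U) from r) •
      (Coh.structureModule X).presheaf.map (homOfLE (le_top : U ≤ ⊤)).op
        (show Γ(Coh.structureModule X, ⊤) from (1 : Γ(X, ⊤))) := by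
    show (show Γ(X, U) from r) = (show Γ(X, U) from r) * X.presheaf.map (homOfLE (le_top : U ≤ ⊤)).op (1 : Γ(X, ⊤))
    rw [map_one, mul_one]
  show φ.app U r = (0 : Coh.structureModule X ⟶ G).app U r
  rw [hr, Scheme.Modules.Hom.app_smul, H11Tilde.app_map_apply]
  refine (congrArg (fun z => (show Γ(X, U) from r) • G.presheaf.map (homOfLE (le_top : U ≤ ⊤)).op z) h1).trans ?_
  rw [map_zero, smul_zero]
  exact (map_zero ((0 : Coh.structureModule X ⟶ G).app U).hom).symm.trans (by rfl)

/-- A nonzero morphism of invertible modules gives a nonzero section of the quotient module. -/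
theorem nontrivial_of_hom_ne_zero {L G N : X.Modules} (hN : PicF.IsInvertible N)
    (e : CohB1.tensorMod L N ≅ Coh.structureModule X) {θ : L ⟶ G} (h : θ ≠ 0) :
    Nontrivial (Coh.HH X (CohB1.tensorMod G N) 0) := by
  rcases subsingleton_or_nontrivial (Coh.HH X (CohB1.tensorMod G N) 0) with hs | hs
  · refine absurd ?_ h
    refine twist_map_eq_zero hN ?_
    have h2 := hom_structure_eq_zero _ hs (e.inv ≫ (twist N).map θ)
    exact (cancel_epi (f := e.inv) (Y := (twist N).obj L)).1 (h2.trans comp_zero.symm)
  · exact hs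

variable {k : Type u} [Field k] [X.Over (Spec (CommRingCat.of k))] [IsIntegral X]
  [IsProper (X ↘ Spec (CommRingCat.of k))]

/-- The degree of the quotient of two invertible modules. -/
theorem deg_quot (hdim : topologicalKrullDim X ≤ 1) {L G N : X.Modules} (hL : PicF.IsInvertible L)
    (hG : PicF.IsInvertible G) (hN : PicF.IsInvertible N) (e : CohB1.tensorMod L N ≅ Coh.structureModule X) :
    Curv2.deg k X (CohB1.tensorMod G N) 1 = Curv2.deg k X G 1 - Curv2.deg k X L 1 := by
  have h1 := deg_tensor (k := k) hdim hL hN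
  rw [deg_congr (k := k) e, deg_structureModule] at h1
  rw [deg_tensor (k := k) hdim hG hN]
  omega

theorem hom_eq_zero_of_deg (hdim : topologicalKrullDim X ≤ 1) {L G : X.Modules} (hL : PicF.IsInvertible L)
    (hG : PicF.IsInvertible G) (hd : Curv2.deg k X G 1 < Curv2.deg k X L 1) (θ : L ⟶ G) : θ = 0 := by
  obtain ⟨N, hN, ⟨e⟩⟩ := exists_inverse_comm hL
  by_contra h
  have := (bounds_of_section (k := k) hdim (H11Ample.isInvertible_tensor hG hN)
    (nontrivial_of_hom_ne_zero hN e h)).1
  rw [deg_quot (k := k) hdim hL hG hN e] at this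
  omega

theorem nonempty_iso_of_quot (hdim : topologicalKrullDim X ≤ 1) {L G N : X.Modules} (hL : PicF.IsInvertible L)
    (hG : PicF.IsInvertible G) (hN : PicF.IsInvertible N) (e : CohB1.tensorMod L N ≅ Coh.structureModule X)
    (hd : Curv2.deg k X G 1 = Curv2.deg k X L 1) (hs : Nontrivial (Coh.HH X (CohB1.tensorMod G N) 0)) :
    Nonempty (L ≅ G) := by
  obtain ⟨j⟩ := (bounds_of_section (k := k) hdim (H11Ample.isInvertible_tensor hG hN) hs).2.2.2
    (by rw [deg_quot (k := k) hdim hL hG hN e, hd, sub_self])
  let e' : CohB1.tensorMod N L ≅ Coh.structureModule X := H10Coh.Tw.commIso N L ≪≫ e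
  exact ⟨(H10Coh.Tw.leftUnitIso L).symm ≪≫ (twist L).mapIso j.symm ≪≫ (twistInv e').app G⟩

/-- In positive genus a module of degree one has at most one section. -/
theorem h0_le_one_of_deg_one [IsAlgClosed k] (hdim : topologicalKrullDim X ≤ 1) (hg : 1 ≤ Curv2.genus k X)
    (h00 : Module.finrank k (Coh.HH X (Coh.structureModule X) 0) = 1) {L : X.Modules} (hL : PicF.IsInvertible L)
    (hd : Curv2.deg k X L 1 = 1) : Module.finrank k (Coh.HH X L 0) ≤ 1 := by
  by_contra h
  rw [not_le] at h
  haveI := finite_HH (k := k) L hL 0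
  haveI := finite_HH (k := k) L hL 1
  have hrr := riemann_roch (k := k) hdim L
  rw [h00, hd] at hrr
  have h1 := h0_add_h1_le (k := k) hdim hL (Module.nontrivial_of_finrank_pos (R := k) (by omega))
    (Module.nontrivial_of_finrank_pos (R := k) (by omega))
  omega

omit [IsIntegral X] in
theorem finrank_h0_structure_smooth [Smooth (X ↘ Spec (CommRingCat.of k))]
    [GeometricallyConnected (X ↘ Spec (CommRingCat.of k))] :
    Module.finrank k (Coh.HH X (Coh.structureModule X) 0) = 1 := by
  haveI := H19Grp.geometricallyReduced_of_smooth (X ↘ Spec (CommRingCat.of k))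
  exact S1536.result k X

end Groth.Agent.H29CurveDual
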