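import Groth.Agent.H29RR.Invert
import Groth.Agent.H29RR.GenPoint
import Groth.Agent.H25FinCov.Trace

/-!
# Homomorphisms of modules on a scheme over a field as vector spaces
-/

set_option autoImplicit false
set_option linter.style.haveILetI false

universe u

open CategoryTheory CategoryTheory.Limits AlgebraicGeometry Opposite TopologicalSpace
open Groth.Agent.H29RR

namespace Groth.Agent.H29CurveDual

attribute [local instance 10000] H10Coh.hasSheafifyAb H10Coh.hasWeakSheafifyAb H10Coh.hasExtAb H10Coh.enoughInjAb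

variable {X : Scheme.{u}}

/-- Multiplication by a global function. -/
noncomputable def scal (M : X.Modules) (r : Γ(X, ⊤)) : M ⟶ M :=
  ⟨PresheafOfModules.homMk
    { app := fun U => AddCommGrpCat.ofHom (DistribSMul.toAddMonoidHom (M.val.obj U) (Coh.resTop X U r))
      naturality := fun {U V} f => (Coh.smulAb M r).hom.naturality f }
    fun U c m => by
      show Coh.resTop X U r • c • (show M.val.obj U from m) = c • Coh.resTop X U r • (show M.val.obj U from m)
      rw [smul_smul, smul_smul]
      exact congrArg (· • (show M.val.obj U from m)) (mul_comm (G := Γ(X, U.unop)) _ _)⟩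

theorem scal_app (M : X.Modules) (r : Γ(X, ⊤)) (U : X.Opens) (m : Γ(M, U)) :
    (scal M r).app U m = X.presheaf.map (homOfLE (le_top : U ≤ ⊤)).op r • m := rfl

theorem scal_natural {M N : X.Modules} (φ : M ⟶ N) (r : Γ(X, ⊤)) : scal M r ≫ φ = φ ≫ scal N r := by
  refine Scheme.Modules.hom_ext _ _ fun U => ?_
  ext m
  show φ.app U ((scal M r).app U m) = (scal N r).app U (φ.app U m)
  rw [scal_app, scal_app, Scheme.Modules.Hom.app_smul]

theorem scal_add (M : X.Modules) (r s : Γ(X, ⊤)) : scal M (r + s) = scal M r + scal M s := by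
  refine Scheme.Modules.hom_ext _ _ fun U => ?_
  ext m
  show (scal M (r + s)).app U m = (scal M r).app U m + (scal M s).app U m
  rw [scal_app, scal_app, scal_app, map_add, add_smul]

theorem scal_one (M : X.Modules) : scal M 1 = 𝟙 M := by
  refine Scheme.Modules.hom_ext _ _ fun U => ?_
  ext m
  show (scal M 1).app U m = m
  rw [scal_app, map_one, one_smul]

theorem scal_mul (M : X.Modules) (r s : Γ(X, ⊤)) : scal M (r * s) = scal M s ≫ scal M r := by
  refine Scheme.Modules.hom_ext _ _ fun U => ?_
  ext m
  show (scal M (r * s)).app U m = (scal M r).app U ((scal M s).app U m)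
  rw [scal_app, scal_app, scal_app, map_mul, mul_smul]

theorem scal_zero (M : X.Modules) : scal M 0 = 0 := by
  have h := scal_add M 0 0
  rw [zero_add] at h
  exact left_eq_add.1 h

theorem twist_scal {N : X.Modules} (hN : PicF.IsInvertible N) (M : X.Modules) (r : Γ(X, ⊤)) :
    (twist N).map (scal M r) = scal ((twist N).obj M) r := by
  refine Scheme.Modules.hom_ext _ _ fun W => ?_
  ext t
  refine H25FinCov.ext_locally _ fun x hx => ?_
  obtain ⟨V, hV, e, m, hxV, -, hm⟩ := H10Coh.Tw.exists_eq_tm hN (show Γ(CohB1.tensorMod M N, W) from t) hx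
  refine ⟨V, hV, hxV, ?_⟩
  rw [← H17.PrinOmega.app_res, ← H17.PrinOmega.app_res]
  refine (congrArg (((twist N).map (scal M r)).app V) hm).trans ?_
  refine Eq.trans ?_ (congrArg ((scal ((twist N).obj M) r).app V) hm).symm
  refine Eq.trans ?_ (scal_app ((twist N).obj M) r V (H11Ample.tm m e)).symm
  refine Eq.trans ?_ (H11Ample.tm_smul_left _ m e)
  have hmap : ((twist N).map (scal M r)).app V (H11Ample.tm m e) =
      H11Ample.tm ((scal M r).app V m) e := H10Coh.Tw.map_tm (scal M r) N m e
  rw [hmap, scal_app]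

variable (k : Type u) [Field k] [X.Over (Spec (CommRingCat.of k))]

/-- The vector space of homomorphisms. -/
@[implicit_reducible]
noncomputable def homModule (F G : X.Modules) : Module k (F ⟶ G) where
  smul a φ := φ ≫ scal G (H10Coh.globA (A := k) (X := X) a)
  one_smul φ := by
    show φ ≫ scal G (H10Coh.globA 1) = φ
    rw [map_one, scal_one, Category.comp_id]
  mul_smul a b φ := by
    show φ ≫ scal G (H10Coh.globA (a * b)) = (φ ≫ scal G (H10Coh.globA b)) ≫ scal G (H10Coh.globA a)
    rw [map_mul, scal_mul, Category.assoc]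
  smul_zero a := zero_comp
  smul_add a φ ψ := Preadditive.add_comp _ _ _ _ _ _
  add_smul a b φ := by
    show φ ≫ scal G (H10Coh.globA (a + b)) = φ ≫ scal G (H10Coh.globA a) + φ ≫ scal G (H10Coh.globA b)
    rw [map_add, scal_add, Preadditive.comp_add]
  zero_smul φ := by
    show φ ≫ scal G (H10Coh.globA 0) = 0
    rw [map_zero, scal_zero, comp_zero]

attribute [local instance] homModule

theorem smul_def {F G : X.Modules} (a : k) (φ : F ⟶ G) :
    a • φ = φ ≫ scal G (H10Coh.globA (A := k) (X := X) a) := rfl

theorem hhlin_scal (M : X.Modules) (a : k) (n : ℕ) (x : Coh.HH X M n) :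
    Canon.HHlin k (scal M (H10Coh.globA (A := k) (X := X) a)) n x = a • x := rfl

theorem hhlin_smul {F G : X.Modules} (a : k) (φ : F ⟶ G) (n : ℕ) (x : Coh.HH X F n) :
    Canon.HHlin k (a • φ) n x = a • Canon.HHlin k φ n x := by
  rw [smul_def, hhlin_comp, hhlin_scal]

/-- Homomorphisms out of the structure module are global sections. -/
theorem finrank_hom_structure (G : X.Modules) :
    Module.finrank k (Coh.structureModule X ⟶ G) = Module.finrank k (Coh.HH X G 0) := by
  let ev : (Coh.structureModule X ⟶ G) →ₗ[k] Coh.HH X G 0 :=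
    { toFun := fun φ => (sec G).symm (φ.app ⊤ (1 : Γ(X, ⊤)))
      map_add' := fun φ ψ => by rw [← map_add]; rfl
      map_smul' := fun a φ => (sec G).injective (by
        rw [RingHom.id_apply, sec_smul, AddEquiv.apply_symm_apply, AddEquiv.apply_symm_apply]
        show (scal G _).app ⊤ (φ.app ⊤ _) = _
        rw [scal_app]
        congr 1
        exact congr($(X.presheaf.map_id (op ⊤)) _)) }
  refine (LinearEquiv.ofBijective ev ⟨fun φ ψ h => ?_, fun v => ⟨H11Tilde.homOfGlobal G (sec G v), ?_⟩⟩).finrank_eq
  · have h1 : φ.app ⊤ (1 : Γ(X, ⊤)) = ψ.app ⊤ (1 : Γ(X, ⊤)) := (sec G).symm.injective h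
    refine Scheme.Modules.hom_ext _ _ fun U => ?_
    ext r
    have hr : (show Γ(Coh.structureModule X, U) from r) = (show Γ(X, U) from r) •
        (Coh.structureModule X).presheaf.map (homOfLE (le_top : U ≤ ⊤)).op
          (show Γ(Coh.structureModule X, ⊤) from (1 : Γ(X, ⊤))) := by
      show (show Γ(X, U) from r) = (show Γ(X, U) from r) * X.presheaf.map (homOfLE (le_top : U ≤ ⊤)).op (1 : Γ(X, ⊤))
      rw [map_one, mul_one]
    show φ.app U r = ψ.app U r
    rw [hr, Scheme.Modules.Hom.app_smul, Scheme.Modules.Hom.app_smul, H11Tilde.app_map_apply,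
      H11Tilde.app_map_apply]
    exact congrArg (fun z => (show Γ(X, U) from r) • G.presheaf.map (homOfLE (le_top : U ≤ ⊤)).op z) h1
  · refine (sec G).injective ((AddEquiv.apply_symm_apply _ _).trans ?_)
    rw [H11Tilde.homOfGlobal_app]
    refine (congrArg (fun z => (1 : Γ(X, ⊤)) • z) (congr($(G.presheaf.map_id (op ⊤)) _))).trans (one_smul _ _)

/-- Precomposing with an isomorphism. -/
theorem finrank_hom_congr {F F' G : X.Modules} (e : F ≅ F') :
    Module.finrank k (F' ⟶ G) = Module.finrank k (F ⟶ G) :=
  LinearEquiv.finrank_eq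
    { toFun := fun φ => e.hom ≫ φ
      invFun := fun φ => e.inv ≫ φ
      left_inv := fun φ => by show e.inv ≫ e.hom ≫ φ = φ; rw [Iso.inv_hom_id_assoc]
      right_inv := fun φ => by show e.hom ≫ e.inv ≫ φ = φ; rw [Iso.hom_inv_id_assoc]
      map_add' := fun φ ψ => Preadditive.comp_add _ _ _ _ _ _
      map_smul' := fun a φ => (Category.assoc _ _ _).symm }

/-- Twisting preserves homomorphism spaces. -/
theorem finrank_hom_twist {N : X.Modules} (hN : PicF.IsInvertible N) (F G : X.Modules) :
    Module.finrank k (F ⟶ G) = Module.finrank k ((twist N).obj F ⟶ (twist N).obj G) := by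
  obtain ⟨N', hN', ⟨e⟩⟩ := exists_inverse_comm hN
  let T : (F ⟶ G) →ₗ[k] ((twist N).obj F ⟶ (twist N).obj G) :=
    { toFun := fun φ => (twist N).map φ
      map_add' := fun φ ψ => Functor.map_add _
      map_smul' := fun a φ => by
        rw [smul_def, RingHom.id_apply, smul_def, Functor.map_comp, twist_scal hN] }
  have hsrj : ∀ {F G : X.Modules} {M M' : X.Modules} (e : CohB1.tensorMod M M' ≅ Coh.structureModule X)
      (ψ : (twist M).obj F ⟶ (twist M).obj G),
      (twist M').map ((twist M).map ((twistInv e).inv.app F ≫ (twist M').map ψ ≫ (twistInv e).hom.app G)) =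
        (twist M').map ψ := by
    intro F G M M' e ψ
    rw [← cancel_mono ((twistInv e).hom.app G)]
    refine ((twistInv e).hom.naturality _).trans ?_
    exact Iso.hom_inv_id_app_assoc _ _ _
  refine (LinearEquiv.ofBijective T ⟨fun φ ψ h => ?_, fun ψ => ?_⟩).finrank_eq
  · have hd : (twist N).map (φ - ψ) = 0 := by rw [Functor.map_sub]; exact sub_eq_zero.2 h
    exact sub_eq_zero.1 (twist_map_eq_zero hN hd)
  · refine ⟨(twistInv e).inv.app F ≫ (twist N').map ψ ≫ (twistInv e).hom.app G, sub_eq_zero.1 ?_⟩
    refine twist_map_eq_zero hN' ?_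
    rw [Functor.map_sub]
    exact sub_eq_zero.2 (hsrj e ψ)

/-- Homomorphisms out of an invertible module are sections of the twist by its inverse. -/
theorem finrank_hom_invertible {L N : X.Modules} (hN : PicF.IsInvertible N)
    (e : CohB1.tensorMod L N ≅ Coh.structureModule X) (G : X.Modules) :
    Module.finrank k (L ⟶ G) = Module.finrank k (Coh.HH X (CohB1.tensorMod G N) 0) := by
  rw [finrank_hom_twist k hN L G, ← finrank_hom_structure k]
  exact finrank_hom_congr k e.symm

end Groth.Agent.H29CurveDual
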