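import Groth.Agent.H29CurveDual.HomBij
import Groth.Agent.H29Curve.Morphism
import Groth.Agent.H27CurveDiv.RelDim
import Groth.Agent.H17.RatCurve.Main
import Groth.Agent.H05EGA4.CompleteNormalization

/-!
# Curves over a field: Dedekind charts and the morphism to the line given by a function
-/

set_option autoImplicit false
set_option linter.style.haveILetI false

universe u

open CategoryTheory CategoryTheory.Limits AlgebraicGeometry TopologicalSpace Opposite

namespace Groth.Agent.H29CurveDual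

variable {k : Type u} [Field k] {X : Scheme.{u}} (p : X ⟶ Spec (CommRingCat.of k)) [IsIntegral X] [Smooth p]

/-- The functions on an open of a scheme over `k` as a `k`-algebra. -/
@[implicit_reducible]
noncomputable def algK (U : X.Opens) : Algebra k Γ(X, U) :=
  ((Scheme.ΓSpecIso (CommRingCat.of k)).inv ≫ p.appLE ⊤ U le_top).hom.toAlgebra

omit [IsIntegral X] in
theorem smooth_algK {U : X.Opens} (hU : IsAffineOpen U) : letI := algK p U; Algebra.Smooth k Γ(X, U) :=
  RingHom.Smooth.respectsIso.2 (p.appLE ⊤ U le_top).hom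
    (Scheme.ΓSpecIso (CommRingCat.of k)).symm.commRingCatIsoToRingEquiv
    (HasRingHomProperty.appLE (P := @Smooth) p ‹_› ⟨⊤, isAffineOpen_top _⟩ ⟨U, hU⟩ le_top)

include p in
theorem isDedekindDomain_of_smooth (hdim : topologicalKrullDim X ≤ 1) (U : X.Opens) (hU : IsAffineOpen U)
    (hne : Nonempty U) : IsDedekindDomain Γ(X, U) := by
  letI := algK p U
  haveI := smooth_algK p hU
  haveI := H02CA.isRegularRing_of_smooth k Γ(X, U)
  haveI : IsNoetherianRing Γ(X, U) := Algebra.FiniteType.isNoetherianRing k _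
  haveI : Ring.KrullDimLE 1 Γ(X, U) := Ring.krullDimLE_iff.2 (by
    have h1 : topologicalKrullDim U ≤ topologicalKrullDim X :=
      (Topology.IsInducing.subtypeVal).topologicalKrullDim_le
    rw [← PrimeSpectrum.topologicalKrullDim_eq_ringKrullDim]
    refine le_trans (le_of_eq ?_) (h1.trans hdim)
    exact (IsHomeomorph.topologicalKrullDim_eq _ hU.isoSpec.inv.homeomorph.isHomeomorph))
  haveI : Ring.DimensionLEOne Γ(X, U) :=
    ⟨fun hp hprime => Ring.krullDimLE_one_iff_of_noZeroDivisors.mp ‹_› _ hp hprime⟩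
  haveI : IsIntegrallyClosed Γ(X, U) := IsIntegrallyClosed.of_localization_maximal fun P _ _ => by
    haveI : IsRegularLocalRing (Localization.AtPrime P) := IsRegularRing.isRegularLocalRing_localization P
    exact H05EGA4.isIntegrallyClosed_of_isRegularLocalRing _
  exact { }

include p in
theorem not_isField_sections (hdim : topologicalKrullDim X = 1) (U : X.Opens) (hU : IsAffineOpen U)
    [Nonempty U] : ¬ IsField Γ(X, U) := by
  intro hF
  haveI : JacobsonSpace X := LocallyOfFiniteType.jacobsonSpace p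
  obtain ⟨x, hxU, hx⟩ := nonempty_inter_closedPoints (Z := (U : Set X))
    (Set.nonempty_coe_sort.1 ‹Nonempty U›) U.isOpen.isLocallyClosed
  haveI hsub : Subsingleton (PrimeSpectrum Γ(X, U)) := by
    letI := hF.toField
    exact ⟨fun a b => Subsingleton.elim (α := PrimeSpectrum Γ(X, U)) a b⟩
  haveI : Subsingleton U := @Equiv.subsingleton _ _ hU.isoSpec.hom.homeomorph.toEquiv hsub
  have hη : genericPoint X ∈ U := ((genericPoint_spec X).mem_open_set_iff U.isOpen).2 ⟨x, trivial, hxU⟩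
  have e : x = genericPoint X := congrArg Subtype.val (@Subsingleton.elim _ ‹Subsingleton U› (⟨x, hxU⟩ : U) ⟨_, hη⟩)
  rw [e] at hx
  haveI : Subsingleton X := by
    refine ⟨fun a b => ?_⟩
    have h1 : ∀ y : X, y = genericPoint X := fun y => by
      have h2 : y ∈ closure ({genericPoint X} : Set X) := by
        rw [(genericPoint_spec X).def]; trivial
      rwa [IsClosed.closure_eq hx] at h2
    rw [h1 a, h1 b]
  have h2 : topologicalKrullDim X ≤ 0 :=
    (Order.krullDim_nonpos_iff_forall_isMin).2 fun a b hb => by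
      refine le_of_eq (SetLike.ext' ?_)
      exact (Subsingleton.eq_univ_of_nonempty a.isIrreducible'.nonempty).trans
        (Subsingleton.eq_univ_of_nonempty b.isIrreducible'.nonempty).symm
  rw [hdim] at h2
  exact absurd h2 (by norm_num)

/-- Restriction of the differentials is injective on a chart with free differentials. -/
theorem eq_zero_of_res_eq_zero {S : Scheme.{u}} [IsAffine S] [Subsingleton S] {q : X ⟶ S} [QuasiSeparated q]
    [SmoothOfRelativeDimension 1 q] {U W : X.Opens} (hU : IsAffineOpen U) [Nonempty U]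
    (hs : letI := algR q U; Algebra.IsStandardSmoothOfRelativeDimension 1 Γ(S, ⊤) Γ(X, U))
    (hW : Nonempty W) (e : W ≤ U) {η : Γ(Omega.sheaf q, U)}
    (h : (Omega.sheaf q).presheaf.map (homOfLE e).op η = 0) : η = 0 := by
  obtain ⟨⟨w, hw⟩⟩ := hW
  obtain ⟨g, hg, hwg⟩ := hU.exists_basicOpen_le (V := W) ⟨w, hw⟩ (e hw)
  have h0 : (Omega.sheaf q).presheaf.map (homOfLE (X.basicOpen_le g)).op η = 0 := by
    rw [← H11Aff.DirImg.res_res (Omega.sheaf q) e hg (X.basicOpen_le g), h, map_zero]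
  obtain ⟨n, hn⟩ := H29Blow.exists_pow_smul_eq_zero (Omega.sheaf q)
    (H29Omega.isQCoh_sheaf q) hU g η h0
  have hg0 : g ^ n ≠ 0 := pow_ne_zero n fun h => by rw [h, Scheme.basicOpen_zero] at hwg; exact hwg
  letI := algR q U
  obtain ⟨β⟩ := exists_basis_omega (p := q) hs
  apply (omEquiv q U hU).symm.injective
  rw [map_zero]
  refine β.ext_elem fun i => ?_
  have h1 := congrArg (fun z => β.repr ((omEquiv q U hU).symm z) i) hn
  simp only [map_smul, map_zero, Finsupp.smul_apply, smul_eq_mul, Finsupp.zero_apply, mul_eq_zero] at h1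
  rw [h1.resolve_left hg0, map_zero, Finsupp.zero_apply]

theorem exists_chart_function [QuasiSeparated p] (hdim : topologicalKrullDim X = 1) :
    ∃ (U : X.Opens) (hU : IsAffineOpen U) (_ : Nonempty U) (t : Γ(X, U)),
      (letI := algR p U;
        Algebra.IsStandardSmoothOfRelativeDimension 1 Γ(Spec (CommRingCat.of k), ⊤) Γ(X, U)) ∧
      OmegaSh.dSect p U t ≠ 0 ∧ (letI := algK p U; Transcendental k t) := by
  haveI : SmoothOfRelativeDimension 1 p := H27CurveDiv.smoothOfRelativeDimension_of_dim p 1 hdim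
  obtain ⟨U₀, hU₀, hxU₀, -⟩ := exists_isAffineOpen_mem_and_subset (U := (⊤ : X.Opens)) (x := genericPoint X) trivial
  obtain ⟨g, hxg, hg⟩ := exists_stdSmooth_basicOpen p hU₀ _ hxU₀
  let U := X.basicOpen g
  have hU : IsAffineOpen U := hU₀.basicOpen g
  haveI hne : Nonempty U := ⟨⟨_, hxg⟩⟩
  letI := algK p U
  obtain ⟨x, hx⟩ : ∃ x : Γ(X, U), Transcendental k x := by
    by_contra h
    simp only [not_exists, Transcendental, not_not] at h
    haveI : Algebra.IsAlgebraic k Γ(X, U) := ⟨h⟩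
    exact not_isField_sections p hdim U hU
      (isField_of_isIntegral_of_isField' (R := k) (S := Γ(X, U)) (Field.toIsField k))
  by_cases hxd : OmegaSh.dSect p U x = 0
  · obtain ⟨a, ha⟩ : ∃ a : Γ(X, U), OmegaSh.dSect p U a ≠ 0 := by
      by_contra h
      simp only [not_exists, not_not] at h
      obtain ⟨β⟩ := exists_basis_omega (p := p) hg
      letI := algR p U
      refine β.ne_zero 0 ((omEquiv p U hU).injective ?_)
      rw [LinearEquiv.map_zero]
      have h1 := eq_zero_of_smul_dSect p hU (AddMonoidHom.id Γ(Omega.sheaf p, U))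
        (fun c b => by rw [h b, smul_zero, map_zero]) (omEquiv p U hU (β 0))
      exact h1
    by_cases hat : Transcendental k a
    · exact ⟨U, hU, hne, a, hg, ha, hat⟩
    · refine ⟨U, hU, hne, a + x, hg, ?_, fun halg => hx ?_⟩
      · rw [OmegaSh.dSect_add, hxd, add_zero]; exact ha
      · rw [show x = (a + x) - a by ring]
        exact halg.sub (not_not.1 hat)
  · exact ⟨U, hU, hne, x, hg, hxd, hx⟩

open Polynomial in
theorem exists_morphism_line [IsProper p] (hdim : topologicalKrullDim X = 1) :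
    ∃ f : X ⟶ CohB1.ProjSpace 1 k, f ≫ CohB1.ProjSpace.toSpec 1 k = p ∧ IsFinite f ∧ Flat f ∧
      (∀ [IrreducibleSpace (CohB1.ProjSpace 1 k)], f (genericPoint X) = genericPoint (CohB1.ProjSpace 1 k)) ∧
      ∀ V : (CohB1.ProjSpace 1 k).Opens, IsAffineOpen V → Nonempty V →
        ∃ a : Γ(CohB1.ProjSpace 1 k, V), OmegaSh.dSect p (f ⁻¹ᵁ V) (f.app V a) ≠ 0 := by
  obtain ⟨U, hU, hne, t, hs, hdt, htr⟩ := exists_chart_function p hdim
  haveI := hne
  haveI : SmoothOfRelativeDimension 1 p := H27CurveDiv.smoothOfRelativeDimension_of_dim p 1 hdim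
  obtain ⟨hint, hnorm, hPdim⟩ := H28Curve.projLine_facts k
  haveI := hint
  haveI : IsLocallyNoetherian (CohB1.ProjSpace 1 k) :=
    LocallyOfFiniteType.isLocallyNoetherian (CohB1.ProjSpace.toSpec 1 k)
  letI := algK p U
  let θ : CommRingCat.of k[X] ⟶ Γ(X, U) := CommRingCat.ofHom (Polynomial.aeval t).toRingHom
  let h : U.toScheme ⟶ CohB1.ProjSpace 1 k := hU.isoSpec.hom ≫ Spec.map θ ≫ H17.RatCurve.lineChart k
  have hfrom : hU.fromSpec ≫ p = Spec.map ((Scheme.ΓSpecIso (CommRingCat.of k)).inv ≫ p.appLE ⊤ U le_top) := by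
    have := IsAffineOpen.SpecMap_appLE_fromSpec p (isAffineOpen_top _) hU le_top
    rw [← this, Spec.map_comp, IsAffineOpen.fromSpec_top, Scheme.isoSpec_Spec_inv]
  have hh : h ≫ CohB1.ProjSpace.toSpec 1 k = U.ι ≫ p := by
    rw [Category.assoc, Category.assoc, H17.RatCurve.lineChart_toSpec, ← Spec.map_comp]
    rw [← hU.isoSpec.hom_inv_id_assoc (U.ι ≫ p)]
    refine congrArg (hU.isoSpec.hom ≫ ·) ?_
    rw [← Category.assoc, hU.isoSpec_inv_ι, hfrom]
    refine congrArg Spec.map (CommRingCat.hom_ext (RingHom.ext fun c => ?_))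
    show Polynomial.aeval t (algebraMap k k[X] c) = _
    rw [AlgHom.commutes]
    rfl
  obtain ⟨W, hW, g, hg, hres, hcod⟩ := H28Neron.exists_extension_off_codim_two p
    (CohB1.ProjSpace.toSpec 1 k) U (U.2.dense (Set.nonempty_coe_sort.1 hne)) h hh
  have htop : W = ⊤ := top_le_iff.1 fun x _ => by
    by_contra hx
    have := (hcod x hx).trans ((H8Props.FlatDimOneBase.ringKrullDim_stalk_le _ x).trans hdim.le)
    exact absurd (show 2 ≤ 1 by exact_mod_cast this) (by omega)
  subst htop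
  let f : X ⟶ CohB1.ProjSpace 1 k := (Scheme.topIso _).inv ≫ g
  have hf : f ≫ CohB1.ProjSpace.toSpec 1 k = p := by
    rw [Category.assoc, hg]
    exact (Scheme.topIso _).inv_hom_id_assoc _
  have hfU : U.ι ≫ f = h := by
    rw [← hres, ← X.homOfLE_ι hW, Category.assoc]
    exact congrArg _ ((Scheme.topIso _).hom_inv_id_assoc g)
  have hθ : Function.Injective θ := transcendental_iff_injective.1 htr
  -- dominance
  have hη : f (genericPoint X) = genericPoint (CohB1.ProjSpace 1 k) := by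
    have hg1 : genericPoint X ∈ U := ((genericPoint_spec X).mem_open_set_iff U.isOpen).2
      (by obtain ⟨⟨y, hy⟩⟩ := hne; exact ⟨y, trivial, hy⟩)
    rw [← genericPoint_eq_of_isOpenImmersion hU.fromSpec, ← Scheme.Hom.comp_apply, ← hU.isoSpec_inv_ι,
      Category.assoc, hfU, Iso.inv_hom_id_assoc, Scheme.Hom.comp_apply,
      ← genericPoint_eq_of_isOpenImmersion (H17.RatCurve.lineChart k)]
    congr 1
    rw [genericPoint_eq_bot_of_affine, genericPoint_eq_bot_of_affine]
    exact PrimeSpectrum.ext (Ideal.comap_bot_of_injective θ.hom hθ)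
  have hfin : IsFinite f := by
    haveI : IsProper (f ≫ CohB1.ProjSpace.toSpec 1 k) := by rw [hf]; infer_instance
    haveI : IsSeparated (CohB1.ProjSpace.toSpec 1 k) := inferInstance
    haveI : IsProper f := MorphismProperty.of_postcomp (W := @IsProper) (W' := @IsSeparated) f (CohB1.ProjSpace.toSpec 1 k) inferInstance inferInstance
    haveI := H29Curve.locallyQuasiFinite_of_nontrivial p (CohB1.ProjSpace.toSpec 1 k) f hf hdim.le
      (H29Curve.nontrivial_range_of_dominant p (CohB1.ProjSpace.toSpec 1 k) f hf hη hPdim)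
    exact IsFinite.of_isProper_of_locallyQuasiFinite f
  have hflat : Flat f := H29Curve.flat_of_dominant_normal f hη (fun y => (hnorm y).2) hPdim.le
  refine ⟨f, hf, hfin, hflat, fun {_} => hη, fun V hV hVne => ?_⟩
  -- the differential of the coordinate
  let V₀ := (H17.RatCurve.lineChart k).opensRange
  have hV₀ : IsAffineOpen V₀ := isAffineOpen_opensRange _
  let e₀ : Spec (CommRingCat.of k[X]) ⟶ Spec Γ(CohB1.ProjSpace 1 k, V₀) :=
    IsOpenImmersion.lift hV₀.fromSpec (H17.RatCurve.lineChart k) (by rw [hV₀.range_fromSpec]; rfl)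
  have he₀ : e₀ ≫ hV₀.fromSpec = H17.RatCurve.lineChart k := IsOpenImmersion.lift_fac _ _ _
  haveI : IsIso e₀ := by
    haveI : IsOpenImmersion (e₀ ≫ hV₀.fromSpec) := by rw [he₀]; infer_instance
    haveI : IsOpenImmersion e₀ := IsOpenImmersion.of_comp e₀ hV₀.fromSpec
    haveI : Epi e₀.base := (TopCat.epi_iff_surjective _).2 fun y => by
      obtain ⟨z, hz⟩ := (show hV₀.fromSpec y ∈ Set.range (H17.RatCurve.lineChart k) by
        have : hV₀.fromSpec y ∈ Set.range hV₀.fromSpec := ⟨y, rfl⟩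
        rwa [hV₀.range_fromSpec] at this)
      refine ⟨z, hV₀.fromSpec.isOpenEmbedding.injective ?_⟩
      rw [← Scheme.Hom.comp_apply, he₀, hz]
    exact IsOpenImmersion.isIso e₀
  have hle : U ≤ f ⁻¹ᵁ V₀ := fun y hy => by
    refine ⟨(hU.isoSpec.hom ≫ Spec.map θ) ⟨y, hy⟩, ?_⟩
    rw [← Scheme.Hom.comp_apply, Category.assoc]
    exact congr($(hfU.symm) ⟨y, hy⟩)
  have happ : f.appLE V₀ U hle = Spec.preimage e₀ ≫ θ := by
    refine Spec.map_injective ((cancel_mono hV₀.fromSpec).1 ?_)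
    rw [IsAffineOpen.SpecMap_appLE_fromSpec f hV₀ hU, Spec.map_comp, Spec.map_preimage, Category.assoc, he₀,
      ← hU.isoSpec_inv_ι, Category.assoc, hfU, Iso.inv_hom_id_assoc]
  haveI : IsIso (Spec.preimage e₀) := by
    haveI : IsIso (Scheme.Spec.map (Spec.preimage e₀).op) := by
      show IsIso (Spec.map (Spec.preimage e₀))
      rw [Spec.map_preimage]; infer_instance
    haveI : IsIso (Spec.preimage e₀).op := isIso_of_fully_faithful Scheme.Spec _
    exact isIso_of_op _
  obtain ⟨a₀, ha₀⟩ := ((ConcreteCategory.bijective_of_isIso (Spec.preimage e₀)).2 Polynomial.X)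
  have ht : f.appLE V₀ U hle a₀ = t := by
    rw [happ, CommRingCat.comp_apply, ha₀]
    exact Polynomial.aeval_X t
  by_contra hcon
  simp only [not_exists, not_not] at hcon
  haveI : QuasiSeparated p := inferInstance
  obtain ⟨⟨y, hy⟩⟩ := hVne
  have hgen : genericPoint (CohB1.ProjSpace 1 k) ∈ V :=
    ((genericPoint_spec _).mem_open_set_iff V.isOpen).2 ⟨y, trivial, hy⟩
  have hgen₀ : genericPoint (CohB1.ProjSpace 1 k) ∈ V₀ :=
    ((genericPoint_spec _).mem_open_set_iff V₀.isOpen).2 ⟨_, trivial, ⟨Classical.arbitrary _, rfl⟩⟩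
  obtain ⟨g₁, g₂, hgg, hgη⟩ := exists_basicOpen_le_affine_inter hV hV₀ _ ⟨hgen, hgen₀⟩
  let D := (CohB1.ProjSpace 1 k).basicOpen g₁
  have hDV₀ : D ≤ V₀ := hgg.le.trans (Scheme.basicOpen_le _ g₂)
  have hD : ∀ s : Γ(CohB1.ProjSpace 1 k, D), OmegaSh.dSect p (f ⁻¹ᵁ D) (f.app D s) = 0 := fun s => by
    haveI := hV.isLocalization_basicOpen g₁
    obtain ⟨n, a, ha⟩ := IsLocalization.Away.surj g₁ s
    rw [RingHom.algebraMap_toAlgebra] at ha
    have hres : ∀ b : Γ(CohB1.ProjSpace 1 k, V),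
        OmegaSh.dSect p (f ⁻¹ᵁ D) (f.app D ((CohB1.ProjSpace 1 k).presheaf.map
          (homOfLE ((CohB1.ProjSpace 1 k).basicOpen_le g₁)).op b)) = 0 := fun b => by
      have hn : f.app D ((CohB1.ProjSpace 1 k).presheaf.map
          (homOfLE ((CohB1.ProjSpace 1 k).basicOpen_le g₁)).op b) =
        X.presheaf.map (homOfLE (f.preimage_mono ((CohB1.ProjSpace 1 k).basicOpen_le g₁))).op (f.app V b) :=
        congr($(f.naturality (homOfLE ((CohB1.ProjSpace 1 k).basicOpen_le g₁)).op) b)
      rw [hn, dSect_res, hcon, map_zero]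
    have h1 : OmegaSh.dSect p (f ⁻¹ᵁ D) (f.app D (s * (CohB1.ProjSpace 1 k).presheaf.map
        (homOfLE ((CohB1.ProjSpace 1 k).basicOpen_le g₁)).op (g₁ ^ n))) = 0 := by
      rw [map_pow, ha]; exact hres a
    rw [map_mul, OmegaSh.dSect_mul, hres, smul_zero, zero_add] at h1
    have hu : IsUnit (f.app D ((CohB1.ProjSpace 1 k).presheaf.map
        (homOfLE ((CohB1.ProjSpace 1 k).basicOpen_le g₁)).op (g₁ ^ n))) := by
      rw [map_pow]
      exact ((RingedSpace.isUnit_res_basicOpen (CohB1.ProjSpace 1 k).toRingedSpace g₁).pow n).map (f.app D).hom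
    exact hu.smul_left_cancel.1 (h1.trans (smul_zero _).symm)
  have hWne : Nonempty ↥(U ⊓ f ⁻¹ᵁ D) := by
    refine ⟨⟨genericPoint X, ((genericPoint_spec X).mem_open_set_iff U.isOpen).2 ?_, ?_⟩⟩
    · obtain ⟨⟨z, hz⟩⟩ := hne; exact ⟨z, trivial, hz⟩
    · show f (genericPoint X) ∈ D
      rw [hη]; exact hgη
  refine hdt (eq_zero_of_res_eq_zero (q := p) hU hs hWne inf_le_left ?_)
  rw [← ht, ← dSect_res]
  have key : X.presheaf.map (homOfLE (inf_le_left : U ⊓ f ⁻¹ᵁ D ≤ U)).op (f.appLE V₀ U hle a₀) =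
      X.presheaf.map (homOfLE (inf_le_right : U ⊓ f ⁻¹ᵁ D ≤ f ⁻¹ᵁ D)).op
        (f.app D ((CohB1.ProjSpace 1 k).presheaf.map (homOfLE hDV₀).op a₀)) := by
    have hn : f.app D ((CohB1.ProjSpace 1 k).presheaf.map (homOfLE hDV₀).op a₀) =
        X.presheaf.map (homOfLE (f.preimage_mono hDV₀)).op (f.app V₀ a₀) :=
      congr($(f.naturality (homOfLE hDV₀).op) a₀)
    rw [hn, H11Aff.DirImg.res_resX _ _ ((inf_le_right : U ⊓ f ⁻¹ᵁ D ≤ f ⁻¹ᵁ D).trans (f.preimage_mono hDV₀)),
      Scheme.Hom.appLE, CommRingCat.comp_apply]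
    exact H11Aff.DirImg.res_resX _ _ _ _
  rw [key, dSect_res, hD, map_zero]

end Groth.Agent.H29CurveDual
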