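import Groth.Agent.H29CurveDual.OmegaInv
import Groth.Agent.H10Coh.Proj.TwistQuot
import Groth.Agent.H10Coh.Pn.Global
import Groth.Agent.H11Proj.ProjSpace
import Groth.Agent.H25RankTwo

/-!
# The differentials of the projective line
-/

set_option autoImplicit false
set_option linter.style.haveILetI false

universe u

open CategoryTheory CategoryTheory.Limits AlgebraicGeometry TopologicalSpace Opposite MvPolynomial
open Groth.Agent.H10Coh

namespace Groth.Agent.H29CurveDual

variable (k : Type u) [Field k]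

/-- The chart of a variable. -/
noncomputable abbrev line (i : Fin (1 + 1)) : (Proj (Pn.Gr 1 k)).Opens := Proj.basicOpen (Pn.Gr 1 k) (X i)

/-- The quotient of two variables. -/
noncomputable def coord (i j : Fin (1 + 1)) : Γ(Proj (Pn.Gr 1 k), line k i) :=
  ProjQ.ratioEq (Pn.Gr 1 k) (H11Proj.ProjSpace.X_mem 1 k i) (H11Proj.ProjSpace.X_mem 1 k j)

theorem coord_mul {V : (Proj (Pn.Gr 1 k)).Opens} (i j : Fin (1 + 1)) (hi : V ≤ line k i) (hj : V ≤ line k j) :
    (Proj (Pn.Gr 1 k)).presheaf.map (homOfLE hi).op (coord k i j) *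
      (Proj (Pn.Gr 1 k)).presheaf.map (homOfLE hj).op (coord k j i) = 1 := by
  refine H11Tilde.fval_ext _ fun x => ?_
  rw [coord, coord, H11Tilde.fval_mul, H11Tilde.fval_map, H11Tilde.fval_map, ProjQ.fval_ratioEq, ProjQ.fval_ratioEq,
    H11Tilde.fval_one, Localization.mk_mul, ← Localization.mk_one]
  exact Localization.mk_eq_mk_iff.2 (Localization.r_iff_exists.2 ⟨1, by simp; ring⟩)

theorem coord_self (i : Fin (1 + 1)) : coord k i i = 1 := by
  refine H11Tilde.fval_ext _ fun x => ?_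
  rw [coord, ProjQ.fval_ratioEq, H11Tilde.fval_one]
  haveI := x.1.isPrime
  exact Localization.mk_self (⟨_, x.2⟩ : x.1.asHomogeneousIdeal.toIdeal.primeCompl)

theorem awayToSection_chartMap_X (i : Fin (1 + 1)) (j : {j : Fin (1 + 1) // j ≠ i}) :
    Proj.awayToSection (Pn.Gr 1 k) (X i) (H11Proj.ProjSpace.chartMap 1 k i (X j)) = coord k i j.1 := by
  unfold coord ProjQ.ratioEq
  refine congrArg (Proj.awayToSection (Pn.Gr 1 k) (X i)).hom (HomogeneousLocalization.val_injective _ ?_)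
  rw [H11Proj.ProjSpace.chartMap, eval₂Hom_X', HomogeneousLocalization.val_mk, HomogeneousLocalization.Away.val_mk]
  exact congrArg (Localization.mk _) (Subtype.ext (pow_one _).symm)

theorem awayToSection_chartMap_C (i : Fin (1 + 1)) (c : k) :
    Proj.awayToSection (Pn.Gr 1 k) (X i) (H11Proj.ProjSpace.chartMap 1 k i (C c)) =
      (Proj (Pn.Gr 1 k)).presheaf.map (homOfLE (le_top : line k i ≤ ⊤)).op (Pn.constΓ c) := by
  rw [Pn.constΓ_awayToSection (H11Proj.ProjSpace.X_mem 1 k i) one_pos]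
  refine congrArg (Proj.awayToSection (Pn.Gr 1 k) (X i)).hom ?_
  rw [H11Proj.ProjSpace.chartMap, eval₂Hom_C]
  rfl

theorem dSect_constant {Z S : Scheme.{u}} [IsAffine S] (p : Z ⟶ S) [QuasiSeparated p] (U : Z.Opens) (c : Γ(S, ⊤)) :
    OmegaSh.dSect p U (Z.presheaf.map (homOfLE (le_top : U ≤ ⊤)).op (p.appTop c)) = 0 := by
  rw [dSect_res]
  exact (congrArg _ (OmegaSh.dSect_app p ⊤ c)).trans (map_zero _)

variable [QuasiSeparated (Pn.toS 1 k)]

/-- The coordinates generate the differentials on the charts. -/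
theorem mem_span_dSect_coord (i : Fin (1 + 1)) (η : Γ(Omega.sheaf (Pn.toS 1 k), line k i)) :
    η ∈ Submodule.span Γ(Proj (Pn.Gr 1 k), line k i)
      (Set.range fun j => OmegaSh.dSect (Pn.toS 1 k) (line k i) (coord k i j)) := by
  let q := Pn.toS 1 k
  have hU : IsAffineOpen (line k i) :=
    Proj.isAffineOpen_basicOpen _ _ (H11Proj.ProjSpace.X_mem 1 k i) one_pos
  have hmem : η ∈ Submodule.span Γ(Proj (Pn.Gr 1 k), line k i) (Set.range (OmegaSh.dSect q (line k i))) := by
    rw [span_dSect q (line k i) hU]; trivial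
  refine (Submodule.span_le.2 ?_) hmem
  rintro _ ⟨s, rfl⟩
  have hiso : IsIso (Proj.awayToSection (Pn.Gr 1 k) (X i)) :=
    (Proj.basicOpenIsoAway (Pn.Gr 1 k) (X i) (H11Proj.ProjSpace.X_mem 1 k i) one_pos).isIso_hom
  obtain ⟨z, rfl⟩ := (ConcreteCategory.bijective_of_isIso (Proj.awayToSection (Pn.Gr 1 k) (X i))).2 s
  obtain ⟨P, rfl⟩ := (H11Proj.ProjSpace.chartMap_bijective 1 k i).2 z
  induction P using MvPolynomial.induction_on with
  | C c =>
    rw [awayToSection_chartMap_C]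
    exact (dSect_constant q (line k i) ((Scheme.ΓSpecIso (CommRingCat.of k)).inv c)).symm ▸ Submodule.zero_mem _
  | add P Q hP hQ =>
    rw [map_add, map_add, OmegaSh.dSect_add]
    exact Submodule.add_mem _ hP hQ
  | mul_X P j hP =>
    rw [map_mul, map_mul, OmegaSh.dSect_mul]
    refine Submodule.add_mem _ (Submodule.smul_mem _ _ ?_) (Submodule.smul_mem _ _ hP)
    rw [awayToSection_chartMap_X]
    exact Submodule.subset_span ⟨j.1, rfl⟩

/-- `O(-2)` is the module of differentials of the line. -/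
theorem nonempty_omega_line_iso [IsIntegral (Proj (Pn.Gr 1 k))] [SmoothOfRelativeDimension 1 (Pn.toS 1 k)]
    [IsLocallyNoetherian (Proj (Pn.Gr 1 k))] :
    Nonempty (Pn.Od 1 k (-((2 * 1 : ℕ) : ℤ)) ≅ Omega.sheaf (Pn.toS 1 k)) := by
  let q := Pn.toS 1 k
  let Ω := Omega.sheaf q
  let sgn : Fin (1 + 1) → ℤ := ![1, -1]
  let v : ∀ i, Γ(Ω, line k i) := fun i => sgn i • OmegaSh.dSect q (line k i) (coord k i (i + 1))
  have hg : ∀ i : Fin (1 + 1), (X i : MvPolynomial (Fin (1 + 1)) k) ∈ Pn.Gr 1 k 1 := fun i =>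
    H11Proj.ProjSpace.X_mem 1 k i
  have hcov : ∀ x : Proj (Pn.Gr 1 k), ∃ i, x ∈ line k i := fun x =>
    Opens.mem_iSup.1 (show x ∈ ⨆ i : Fin (1 + 1), line k i from
      (H11Proj.ProjSpace.iSup_basicOpen 1 k).ge trivial)
  obtain ⟨φ, hφ⟩ := exists_hom_of_gens (Pn.Od 1 k (-((2 * 1 : ℕ) : ℤ))) Ω (line k) hcov
    (fun i => ProjQ.invGen (Pn.Gr 1 k) (hg i) 2) (fun i => ProjQ.isFreeGen_invGen (Pn.Gr 1 k) (hg i) 2) v
    (fun j l V hj hl c hc => by
      have hc' : c = (Proj (Pn.Gr 1 k)).presheaf.map (homOfLE hj).op (coord k j l) ^ 2 :=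
        (ProjQ.isFreeGen_invGen (Pn.Gr 1 k) (hg l) 2 V hl).1
          (hc.symm.trans (ProjQ.invGen_change (Pn.Gr 1 k) (hg j) (hg l) 2 V hj hl))
      rw [hc']
      have hd : ∀ (a : Fin (1 + 1)) (b : Fin (1 + 1)) (ha : V ≤ line k a) (hb : V ≤ line k b),
          Ω.presheaf.map (homOfLE ha).op (OmegaSh.dSect q (line k a) (coord k a b)) =
            -((Proj (Pn.Gr 1 k)).presheaf.map (homOfLE ha).op (coord k a b) ^ 2 •
              Ω.presheaf.map (homOfLE hb).op (OmegaSh.dSect q (line k b) (coord k b a))) := by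
        intro a b ha hb
        rw [← dSect_res, ← dSect_res]
        have h1 := congrArg (OmegaSh.dSect q V) (coord_mul k a b ha hb)
        rw [OmegaSh.dSect_mul, H17.PrinOmega.dSect_one] at h1
        have h2 := congrArg ((Proj (Pn.Gr 1 k)).presheaf.map (homOfLE ha).op (coord k a b) • ·) h1
        simp only [smul_add, smul_smul, smul_zero, coord_mul k a b ha hb, one_smul] at h2
        rw [eq_neg_iff_add_eq_zero, sq]
        exact (add_comm _ _).trans h2
      fin_cases j <;> fin_cases l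
      · simp only [v, coord_self, map_one, one_pow, one_smul]
      · simp only [v, sgn, map_zsmul]
        simpa using hd 0 1 hj hl
      · simp only [v, sgn, map_zsmul]
        simpa [neg_smul, smul_neg] using congrArg (fun z => -z) (hd 1 0 hj hl)
      · simp only [v, coord_self, map_one, one_pow, one_smul])
  have hepi : Epi φ := by
    refine epi_of_surjective_on_cover φ (H29Omega.isQCoh_sheaf q) (line k)
      (fun i => Proj.isAffineOpen_basicOpen _ _ (hg i) one_pos) hcov fun i => ⟨Set.range fun j =>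
        OmegaSh.dSect q (line k i) (coord k i j), eq_top_iff.2 fun η _ => mem_span_dSect_coord k i η, ?_⟩
    rintro _ ⟨j, rfl⟩
    by_cases hji : j = i
    · subst hji
      exact ⟨0, by simp [coord_self, H17.PrinOmega.dSect_one]⟩
    · refine ⟨sgn i • ProjQ.invGen (Pn.Gr 1 k) (hg i) 2, ?_⟩
      rw [map_zsmul, hφ]
      have hj : j = i + 1 := by
        fin_cases i <;> fin_cases j <;> simp_all
      subst hj
      simp only [v, smul_smul]
      have hs : sgn i * sgn i = 1 := by fin_cases i <;> simp [sgn]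
      rw [hs, one_smul]
  have hΩ := isInvertible_omega q
  have hOd : PicF.IsInvertible (Pn.Od 1 k (-((2 * 1 : ℕ) : ℤ))) :=
    (H10Coh.Stab.isTwistFamily_projSpace 1 k).inv _
  rcases H25RankTwo.eq_zero_or_mono hOd hΩ φ with h0 | hmono
  · exfalso
    obtain ⟨x⟩ : Nonempty (Proj (Pn.Gr 1 k)) := inferInstance
    obtain ⟨i, hi⟩ := hcov x
    haveI : Nonempty (line k i) := ⟨⟨x, hi⟩⟩
    have hU : IsAffineOpen (line k i) := Proj.isAffineOpen_basicOpen _ _ (hg i) one_pos
    obtain ⟨g, hxg, hs⟩ := exists_stdSmooth_basicOpen q hU x hi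
    haveI : Nonempty ((Proj (Pn.Gr 1 k)).basicOpen g) := ⟨⟨x, hxg⟩⟩
    obtain ⟨β⟩ := exists_basis_omega (p := q) hs
    letI := algR q ((Proj (Pn.Gr 1 k)).basicOpen g)
    have hz : IsZero Ω := by
      subst h0
      exact (IsZero.iff_id_eq_zero _).2 (by rw [← cancel_epi (0 : Pn.Od 1 k (-((2 * 1 : ℕ) : ℤ)) ⟶ Ω)]; simp)
    refine β.ne_zero 0 ((omEquiv q _ (hU.basicOpen g)).injective ?_)
    rw [LinearEquiv.map_zero]
    exact congr($(congrArg (fun t : Ω ⟶ Ω => t.app ((Proj (Pn.Gr 1 k)).basicOpen g)) ((IsZero.iff_id_eq_zero Ω).1 hz))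
      (omEquiv q _ (hU.basicOpen g) (β 0)))
  · exact ⟨@asIso _ _ _ _ φ (isIso_of_mono_of_epi φ)⟩

end Groth.Agent.H29CurveDual
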