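import Groth.Agent.H29CurveDual.PushH1
import Groth.Agent.H29CurveDual.Facts
import Groth.Agent.H29CurveDual.OmegaP1

/-!
# Serre duality for smooth proper curves with the module of differentials
-/

set_option autoImplicit false
set_option linter.style.haveILetI false

universe u

open CategoryTheory CategoryTheory.Limits AlgebraicGeometry TopologicalSpace Opposite
open Groth.Agent.H10Coh

namespace Groth.Agent.H29CurveDual

attribute [local instance 10000] hasSheafifyAb hasWeakSheafifyAb hasExtAb enoughInjAb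

variable {k : Type u} [Field k]

noncomputable local instance overLine : (Proj (Pn.Gr 1 k)).Over (Spec (CommRingCat.of k)) := ⟨Pn.toS 1 k⟩

theorem repDual_of_iso {X : Scheme.{u}} [X.Over (Spec (CommRingCat.of k))] {ω ω' : X.Modules} (e : ω ≅ ω')
    {q : ℕ} {t : Coh.HH X ω q →ₗ[k] k} {F : X.Modules} (h : H29Serre.RepDual t F) :
    H29Serre.RepDual (t ∘ₗ Canon.HHlin k e.inv q) F := by
  intro ψ
  obtain ⟨φ, hφ, huniq⟩ := h ψ
  refine ⟨φ ≫ e.hom, ?_, fun φ' hφ' => ?_⟩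
  · dsimp only
    rw [LinearMap.comp_assoc, ← H29Serre.lin_comp, Category.assoc, Iso.hom_inv_id, Category.comp_id]
    exact hφ
  · have := huniq (φ' ≫ e.inv) (by dsimp only at hφ' ⊢; rw [hφ', LinearMap.comp_assoc, ← H29Serre.lin_comp])
    rw [← this, Category.assoc, Iso.inv_hom_id, Category.comp_id]

/-- Duality transferred from the base of a finite flat morphism of curves. -/
theorem exists_dual_of_morphism {X Y : Scheme.{u}} [X.Over (Spec (CommRingCat.of k))]
    [Y.Over (Spec (CommRingCat.of k))] [IsIntegral X] [IsIntegral Y] [IsLocallyNoetherian Y]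
    (f : X ⟶ Y) [IsFinite f] [Flat f] (p : X ⟶ Spec (CommRingCat.of k)) (q : Y ⟶ Spec (CommRingCat.of k))
    [SmoothOfRelativeDimension 1 p] [SmoothOfRelativeDimension 1 q] [QuasiSeparated q] [QuasiSeparated p]
    (hp : X ↘ Spec (CommRingCat.of k) = p) (hq : Y ↘ Spec (CommRingCat.of k) = q) (hf : f ≫ q = p)
    (hη : f (genericPoint X) = genericPoint Y) (hdim : topologicalKrullDim X ≤ 1)
    (hdf : ∀ V : Y.Opens, IsAffineOpen V → Nonempty V → ∃ a : Γ(Y, V), OmegaSh.dSect p (f ⁻¹ᵁ V) (f.app V a) ≠ 0)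
    (t' : Coh.HH Y (Omega.sheaf q) 1 →ₗ[k] k) (ht' : ∀ F : Y.Modules, Coh.IsCoh F → H29Serre.RepDual t' F) :
    ∃ t : Coh.HH X (Omega.sheaf p) 1 →ₗ[k] k, ∀ E : X.Modules, Coh.IsCoh E → H29Serre.RepDual t E := by
  subst hf
  haveI : Smooth (f ≫ q) := SmoothOfRelativeDimension.smooth 1 _
  obtain ⟨τ, hτ⟩ := exists_omegaTrace (f := f) (q := q) hη
    (fun U hU hne => isDedekindDomain_of_smooth (f ≫ q) hdim U hU hne) hdf
  haveI : (Omega.sheaf (f ≫ q)).IsQuasicoherent := H29Omega.isQCoh_sheaf (f ≫ q)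
  have hcomp : f ≫ (Y ↘ Spec (CommRingCat.of k)) = X ↘ Spec (CommRingCat.of k) := by rw [hp, hq]
  obtain ⟨t, ht⟩ := exists_repDual_of_push f hcomp (n := 1) τ t'
  exact ⟨t, fun E hE => ht E hE.1 (ht' _ (H10Coh.isCoh_push_of_isFinite f E hE))
    (fun ψ => existsUnique_lift (f := f) (q := q) hτ hE.1 ψ)⟩

/-- `Ω` of the projective line represents the dual of `H¹` on coherent modules. -/
theorem exists_dual_line [IsIntegral (Proj (Pn.Gr 1 k))] [IsLocallyNoetherian (Proj (Pn.Gr 1 k))]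
    [QuasiSeparated (Pn.toS 1 k)] [SmoothOfRelativeDimension 1 (Pn.toS 1 k)] :
    ∃ t : Coh.HH (Proj (Pn.Gr 1 k)) (Omega.sheaf (Pn.toS 1 k)) 1 →ₗ[k] k,
      ∀ F : (Proj (Pn.Gr 1 k)).Modules, Coh.IsCoh F → H29Serre.RepDual t F := by
  obtain ⟨e⟩ := nonempty_omega_line_iso k
  let e' : Pn.Od 1 k (-(((1 : ℕ) : ℤ) + 1)) ≅ Omega.sheaf (Pn.toS 1 k) :=
    eqToIso (congrArg (Pn.Od 1 k) (by norm_num)) ≪≫ e
  exact ⟨_, fun F hF => repDual_of_iso e' (H29Serre.repDual_coherent 1 F hF)⟩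

/-- Serre duality: on a smooth proper curve the differentials represent the dual of `H¹` on coherent modules. -/
theorem exists_dual (X : Scheme.{u}) [X.Over (Spec (CommRingCat.of k))] [IsIntegral X]
    [IsProper (X ↘ Spec (CommRingCat.of k))] [Smooth (X ↘ Spec (CommRingCat.of k))]
    (hdim : topologicalKrullDim X = 1) :
    ∃ t : Coh.HH X (Omega.sheaf (X ↘ Spec (CommRingCat.of k))) 1 →ₗ[k] k,
      ∀ E : X.Modules, Coh.IsCoh E → H29Serre.RepDual t E := by
  let p := X ↘ Spec (CommRingCat.of k)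
  haveI : SmoothOfRelativeDimension 1 p := H27CurveDiv.smoothOfRelativeDimension_of_dim p 1 hdim
  obtain ⟨hint, -, hPdim⟩ := H28Curve.projLine_facts k
  obtain ⟨f, hf, hfin, hflat, hη, hdf⟩ := exists_morphism_line p hdim
  haveI hintP : IsIntegral (Proj (Pn.Gr 1 k)) := hint
  haveI : Smooth (Pn.toS 1 k) := H26Smooth.smooth_toSpec 1 k
  haveI : IsProper (Pn.toS 1 k) := H27Weil.isProper_toSpec 1 k
  haveI : IsLocallyNoetherian (Proj (Pn.Gr 1 k)) := LocallyOfFiniteType.isLocallyNoetherian (Pn.toS 1 k)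
  haveI : SmoothOfRelativeDimension 1 (Pn.toS 1 k) :=
    H27CurveDiv.smoothOfRelativeDimension_of_dim (Pn.toS 1 k) 1 hPdim
  obtain ⟨t', ht'⟩ := exists_dual_line (k := k)
  let f' : X ⟶ Proj (Pn.Gr 1 k) := f
  haveI : IsFinite f' := hfin
  haveI : Flat f' := hflat
  exact exists_dual_of_morphism (Y := Proj (Pn.Gr 1 k)) f' p (Pn.toS 1 k) rfl rfl hf hη hdim.le hdf t' ht'

end Groth.Agent.H29CurveDual
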