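import Groth.Agent.H29RR.GenPoint

/-!
# Sections generating an invertible module at a closed point of any degree
-/

set_option autoImplicit false
set_option linter.style.haveILetI false

universe u

open CategoryTheory CategoryTheory.Limits AlgebraicGeometry Opposite TopologicalSpace
open Groth.Agent.H29RR

namespace Groth.Agent.H29CurveDual

attribute [local instance 10000] H10Coh.hasSheafifyAb H10Coh.hasWeakSheafifyAb H10Coh.hasExtAb H10Coh.enoughInjAb
attribute [local instance] Curv2.resAlgebra

variable {k : Type u} [Field k] {X : Scheme.{u}} [X.Over (Spec (CommRingCat.of k))]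
  [IsProper (X ↘ Spec (CommRingCat.of k))]

/-- Sections not all vanishing at a closed point generate there. -/
theorem exists_mem_gen_of_h0_lt {x : X} (hx : IsClosed ({x} : Set X))
    {M : X.Modules} (hM : PicF.IsInvertible M) (hI : Coh.IsCoh (ClSub.idealMod (ptIdeal x)))
    (hlt : Module.finrank k (Coh.HH X (CohB1.tensorMod (ClSub.idealMod (ptIdeal x)) M) 0) <
        Module.finrank k (Coh.HH X M 0)) : ∃ g : Γ(M, ⊤), x ∈ H11Ample.gen M g := by
  haveI := isNoetherian_of_proper (k := k) (X := X)
  let I := ptIdeal x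
  let Q := ClSub.quotMod I
  have hQc : Coh.IsCoh Q :=
    H24FSch.isCoh_pushforward_of_isClosedImmersion I.subschemeι (H10Coh.isCoh_structureModule' _)
  have hsupp : CohB1.support Q ⊆ {x} := fun y hy => by
    have := LeadProper.support_subset_range (F := Q)
      (@H10Coh.isQuasicoherent_pushforward _ _ I.subschemeι inferInstance inferInstance _ H10Coh.isQuasicoherent_unit)
      I.subschemeι (Iso.refl _) hy
    rwa [range_subscheme_pt hx] at this
  let T := (DCoh.tensorBi (X := X)).flip.obj M
  have hflat : FlatMod.IsFlat M :=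
    H16Derived.KFlat.Stalk.isFlat_of_isFinLocFree (H28Pinch.isFinLocFree_of_isInvertible hM)
  haveI := H10Coh.epi_toSubscheme I
  have hS : (ShortComplex.mk (ClSub.idealModι I) (ClSub.toSubscheme I) (kernel.condition _)).ShortExact :=
    { exact := ShortComplex.exact_kernel _
      mono_f := inferInstanceAs (Mono (kernel.ι _)) }
  have hS' := H16Derived.KFlat.Stalk.isFlatObj_of_isFlat hflat _ hS
  haveI : Mono (T.map (ClSub.idealModι I)) := hS'.mono_f
  haveI : Epi (T.map (ClSub.toSubscheme I)) := hS'.epi_g
  let u : T.obj (Coh.structureModule X) ≅ M := H10Coh.Tw.leftUnitIso M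
  let j : T.obj (ClSub.idealMod I) ⟶ M := T.map (ClSub.idealModι I) ≫ u.hom
  let q : M ⟶ T.obj Q := u.inv ≫ T.map (ClSub.toSubscheme I)
  haveI : Mono j := mono_comp _ _
  haveI : Epi q := epi_comp _ _
  have hw : j ≫ q = 0 := by
    show (T.map _ ≫ u.hom) ≫ u.inv ≫ T.map _ = 0
    rw [Category.assoc, Iso.hom_inv_id_assoc, ← T.map_comp,
      show ClSub.idealModι I ≫ ClSub.toSubscheme I = 0 from kernel.condition _, T.map_zero]
  have hS'' : (ShortComplex.mk j q hw).ShortExact :=
    ShortComplex.shortExact_of_iso (ShortComplex.isoMk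
      (S₁ := (ShortComplex.mk (ClSub.idealModι I) (ClSub.toSubscheme I) (kernel.condition _)).map T)
      (S₂ := ShortComplex.mk j q hw) (Iso.refl (T.obj (ClSub.idealMod I))) u (Iso.refl (T.obj Q))
      (show 𝟙 _ ≫ j = T.map _ ≫ u.hom from Category.id_comp _)
      (show u.hom ≫ q = T.map _ ≫ 𝟙 _ by rw [Category.comp_id]; exact Iso.hom_inv_id_assoc _ _)) hS'
  have hex := H25Par.hhlin_exact (k := k) hS''
  have hinj := hhlin_zero_injective (k := k) j
  haveI : Module.Finite k (Coh.HH X M 0) := H10Coh.finite_HH_proper k X M (H16Derived.KFlat.Stalk.isCoh_of_isFinLocFree (H28Pinch.isFinLocFree_of_isInvertible hM)) 0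
  haveI : Module.Finite k (Coh.HH X (T.obj Q) 0) :=
    H10Coh.finite_HH_proper k X _ (H11Ample.isCoh_tensor hQc hM) 0
  have hTsupp : ∀ y, y ∉ ({x} : Set X) → Subsingleton ((T.obj Q).presheaf.stalk y) := fun y hy =>
    not_not.1 fun h => hy (hsupp (H25Euler.support_tensor_subset Q M h))
  have hgerm := H25Par.germs_bijective (k := k) (T.obj Q) (Set.finite_singleton x)
    (fun z hz => by obtain rfl := hz; exact hx) hTsupp
  have hq1 : Module.finrank k (Coh.HH X (T.obj Q) 0) = Module.finrank k (X.residueField x) :=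
    (finrank_h0_tensor_of_finite_support (k := k) hM ((Set.finite_singleton x).subset hsupp)
      fun z hz => by obtain rfl := hsupp hz; exact hx).trans (finrank_h0_quotMod_pt (k := k) hx)
  have h0 := LinearMap.finrank_range_add_finrank_ker (Canon.HHlin k q 0)
  rw [show LinearMap.ker (Canon.HHlin k q 0) = LinearMap.range (Canon.HHlin k j 0) from hex,
    LinearMap.finrank_range_of_inj hinj] at h0
  have h4 := Submodule.finrank_le (LinearMap.range (Canon.HHlin k q 0))
  let qs := H06Mod.stalkLin q x
  have hdetect : ∀ v : Coh.HH X M 0, qs (M.presheaf.germ ⊤ x trivial (sec M v)) = 0 →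
      Canon.HHlin k q 0 v = 0 := by
    intro v h
    have e1 : qs (M.presheaf.germ ⊤ x trivial (sec M v)) =
        H25Par.germs (k := k) (T.obj Q) {x} (Canon.HHlin k q 0 v) ⟨x, rfl⟩ := by
      refine (H06Mod.stalkLin_germ _ _ _ _ _).trans ?_
      exact congrArg ((T.obj Q).presheaf.germ ⊤ x trivial) (sec_natural (k := k) q v).symm
    rw [e1] at h
    refine hgerm.1 ?_
    rw [map_zero]
    exact funext fun ⟨y, hy⟩ => by obtain rfl := hy; exact h
  have hne : LinearMap.range (Canon.HHlin k q 0) ≠ ⊥ := by
    rw [Ne, ← Submodule.finrank_eq_zero]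
    change Module.finrank k _ + Module.finrank k (Coh.HH X (T.obj (ClSub.idealMod I)) 0) =
      Module.finrank k (Coh.HH X M 0) at h0
    change Module.finrank k (Coh.HH X (T.obj (ClSub.idealMod I)) 0) < _ at hlt
    omega
  obtain ⟨_, ⟨v, rfl⟩, hv⟩ := Submodule.exists_mem_ne_zero_of_ne_bot hne
  refine ⟨sec M v, (H11Ample.mem_gen_iff hM _ x).2 ?_⟩
  obtain ⟨V, e, hxV, he⟩ := H11Ample.exists_gen hM x
  obtain ⟨r, hr⟩ := (he x hxV).2 (M.presheaf.germ ⊤ x trivial (sec M v))
  change r • M.presheaf.germ V x hxV e = _ at hr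
  rw [← hr]
  let R := X.presheaf.stalk x
  letI : Algebra k R := (H25Par.constStalk (k := k) (X := X) x).toAlgebra
  have hsurj : Function.Surjective qs :=
    (ModuleCat.epi_iff_surjective _).1 (inferInstance : Epi ((DerSch.stalkFunctor X x).map q))
  let φ : R →ₗ[k] H25Par.Stk k (T.obj Q) x :=
    { toFun := fun a => (show (T.obj Q).presheaf.stalk x from a • qs (M.presheaf.germ V x hxV e))
      map_add' := fun a b => add_smul a b (qs (M.presheaf.germ V x hxV e))
      map_smul' := fun c a => mul_smul (H25Par.constStalk (k := k) x c) a (qs (M.presheaf.germ V x hxV e)) }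
  have hφ : Function.Surjective φ := fun w => by
    obtain ⟨z, hz⟩ := hsurj w
    obtain ⟨a, rfl⟩ := (he x hxV).2 z
    exact ⟨a, (map_smul qs a _).symm.trans hz⟩
  let ρ : R →ₗ[k] X.residueField x :=
    { toFun := X.residue x
      map_add' := map_add _
      map_smul' := fun c a => (map_mul (X.residue x).hom (H25Par.constStalk (k := k) x c) a).trans
        (Algebra.smul_def c (X.residue x a)).symm }
  let P := (LinearMap.proj (R := k) (φ := fun y : ({x} : Set X) => H25Par.Stk k (T.obj Q) y.1) ⟨x, rfl⟩).comp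
    (H25Par.germs (k := k) (T.obj Q) {x})
  have hP : Function.Bijective P := by
    refine ⟨fun v w hvw => hgerm.1 (funext fun ⟨y, hy⟩ => by obtain rfl := hy; exact hvw), fun t => ?_⟩
    let f : ∀ y : ({x} : Set X), H25Par.Stk k (T.obj Q) y.1 := fun ⟨y, hy⟩ => by
      rw [Set.mem_singleton_iff] at hy
      subst hy
      exact t
    obtain ⟨w, hw⟩ := hgerm.2 f
    exact ⟨w, congrFun hw ⟨x, rfl⟩⟩
  haveI : Module.Finite k (H25Par.Stk k (T.obj Q) x) := Module.Finite.equiv (LinearEquiv.ofBijective P hP)
  have hd : Module.finrank k (H25Par.Stk k (T.obj Q) x) = Module.finrank k (X.residueField x) :=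
    (LinearEquiv.ofBijective P hP).finrank_eq.symm.trans hq1
  haveI : Module.Finite k (Coh.HH X (ClSub.quotMod (ptIdeal x)) 0) := H10Coh.finite_HH_proper k X _ hQc 0
  haveI : Module.Finite k (X.residueField x) :=
    Module.Finite.equiv (nonempty_quotMod_pt_equiv (k := k) hx).some
  have hker : LinearMap.ker φ ≤ LinearMap.ker ρ := fun a ha => by
    rcases IsLocalRing.eq_maximalIdeal (RingHom.ker_isMaximal_of_surjective (X.residue x).hom
      (X.residue_surjective x)) with hmax
    show a ∈ RingHom.ker (X.residue x).hom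
    rw [hmax, IsLocalRing.mem_maximalIdeal]
    intro hu
    have hv0 : qs (M.presheaf.germ V x hxV e) = 0 := hu.smul_eq_zero.1 ha
    exact hv (hdetect v (by rw [← hr, map_smul, hv0, smul_zero]))
  let σ : H25Par.Stk k (T.obj Q) x →ₗ[k] X.residueField x :=
    (LinearMap.ker φ).liftQ ρ hker ∘ₗ (φ.quotKerEquivOfSurjective hφ).symm.toLinearMap
  have hσ : ∀ a, σ (φ a) = ρ a := fun a => by
    have e1 : (φ.quotKerEquivOfSurjective hφ).symm (φ a) = Submodule.Quotient.mk a :=
      (φ.quotKerEquivOfSurjective hφ).injective ((LinearEquiv.apply_symm_apply _ _).trans rfl)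
    exact (congrArg _ e1).trans rfl
  have hσs : Function.Surjective σ := fun c => by
    obtain ⟨a, rfl⟩ := X.residue_surjective x c
    exact ⟨φ a, hσ a⟩
  have hσi := (LinearMap.injective_iff_surjective_of_finrank_eq_finrank hd).2 hσs
  have hu : IsUnit r := by
    by_contra hr0
    refine hv (hdetect v ?_)
    have h1 : σ (φ r) = 0 := by
      rw [hσ]
      show r ∈ RingHom.ker (X.residue x).hom
      rw [IsLocalRing.eq_maximalIdeal (RingHom.ker_isMaximal_of_surjective (X.residue x).hom
        (X.residue_surjective x)), IsLocalRing.mem_maximalIdeal]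
      exact hr0
    rw [← hr, map_smul]
    exact hσi (h1.trans (map_zero σ).symm)
  have h2 := he x hxV
  refine (congrArg Function.Bijective (funext fun a => ?_)).mp (h2.comp (hu.unit.mulRight.bijective))
  show (a * r) • _ = _
  rw [mul_smul]

end Groth.Agent.H29CurveDual
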