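import Groth.Agent.H29RR.Clifford
import Groth.Agent.H29RR.Points
import Groth.Agent.H29RR.Generation
import Groth.Agent.H29RR.EvalPoint
import Groth.Agent.H29RR.FiniteGen
import Groth.Agent.H29CurveDual.PointGen
import Groth.Agent.H28Vert.Symm
import Groth.Agent.H28Vert.Degree

/-!
# First cohomology of submodules of invertible modules on integral proper curves

No duality is needed: if `H¹(G) ≠ 0` then `H⁰(G)` embeds into the dual of `H¹(O)`.
-/

set_option autoImplicit false
set_option linter.style.haveILetI false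

universe u

open CategoryTheory CategoryTheory.Limits AlgebraicGeometry TopologicalSpace Opposite
open Groth.Agent.H29RR

namespace Groth.Agent.H29CurveDual

attribute [local instance 10000] H10Coh.hasSheafifyAb H10Coh.hasWeakSheafifyAb H10Coh.hasExtAb H10Coh.enoughInjAb
attribute [local instance] Curv2.resAlgebra

variable {k : Type u} [Field k] {X : Scheme.{u}} [X.Over (Spec (CommRingCat.of k))]
  [IsProper (X ↘ Spec (CommRingCat.of k))]

theorem finite_and_closed_of_dim_le_zero [IsNoetherian X] {S : Set X} (hS : IsClosed S)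
    (hd : topologicalKrullDim S ≤ 0) : S.Finite ∧ ∀ z ∈ S, IsClosed ({z} : Set X) := by
  haveI : QuasiSober S := hS.isClosedEmbedding_subtypeVal.quasiSober
  haveI : CompactSpace S := isCompact_iff_compactSpace.mp hS.isCompact
  haveI : NoetherianSpace S := Topology.IsInducing.subtypeVal.noetherianSpace
  haveI := (H28Top.finite_discrete_of_dim_le_zero hd).1
  refine ⟨Set.toFinite S, fun z hz => ?_⟩
  have h1 := H28Top.isClosed_singleton_of_dim_le_zero hd (⟨z, hz⟩ : S)
  simpa using (hS.isClosedEmbedding_subtypeVal.isClosed_iff_image_isClosed).1 h1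

variable [IsIntegral X]

omit [Field k] [X.Over (Spec (CommRingCat.of k))] [IsProper (X ↘ Spec (CommRingCat.of k))] in
/-- A nonzero section of a submodule of an invertible module generates generically. -/
theorem mono_homOfGlobal_sub [IsLocallyNoetherian X] {G L : X.Modules} (hL : PicF.IsInvertible L) (j : G ⟶ L)
    [Mono j] {g : Γ(G, ⊤)} (hg : g ≠ 0) :
    Mono (H11Tilde.homOfGlobal G g) ∧ genericPoint X ∉ CohB1.support (cokernel (H11Tilde.homOfGlobal G g)) := by
  let s := H11Tilde.homOfGlobal G g
  have hs : s ≠ 0 := fun h => hg (by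
    have h1 := congrArg (fun φ : Coh.structureModule X ⟶ G => φ.app ⊤ (1 : Γ(X, ⊤))) h
    simp only [s, H11Tilde.homOfGlobal_app, one_smul] at h1
    simpa using h1)
  obtain ⟨hm, hη⟩ := mono_of_ne_zero (H11Ample.isInvertible_structureModule (X := X)) hL
    (φ := s ≫ j) (fun h => hs (by rwa [← cancel_mono j, zero_comp]))
  haveI := hm
  have sq : IsPullback s (𝟙 _) j (s ≫ j) := IsPullback.of_vert_isIso_mono ⟨(Category.id_comp _).symm⟩
  haveI := Abelian.mono_cokernel_map_of_isPullback sq
  exact ⟨mono_of_mono s j, fun hmem => hmem (H25Par.subsingleton_stalk_of_mono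
    (cokernel.map s (s ≫ j) (𝟙 _) j sq.w) (not_not.1 hη))⟩

/-- A nonzero section of a submodule of an invertible module is surjective in degree one. -/
theorem mulH_one_surjective_of_mono (hdim : topologicalKrullDim X ≤ 1) {G L : X.Modules} (hG : Coh.IsCoh G)
    (hL : PicF.IsInvertible L) (j : G ⟶ L) [Mono j] {v : Coh.HH X G 0} (hv : v ≠ 0) :
    Function.Surjective (mulH (k := k) G 1 v) := by
  haveI := isNoetherian_of_proper (k := k) (X := X)
  let s := H11Tilde.homOfGlobal G (sec G v)
  obtain ⟨hm, hηs⟩ := mono_homOfGlobal_sub hL j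
    (g := sec G v) (fun h => hv ((sec G).injective (h.trans (map_zero _).symm)))
  haveI := hm
  obtain ⟨-, hfin, hcl, -⟩ := euler_sub_of_mono (k := k) hdim (H10Coh.isCoh_structureModule' X) hG s hηs
  haveI : Subsingleton (Coh.HH X (cokernel s) 1) :=
    H25Par.subsingleton_HH_of_finite_support _ hfin hcl (fun y hy => not_not.1 hy) Nat.one_pos
  have hS : (ShortComplex.mk s (cokernel.π s) (cokernel.condition s)).ShortExact :=
    { exact := ShortComplex.exact_cokernel _ }
  intro x
  exact Abelian.Ext.covariant_sequence_exact₂ _ (H10Coh.shortExact_sh hS) x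
    (@Subsingleton.elim (Coh.HH X (cokernel s) 1) _ _ _)

/-- A special submodule of an invertible module has at most genus many sections. -/
theorem h0_le_genus_of_h1 (hdim : topologicalKrullDim X ≤ 1) {G L : X.Modules} (hG : Coh.IsCoh G)
    (hL : PicF.IsInvertible L) (j : G ⟶ L) [Mono j] (h1 : Nontrivial (Coh.HH X G 1)) :
    Module.finrank k (Coh.HH X G 0) ≤ Curv2.genus k X := by
  haveI := isNoetherian_of_proper (k := k) (X := X)
  haveI := H10Coh.finite_HH_proper k X G hG 1
  haveI := finite_HH (k := k) _ (H11Ample.isInvertible_structureModule (X := X)) 1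
  obtain ⟨y, hy⟩ := exists_ne (0 : Coh.HH X G 1)
  obtain ⟨t, ht⟩ : ∃ t : Module.Dual k (Coh.HH X G 1), t y ≠ 0 := Module.Projective.exists_dual_ne_zero k hy
  let B : Coh.HH X G 0 →ₗ[k] Module.Dual k (Coh.HH X (Coh.structureModule X) 1) :=
    { toFun := fun v => t ∘ₗ mulH (k := k) G 1 v
      map_add' := fun v v' => by rw [map_add, LinearMap.comp_add]
      map_smul' := fun c v => by rw [map_smul, LinearMap.comp_smul]; rfl }
  have hB : Function.Injective B := by
    rw [injective_iff_map_eq_zero]
    intro v hv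
    by_contra hne
    obtain ⟨x, rfl⟩ := mulH_one_surjective_of_mono (k := k) hdim hG hL j hne y
    exact ht (LinearMap.congr_fun hv x)
  exact (LinearMap.finrank_le_finrank_of_injective hB).trans_eq Subspace.dual_finrank_eq

/-- The Euler characteristic of a special submodule of an invertible module. -/
theorem euler_add_h1_le (hdim : topologicalKrullDim X ≤ 1) {G L : X.Modules} (hG : Coh.IsCoh G)
    (hL : PicF.IsInvertible L) (j : G ⟶ L) [Mono j] (h1 : Nontrivial (Coh.HH X G 1)) :
    Curv2.euler k X G + Module.finrank k (Coh.HH X G 1) ≤ (Curv2.genus k X : ℤ) := by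
  have h := h0_le_genus_of_h1 (k := k) hdim hG hL j h1
  rw [euler_eq_sub (k := k) hdim G]
  omega

omit [IsIntegral X] in
/-- An ideal sheaf times an invertible module as a coherent submodule, with its Euler characteristic. -/
theorem exists_idealTensor_data {L : X.Modules} (hL : PicF.IsInvertible L) (Z : X.IdealSheafData)
    (hZ : topologicalKrullDim (Z.support : Set X) ≤ 0) :
    Coh.IsCoh (CohB1.tensorMod (ClSub.idealMod Z) L) ∧
      (∃ j : CohB1.tensorMod (ClSub.idealMod Z) L ⟶ L, Mono j) ∧
      Curv2.euler k X L = Curv2.euler k X (CohB1.tensorMod (ClSub.idealMod Z) L) +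
        (Module.finrank k (Coh.HH X (ClSub.quotMod Z) 0) : ℤ) := by
  haveI := isNoetherian_of_proper (k := k) (X := X)
  have hQ : Coh.IsCoh (ClSub.quotMod Z) :=
    H24FSch.isCoh_pushforward_of_isClosedImmersion Z.subschemeι (H10Coh.isCoh_structureModule' _)
  have hI : Coh.IsCoh (ClSub.idealMod Z) := H10Coh.isCoh_kernel _ (H10Coh.isCoh_structureModule' _) hQ.1
  obtain ⟨hfin, hcl⟩ := finite_and_closed_of_dim_le_zero Z.support.isClosed hZ
  haveI := H10Coh.epi_toSubscheme Z
  have hsup : CohB1.support (ClSub.quotMod Z) = (Z.support : Set X) := by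
    rw [← H28Vert.support_cokernel_idealModι Z]
    exact Set.Subset.antisymm (LeadDev.support_subset_of_iso (H28Vert.cokernelIdealModιIso Z).symm)
      (LeadDev.support_subset_of_iso (H28Vert.cokernelIdealModιIso Z))
  have hS : (ShortComplex.mk (ClSub.idealModι Z) (ClSub.toSubscheme Z) (kernel.condition _)).ShortExact :=
    { exact := ShortComplex.exact_kernel _
      mono_f := inferInstanceAs (Mono (kernel.ι _)) }
  have h := twist_seq (k := k) hS hL hI (H10Coh.isCoh_structureModule' X) hQ
    (by rw [hsup]; exact hfin) (by rw [hsup]; exact hcl)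
  have hflat : FlatMod.IsFlat L :=
    H16Derived.KFlat.Stalk.isFlat_of_isFinLocFree (H28Pinch.isFinLocFree_of_isInvertible hL)
  let T := (DCoh.tensorBi (X := X)).flip.obj L
  haveI : Mono (T.map (ClSub.idealModι Z)) := (H16Derived.KFlat.Stalk.isFlatObj_of_isFlat hflat _ hS).mono_f
  have e : Curv2.euler k X (CohB1.tensorMod (Coh.structureModule X) L) = Curv2.euler k X L :=
    H25Euler.euler_congr (H10Coh.Tw.leftUnitIso L)
  exact ⟨H11Ample.isCoh_tensor hI hL,
    ⟨T.map (ClSub.idealModι Z) ≫ (H10Coh.Tw.leftUnitIso L).hom,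
      mono_comp' (inferInstance : Mono (T.map (ClSub.idealModι Z))) inferInstance⟩, e ▸ h.2.2⟩

/-- The dimension of the first cohomology of `I ⊗ L`. -/
theorem h1_idealTensor_le (hdim : topologicalKrullDim X ≤ 1)
    (h0 : Module.finrank k (Coh.HH X (Coh.structureModule X) 0) = 1) {L : X.Modules} (hL : PicF.IsInvertible L)
    (Z : X.IdealSheafData) (hZ : topologicalKrullDim (Z.support : Set X) ≤ 0)
    (h1 : Nontrivial (Coh.HH X (CohB1.tensorMod (ClSub.idealMod Z) L) 1)) :
    Curv2.deg k X L 1 + Module.finrank k (Coh.HH X (CohB1.tensorMod (ClSub.idealMod Z) L) 1) ≤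
      2 * (Curv2.genus k X : ℤ) - 1 + Module.finrank k (Coh.HH X (ClSub.quotMod Z) 0) := by
  obtain ⟨hc, ⟨j, hj⟩, he⟩ := exists_idealTensor_data (k := k) hL Z hZ
  haveI := hj
  have h := euler_add_h1_le (k := k) hdim hc hL j h1
  have hO := euler_eq_sub (k := k) hdim (Coh.structureModule X)
  rw [h0] at hO
  rw [deg_def]
  rw [Curv2.genus] at h ⊢
  omega

theorem subsingleton_h1_of_deg_ge (hdim : topologicalKrullDim X ≤ 1)
    (h0 : Module.finrank k (Coh.HH X (Coh.structureModule X) 0) = 1) {L : X.Modules} (hL : PicF.IsInvertible L)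
    (hdeg : 2 * (Curv2.genus k X : ℤ) - 1 ≤ Curv2.deg k X L 1) : Subsingleton (Coh.HH X L 1) := by
  haveI := finite_HH (k := k) L hL 1
  by_contra hne
  rw [not_subsingleton_iff_nontrivial] at hne
  have hpos := Module.finrank_pos (R := k) (M := Coh.HH X L 1)
  have h := euler_add_h1_le (k := k) hdim
    (H16Derived.KFlat.Stalk.isCoh_of_isFinLocFree (H28Pinch.isFinLocFree_of_isInvertible hL)) hL (𝟙 L) hne
  have hO := euler_eq_sub (k := k) hdim (Coh.structureModule X)
  rw [h0] at hO
  rw [deg_def] at hdeg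
  rw [Curv2.genus] at h hdeg
  omega

/-- A submodule of an invertible module with more sections than the genus is generated by them. -/
theorem spansAt_of_genus_lt_h0 (hdim : topologicalKrullDim X ≤ 1) {G L : X.Modules} (hG : Coh.IsCoh G)
    (hL : PicF.IsInvertible L) (j : G ⟶ L) [Mono j]
    (hlt : Curv2.genus k X < Module.finrank k (Coh.HH X G 0)) (x : X) : SpansAt G x := by
  haveI := isNoetherian_of_proper (k := k) (X := X)
  haveI := H10Coh.finite_HH_proper k X G hG 0
  let n := Module.finrank k (Coh.HH X G 0)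
  let β := Module.finBasis k (Coh.HH X G 0)
  let φ : FlatMod.freeMod X n ⟶ G := Sigma.desc fun i => H11Tilde.homOfGlobal G (sec G (β i))
  have hO : Coh.IsCoh (FlatMod.freeMod X n) :=
    H16Derived.KFlat.Stalk.isCoh_of_isFinLocFree (H22Alg.KModel.finLocFree_free n)
  have hC : Coh.IsCoh (cokernel φ) := H10Coh.isCoh_cokernel φ hO.1 hG
  let π := cokernel.π φ
  have hK : Coh.IsCoh (kernel π) := H10Coh.isCoh_kernel π hG hC.1
  let i₀ : Fin n := ⟨0, by omega⟩
  obtain ⟨-, hηs⟩ := mono_homOfGlobal_sub hL j (g := sec G (β i₀))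
    (fun h => β.ne_zero i₀ ((sec G).injective (h.trans (map_zero _).symm)))
  have hw : H11Tilde.homOfGlobal G (sec G (β i₀)) ≫ π = 0 := by
    have h1 : Sigma.ι (fun _ : Fin n => Coh.structureModule X) i₀ ≫ φ = H11Tilde.homOfGlobal G (sec G (β i₀)) :=
      Sigma.ι_desc _ _
    rw [← h1, Category.assoc, cokernel.condition, comp_zero]
  haveI : Epi (cokernel.desc (H11Tilde.homOfGlobal G (sec G (β i₀))) π hw) :=
    epi_of_epi_fac (cokernel.π_desc (H11Tilde.homOfGlobal G (sec G (β i₀))) π hw)
  have hη : genericPoint X ∉ CohB1.support (cokernel φ) := fun h => h (H25Par.subsingleton_stalk_of_epi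
    (cokernel.desc (H11Tilde.homOfGlobal G (sec G (β i₀))) π hw) (not_not.1 hηs))
  obtain ⟨hfin, hcl⟩ := H25Par.finite_of_isClosed_of_notMem hdim (H10Coh.isClosed_support _ hC.2) hη
  have hS : (ShortComplex.mk (kernel.ι π) π (kernel.condition π)).ShortExact :=
    { exact := ShortComplex.exact_kernel _ }
  let a : FlatMod.freeMod X n ⟶ kernel π := kernel.lift π φ (cokernel.condition φ)
  have hsurj : Function.Surjective (Canon.HHlin k (kernel.ι π) 0) := by
    rw [← LinearMap.range_eq_top, eq_top_iff, ← β.span_eq, Submodule.span_le]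
    rintro _ ⟨i, rfl⟩
    refine ⟨(sec (kernel π)).symm ((Sigma.ι (fun _ : Fin n => Coh.structureModule X) i ≫ a).app ⊤ (1 : Γ(X, ⊤))),
      (sec G).injective ?_⟩
    rw [sec_natural (k := k), AddEquiv.apply_symm_apply]
    show ((Sigma.ι (fun _ : Fin n => Coh.structureModule X) i ≫ a) ≫ kernel.ι π).app ⊤ (1 : Γ(X, ⊤)) = _
    rw [Category.assoc, kernel.lift_ι, Sigma.ι_desc]
    exact (H11Tilde.homOfGlobal_app G _ ⊤ _).trans ((one_smul _ _).trans
      (ConcreteCategory.congr_hom (G.presheaf.map_id (op ⊤)) _))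
  rcases subsingleton_or_nontrivial (Coh.HH X (kernel π) 1) with hs | hn
  · haveI : Subsingleton (Coh.HH X (cokernel φ) 0) := subsingleton_of_forall_eq 0 fun c => by
      obtain ⟨v, rfl⟩ := H25Par.hhlin_surjective (k := k) hS hs c
      exact (H25Par.hhlin_exact (k := k) hS).ge (hsurj v)
    refine spansAt_of_surjective φ ?_ (surjective_stalk_of_notMem_support φ fun hx => hx ?_)
    · rw [SpansAt, eq_top_iff, ← spansStalks_of_epi (𝟙 (FlatMod.freeMod X n)) x]
      refine Submodule.span_mono ?_
      rintro _ ⟨i, rfl⟩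
      exact ⟨_, rfl⟩
    · have hgerm := H25Par.germs_bijective (k := k) (cokernel φ) hfin hcl (fun y hy => not_not.1 hy)
      refine subsingleton_of_forall_eq 0 fun c => ?_
      classical
      obtain ⟨w, hw'⟩ := hgerm.2 (Pi.single (M := fun y : CohB1.support (cokernel φ) =>
        H25Par.Stk k (cokernel φ) y.1) ⟨x, hx⟩ c)
      have h2 := congrFun hw' ⟨x, hx⟩
      rw [Pi.single_eq_same, Subsingleton.elim w 0, map_zero] at h2
      exact h2.symm
  · exfalso
    haveI := H10Coh.finite_HH_proper k X _ hK 0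
    haveI : Mono (kernel.ι π ≫ j) := mono_comp _ _
    have h1 := h0_le_genus_of_h1 (k := k) hdim hK hL (kernel.ι π ≫ j) hn
    have h2 := LinearMap.finrank_range_le (Canon.HHlin k (kernel.ι π) 0)
    rw [LinearMap.range_eq_top.2 hsurj, finrank_top] at h2
    omega

/-- Degree at least `2g` gives global generation. -/
theorem isGloballyGenerated_of_deg_ge (hdim : topologicalKrullDim X ≤ 1)
    (h0 : Module.finrank k (Coh.HH X (Coh.structureModule X) 0) = 1) {L : X.Modules} (hL : PicF.IsInvertible L)
    (hdeg : 2 * (Curv2.genus k X : ℤ) ≤ Curv2.deg k X L 1) : Curv2.IsGloballyGenerated L := by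
  haveI := isNoetherian_of_proper (k := k) (X := X)
  refine isGloballyGenerated_of_closedPoints hL fun x hx => ?_
  have hQ : Coh.IsCoh (ClSub.quotMod (ptIdeal x)) :=
    H24FSch.isCoh_pushforward_of_isClosedImmersion (ptIdeal x).subschemeι (H10Coh.isCoh_structureModule' _)
  have hI : Coh.IsCoh (ClSub.idealMod (ptIdeal x)) := H10Coh.isCoh_kernel _ (H10Coh.isCoh_structureModule' _) hQ.1
  have hsupp : ((ptIdeal x).support : Set X) = {x} := by
    rw [← Scheme.IdealSheafData.range_subschemeι, range_subscheme_pt hx]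
  haveI := finite_HH (k := k) L hL 0
  refine exists_mem_gen_of_h0_lt (k := k) hx hL hI ?_
  haveI := subsingleton_h1_of_deg_ge (k := k) hdim h0 hL (by omega)
  obtain ⟨hc, -, he⟩ := exists_idealTensor_data (k := k) hL (ptIdeal x)
    (by rw [hsupp]; exact topologicalKrullDim_zero_of_discreteTopology _)
  rw [finrank_h0_quotMod_pt (k := k) hx, euler_eq_sub (k := k) hdim L,
    euler_eq_sub (k := k) hdim (CohB1.tensorMod _ L),
    Module.finrank_zero_of_subsingleton (R := k) (M := Coh.HH X L 1)] at he
  have hd : 0 < Module.finrank k (X.residueField x) := by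
    haveI : Module.Finite k (Coh.HH X (ClSub.quotMod (ptIdeal x)) 0) := H10Coh.finite_HH_proper k X _ hQ 0
    haveI : Module.Finite k (X.residueField x) := Module.Finite.equiv (nonempty_quotMod_pt_equiv (k := k) hx).some
    exact Module.finrank_pos
  rcases subsingleton_or_nontrivial (Coh.HH X (CohB1.tensorMod (ClSub.idealMod (ptIdeal x)) L) 1) with hs | hn
  · rw [Module.finrank_zero_of_subsingleton (R := k)
      (M := Coh.HH X (CohB1.tensorMod (ClSub.idealMod (ptIdeal x)) L) 1)] at he
    omega
  · have h := h1_idealTensor_le (k := k) hdim h0 hL (ptIdeal x)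
      (by rw [hsupp]; exact topologicalKrullDim_zero_of_discreteTopology _) hn
    rw [finrank_h0_quotMod_pt (k := k) hx] at h
    omega

end Groth.Agent.H29CurveDual
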