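import Groth.Agent.H29CurveDual.ChartTrace
import Groth.Agent.H22Alg.PB.Local

/-!
# The differentials of a smooth curve form an invertible module
-/

set_option autoImplicit false
set_option linter.style.haveILetI false

universe u

open CategoryTheory CategoryTheory.Limits AlgebraicGeometry TopologicalSpace Opposite

namespace Groth.Agent.H29CurveDual

variable {X S : Scheme.{u}} [IsIntegral X] [IsAffine S] [Subsingleton S] (p : X ⟶ S) [QuasiSeparated p]
  [SmoothOfRelativeDimension 1 p]

theorem isFinLocFreeOfRank_omega : FlatMod.IsFinLocFreeOfRank 1 (Omega.sheaf p) := fun x => by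
  obtain ⟨U₀, hU₀, hxU₀, -⟩ := exists_isAffineOpen_mem_and_subset (U := (⊤ : X.Opens)) (x := x) trivial
  obtain ⟨g, hxg, hg⟩ := exists_stdSmooth_basicOpen p hU₀ x hxU₀
  have hU : IsAffineOpen (X.basicOpen g) := hU₀.basicOpen g
  haveI : Nonempty (X.basicOpen g) := ⟨⟨x, hxg⟩⟩
  obtain ⟨β⟩ := exists_basis_omega (p := p) hg
  letI := algR p (X.basicOpen g)
  let β' : Module.Basis (Fin 1) Γ(X, X.basicOpen g) Γ(Omega.sheaf p, X.basicOpen g) :=
    β.map (omEquiv p (X.basicOpen g) hU)
  let one : Γ(X, X.basicOpen g) := 1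
  haveI := H8Props.FinLocFree.isIso_basicHom (Omega.sheaf p) (H29Omega.isQCoh_sheaf p) hU one (r := 1)
    (fun j => β' j)
    (fun y => ⟨1, one_mem _, by
      rw [one_smul, ← β'.sum_repr y]
      exact Submodule.sum_mem _ fun j _ => Submodule.smul_mem _ _ (Submodule.subset_span ⟨j, rfl⟩)⟩)
    (fun c hc j => ⟨1, one_mem _, by
      rw [one_mul]; exact Fintype.linearIndependent_iff.1 β'.linearIndependent c hc j⟩)
  refine ⟨X.basicOpen one, ?_, ⟨(asIso (H29Fitt.basicHom (Omega.sheaf p) one fun j => β' j)).symm⟩⟩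
  rw [Scheme.basicOpen_one]; exact hxg

theorem isInvertible_omega : PicF.IsInvertible (Omega.sheaf p) :=
  H22Alg.PB.isInvertible_of_rank_one (isFinLocFreeOfRank_omega p)

end Groth.Agent.H29CurveDual
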