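import Groth.Agent.H29CurveDual.Duality
import Groth.Agent.H29CurveDual.HomK
import Groth.Agent.H29CurveDual.OmegaInv
import Groth.Agent.H29RR.RiemannRoch

/-!
# Consequences of duality: the canonical module of a curve
-/

set_option autoImplicit false
set_option linter.style.haveILetI false

universe u

open CategoryTheory CategoryTheory.Limits AlgebraicGeometry TopologicalSpace Opposite
open Groth.Agent.H29RR

namespace Groth.Agent.H29CurveDual

attribute [local instance 10000] H10Coh.hasSheafifyAb H10Coh.hasWeakSheafifyAb H10Coh.hasExtAb H10Coh.enoughInjAb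
attribute [local instance] homModule

theorem isCoh_of_isInvertible {X : Scheme.{u}} {L : X.Modules} (hL : PicF.IsInvertible L) : Coh.IsCoh L :=
  H16Derived.KFlat.Stalk.isCoh_of_isFinLocFree (H28Pinch.isFinLocFree_of_isInvertible hL)

section formal

variable {k : Type u} [Field k] {X : Scheme.{u}} [X.Over (Spec (CommRingCat.of k))] {ω : X.Modules} {q : ℕ}

theorem finrank_hom_dual (t : Coh.HH X ω q →ₗ[k] k) {E : X.Modules} (h : H29Serre.RepDual t E) :
    Module.finrank k (E ⟶ ω) = Module.finrank k (Module.Dual k (Coh.HH X E q)) := by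
  let Ψ : (E ⟶ ω) →ₗ[k] Module.Dual k (Coh.HH X E q) :=
    { toFun := fun φ => t ∘ₗ Canon.HHlin k φ q
      map_add' := fun φ ψ => by rw [H29Serre.lin_add, LinearMap.comp_add]
      map_smul' := fun a φ => LinearMap.ext fun x => by
        show t (Canon.HHlin k (a • φ) q x) = a • t (Canon.HHlin k φ q x)
        rw [hhlin_smul, map_smul] }
  refine (LinearEquiv.ofBijective Ψ ⟨fun φ ψ h' => ?_, fun ψ => ?_⟩).finrank_eq
  · exact (h (Ψ φ)).unique rfl h'
  · obtain ⟨φ, hφ, -⟩ := h ψ
    exact ⟨φ, hφ.symm⟩

theorem finrank_h0_congr {F G : X.Modules} (e : F ≅ G) (n : ℕ) :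
    Module.finrank k (Coh.HH X F n) = Module.finrank k (Coh.HH X G n) :=
  (hhIso (k := k) e n).finrank_eq

end formal

variable {k : Type u} [Field k] {X : Scheme.{u}} [X.Over (Spec (CommRingCat.of k))] [IsIntegral X]
  [IsProper (X ↘ Spec (CommRingCat.of k))] [Smooth (X ↘ Spec (CommRingCat.of k))]

local notation "Ω" => Omega.sheaf (X ↘ Spec (CommRingCat.of k))

theorem isInvertible_omega_curve (hdim : topologicalKrullDim X = 1) : PicF.IsInvertible Ω := by
  haveI := H27CurveDiv.smoothOfRelativeDimension_of_dim (X ↘ Spec (CommRingCat.of k)) 1 hdim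
  exact isInvertible_omega _

/-- Serre duality in dimensions. -/
theorem finrank_h1_eq (hdim : topologicalKrullDim X = 1) {E : X.Modules} (hE : Coh.IsCoh E) :
    Module.finrank k (Coh.HH X E 1) = Module.finrank k (E ⟶ Ω) := by
  obtain ⟨t, ht⟩ := exists_dual (k := k) X hdim
  haveI := isNoetherian_of_proper (k := k) (X := X)
  haveI := H10Coh.finite_HH_proper k X E hE 1
  rw [finrank_hom_dual t (ht E hE), Subspace.dual_finrank_eq]

theorem finrank_h1_structure (hdim : topologicalKrullDim X = 1) :
    Module.finrank k (Coh.HH X Ω 0) = Curv2.genus k X := by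
  rw [Curv2.genus, finrank_h1_eq hdim (H10Coh.isCoh_structureModule' X), finrank_hom_structure]

/-- The dual of `H¹` of an invertible module. -/
theorem finrank_h1_invertible (hdim : topologicalKrullDim X = 1) {L N : X.Modules} (hL : PicF.IsInvertible L)
    (hN : PicF.IsInvertible N) (e : CohB1.tensorMod L N ≅ Coh.structureModule X) :
    Module.finrank k (Coh.HH X L 1) = Module.finrank k (Coh.HH X (CohB1.tensorMod Ω N) 0) := by
  rw [finrank_h1_eq hdim (isCoh_of_isInvertible hL), finrank_hom_invertible k hN e]

theorem finrank_h1_omega (hdim : topologicalKrullDim X = 1) :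
    Module.finrank k (Coh.HH X Ω 1) = Module.finrank k (Coh.HH X (Coh.structureModule X) 0) := by
  have hΩ := isInvertible_omega_curve (k := k) hdim
  obtain ⟨N, hN, ⟨e⟩⟩ := exists_inverse_comm hΩ
  rw [finrank_h1_invertible hdim hΩ hN e]
  exact finrank_h0_congr e 0

/-- The degree of the canonical module. -/
theorem deg_omega (hdim : topologicalKrullDim X = 1) :
    Curv2.deg k X Ω 1 =
      2 * (Curv2.genus k X : ℤ) - 2 * (Module.finrank k (Coh.HH X (Coh.structureModule X) 0) : ℤ) := by
  have h := riemann_roch (k := k) hdim.le Ω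
  rw [finrank_h1_structure hdim, finrank_h1_omega hdim] at h
  omega

theorem deg_omega_of_h0 (hdim : topologicalKrullDim X = 1)
    (h0 : Module.finrank k (Coh.HH X (Coh.structureModule X) 0) = 1) :
    Curv2.deg k X Ω 1 = 2 * (Curv2.genus k X : ℤ) - 2 := by
  rw [deg_omega hdim, h0]; rfl

/-- Modules of degree beyond that of the canonical module have no higher cohomology. -/
theorem subsingleton_h1_of_deg (hdim : topologicalKrullDim X = 1) {L : X.Modules} (hL : PicF.IsInvertible L)
    (hd : Curv2.deg k X Ω 1 < Curv2.deg k X L 1) : Subsingleton (Coh.HH X L 1) := by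
  obtain ⟨N, hN, ⟨e⟩⟩ := exists_inverse_comm hL
  have hΩ := isInvertible_omega_curve (k := k) hdim
  have hT := H11Ample.isInvertible_tensor hΩ hN
  haveI := finite_HH (k := k) L hL 1
  have hN' : Curv2.deg k X N 1 = - Curv2.deg k X L 1 := by
    have := deg_tensor (k := k) hdim.le hL hN
    rw [deg_congr (k := k) e, deg_structureModule] at this
    omega
  have hneg : Curv2.deg k X (CohB1.tensorMod Ω N) 1 < 0 := by
    rw [deg_tensor (k := k) hdim.le hΩ hN, hN']; omega
  have h0 : Subsingleton (Coh.HH X (CohB1.tensorMod Ω N) 0) := by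
    rcases subsingleton_or_nontrivial (Coh.HH X (CohB1.tensorMod Ω N) 0) with h | h
    · exact h
    · exact absurd (bounds_of_section (k := k) hdim.le hT h).1 (not_le.2 hneg)
  refine (Module.finrank_zero_iff (R := k)).1 ?_
  rw [finrank_h1_invertible hdim hL hN e]
  exact Module.finrank_zero_of_subsingleton

end Groth.Agent.H29CurveDual
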