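import Groth.Agent.H29CurveDual.PtStalk
import Groth.Agent.H29RR.FiniteGen
import Groth.Agent.H11Ample.ToPn
import Groth.Agent.S3572
import Groth.Agent.S14411

/-!
# The criterion for very ampleness on smooth curves over an algebraically closed field
-/

set_option autoImplicit false
set_option linter.style.haveILetI false

universe u

open CategoryTheory CategoryTheory.Limits AlgebraicGeometry TopologicalSpace Opposite
open Groth.Agent.H29RR

namespace Groth.Agent.H29CurveDual

attribute [local instance 10000] H10Coh.hasSheafifyAb H10Coh.hasWeakSheafifyAb H10Coh.hasExtAb H10Coh.enoughInjAb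
attribute [local instance] Curv2.resAlgebra

theorem mem_smul_top_iff {R : Type u} [CommRing R] {M N : Type u} [AddCommGroup M] [Module R M] [AddCommGroup N]
    [Module R N] (I : Ideal R) (f : M →ₗ[R] N) (hf : Function.Bijective f) (z : M) :
    f z ∈ I • (⊤ : Submodule R N) ↔ z ∈ I • (⊤ : Submodule R M) := by
  rw [← LinearMap.range_eq_top.2 hf.2, ← Submodule.map_top, ← Submodule.map_smul'']
  exact ⟨fun ⟨w, hw, e⟩ => hf.1 e ▸ hw, fun h => ⟨z, h, rfl⟩⟩

variable {k : Type u} [Field k] [IsAlgClosed k] {X : Scheme.{u}} [X.Over (Spec (CommRingCat.of k))] [IsIntegral X]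
  [IsProper (X ↘ Spec (CommRingCat.of k))] [Smooth (X ↘ Spec (CommRingCat.of k))]

omit [IsAlgClosed k] [IsIntegral X] [IsProper (X ↘ Spec (CommRingCat.of k))] [Smooth (X ↘ Spec (CommRingCat.of k))] in
theorem sec_comb {L : X.Modules} {ι : Type} [Fintype ι] (c : ι → k) (v : ι → Coh.HH X L 0) :
    sec L (∑ i, c i • v i) = ∑ i, ProjUP.toGlobal (X ↘ Spec (CommRingCat.of k)) (c i) • sec L (v i) := by
  rw [map_sum]
  exact Finset.sum_congr rfl fun i _ => sec_smul L (c i) (v i)

omit [IsAlgClosed k] [Smooth (X ↘ Spec (CommRingCat.of k))] in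
include k in
theorem not_isField_stalk_of_closed (hdim : topologicalKrullDim X = 1) {x : X} (hx : IsClosed ({x} : Set X)) :
    ¬ IsField (X.presheaf.stalk x) := fun hf => by
  haveI := isNoetherian_of_proper (k := k) (X := X)
  have hgen := (H12AlgSp.ringKrullDim_stalk_eq_zero_iff x).1 (ringKrullDim_eq_zero_of_isField hf)
  have h1 : genericPoint X = x := (H8Props.mem_genericPoints_iff.1 hgen) _ (genericPoint_specializes x)
  haveI : Subsingleton X := ⟨fun a b => by
    have key : ∀ c : X, c = x := fun c => by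
      have hc : c ∈ closure ({genericPoint X} : Set X) := (genericPoint_specializes c).mem_closure
      rw [h1, hx.closure_eq] at hc
      exact hc
    rw [key a, key b]⟩
  have := topologicalKrullDim_zero_of_discreteTopology X
  rw [hdim] at this
  exact not_le.2 zero_lt_one this

/-- The twists down by a point and then another, each dropping `h⁰` by one. -/
theorem drop_two_cases (hdim : topologicalKrullDim X = 1) {L : X.Modules} (hL : PicF.IsInvertible L) {P Q : X}
    (hP : IsClosed ({P} : Set X)) (hQ : IsClosed ({Q} : Set X))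
    (h : Module.finrank k (Coh.HH X (CohB1.tensorMod (ClSub.idealMod (ptIdeal P))
      (CohB1.tensorMod (ClSub.idealMod (ptIdeal Q)) L)) 0) + 2 = Module.finrank k (Coh.HH X L 0)) :
    (∃ g, Q ∈ H11Ample.gen L g) ∧
      ∃ g, P ∈ H11Ample.gen (CohB1.tensorMod (ClSub.idealMod (ptIdeal Q)) L) g := by
  have hIP := isInvertible_pt (k := k) hdim hP
  have hIQ := isInvertible_pt (k := k) hdim hQ
  have hM := H11Ample.isInvertible_tensor hIQ hL
  obtain ⟨-, h1, -⟩ := twist_point (k := k) hP hM (isCoh_of_isInvertible hIP)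
  obtain ⟨-, h2, -⟩ := twist_point (k := k) hQ hL (isCoh_of_isInvertible hIQ)
  rw [finrank_residue_eq_one (k := k) hP] at h1
  rw [finrank_residue_eq_one (k := k) hQ] at h2
  exact ⟨(h0_add_one_iff (k := k) hQ (finrank_residue_eq_one (k := k) hQ) hL (isCoh_of_isInvertible hIQ)).1 (by omega),
    (h0_add_one_iff (k := k) hP (finrank_residue_eq_one (k := k) hP) hM (isCoh_of_isInvertible hIP)).1 (by omega)⟩

/-- Separation of points and tangents by all sections. -/
theorem exists_closedImmersion_of_h0 (hdim : topologicalKrullDim X = 1) {L : X.Modules} (hL : PicF.IsInvertible L)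
    (h : ∀ P Q : X, IsClosed ({P} : Set X) → IsClosed ({Q} : Set X) →
      Module.finrank k (Coh.HH X (CohB1.tensorMod (ClSub.idealMod (ptIdeal P))
        (CohB1.tensorMod (ClSub.idealMod (ptIdeal Q)) L)) 0) + 2 = Module.finrank k (Coh.HH X L 0)) :
    ∃ (n : ℕ) (r : X ⟶ CohB1.ProjSpace n k), IsClosedImmersion r ∧
      r ≫ CohB1.ProjSpace.toSpec n k = X ↘ Spec (CommRingCat.of k) ∧
      Nonempty ((Scheme.Modules.pullback r).obj (Twist.twistProjSpace n k 1) ≅ L) := by
  let p := X ↘ Spec (CommRingCat.of k)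
  haveI := isNoetherian_of_proper (k := k) (X := X)
  haveI := finite_HH (k := k) L hL 0
  obtain ⟨x₀, -, hx₀, -⟩ := exists_point (k := k) hdim ⊤ trivial
  have hpos : Module.finrank k (Coh.HH X L 0) ≠ 0 := by have := h x₀ x₀ hx₀ hx₀; omega
  obtain ⟨n, hn⟩ := Nat.exists_eq_succ_of_ne_zero hpos
  let β := Module.finBasisOfFinrankEq k (Coh.HH X L 0) hn
  let v : Fin (n + 1) → Γ(L, ⊤) := fun i => sec L (β i)
  have hcomb : ∀ g : Γ(L, ⊤), ∃ c : Fin (n + 1) → k, g = ∑ i, ProjUP.toGlobal p (c i) • v i := fun g =>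
    ⟨fun i => β.repr ((sec L).symm g) i, by
      rw [← sec_comb (k := k) (L := L), β.sum_repr, AddEquiv.apply_symm_apply]⟩
  have hgg : Curv2.IsGloballyGenerated L :=
    isGloballyGenerated_of_closedPoints hL fun x hx => (drop_two_cases (k := k) hdim hL hx hx (h x x hx hx)).1
  have hgen : ProjUP.GeneratedBy L v := fun x => by
    rw [eq_top_iff, ← spansAt_of_globallyGenerated hgg x, Submodule.span_le]
    rintro _ ⟨g, rfl⟩
    obtain ⟨c, rfl⟩ := hcomb g
    show L.presheaf.germ ⊤ x trivial (∑ i, ProjUP.toGlobal p (c i) • v i) ∈ _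
    rw [map_sum]
    refine Submodule.sum_mem _ fun i _ => ?_
    rw [H17.AssPts.germ_smul']
    exact Submodule.smul_mem _ _ (Submodule.subset_span ⟨i, rfl⟩)
  obtain ⟨r, hr, τ, hτ⟩ := S3572.result n p L hL v hgen
  let pb := (Scheme.Modules.pullback r).obj (Twist.twistProjSpace n k 1)
  let comb : (Fin (n + 1) → k) → Γ(pb, ⊤) := fun c =>
    ∑ i, ProjUP.toGlobal p (c i) • ProjUP.pullSec r (Twist.twistProjSpace n k 1) (ProjUP.coord n k i)
  have hτc : ∀ c, τ.hom.app ⊤ (comb c) = ∑ i, ProjUP.toGlobal p (c i) • v i := fun c => by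
    rw [map_sum]
    exact Finset.sum_congr rfl fun i _ => (Scheme.Modules.Hom.app_smul _ _ _).trans (congrArg _ (hτ i))
  refine ⟨n, r, (S14411.result k X p n r hr).2 ⟨?_, ?_⟩, hr, ⟨τ⟩⟩
  all_goals
    have hbij : ∀ x, Function.Bijective (H06Mod.stalkLin τ.hom x) := fun x =>
      (ConcreteCategory.isIso_iff_bijective ((DerSch.stalkFunctor X x).map τ.hom)).1 inferInstance
    have hmem : ∀ (x : X) (c : Fin (n + 1) → k),
        pb.presheaf.germ ⊤ x trivial (comb c) ∈ IsLocalRing.maximalIdeal (X.presheaf.stalk x) •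
          (⊤ : Submodule (X.presheaf.stalk x) (pb.presheaf.stalk x)) ↔
        x ∉ H11Ample.gen L (∑ i, ProjUP.toGlobal p (c i) • v i) := fun x c => by
      rw [mem_gen_iff_notMem hL, not_not, ← hτc, ← germ_app, mem_smul_top_iff _ _ (hbij x)]
  · intro P Q hP hQ hne
    obtain ⟨-, g₁, hg₁⟩ := drop_two_cases (k := k) hdim hL hQ hP (h Q P hQ hP)
    obtain ⟨hoff, hrng, -⟩ := ptIncl_stalks (k := k) hP (finrank_residue_eq_one (k := k) hP) hL
      (isInvertible_pt (k := k) hdim hP)
    obtain ⟨c, hc⟩ := hcomb ((ptIncl P L).app ⊤ g₁)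
    refine ⟨c, Or.inl ⟨(hmem P c).2 ?_, fun hq => (hmem Q c).1 hq ?_⟩⟩
    · rw [← hc, mem_gen_iff_notMem hL, not_not, ← hrng]
      exact ⟨_, germ_app _ _ _⟩
    · have hb' := hoff Q (Ne.symm hne)
      rw [← hc, mem_gen_iff_notMem hL, ← germ_app]
      rw [mem_gen_iff_notMem (H11Ample.isInvertible_tensor (isInvertible_pt (k := k) hdim hP) hL)] at hg₁
      intro hh
      exact hg₁ ((mem_smul_top_iff _ _ hb' _).1 hh)
  · intro P hP
    obtain ⟨-, g₁, hg₁⟩ := drop_two_cases (k := k) hdim hL hP hP (h P P hP hP)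
    have hM := H11Ample.isInvertible_tensor (isInvertible_pt (k := k) hdim hP) hL
    obtain ⟨-, hrng, -⟩ := ptIncl_stalks (k := k) hP (finrank_residue_eq_one (k := k) hP) hL
      (isInvertible_pt (k := k) hdim hP)
    obtain ⟨c, hc⟩ := hcomb ((ptIncl P L).app ⊤ g₁)
    refine le_trans (fun z hz => ?_) le_sup_left
    have h1 : H06Mod.stalkLin τ.hom P z ∈ LinearMap.range (H06Mod.stalkLin (ptIncl P L) P) := by
      rw [hrng, ← LinearMap.range_eq_top.2 (hbij P).2, ← Submodule.map_top, ← Submodule.map_smul'']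
      exact ⟨z, hz, rfl⟩
    obtain ⟨w, hw⟩ := h1
    obtain ⟨a, ha⟩ := ((H11Ample.mem_gen_iff hM g₁ P).1 hg₁).2 w
    change a • (CohB1.tensorMod _ L).presheaf.germ ⊤ P trivial g₁ = w at ha
    have hcm : P ∉ H11Ample.gen L (∑ i, ProjUP.toGlobal p (c i) • v i) := by
      rw [← hc, mem_gen_iff_notMem hL, not_not, ← hrng]
      exact ⟨_, germ_app _ _ _⟩
    have hz' : z = a • pb.presheaf.germ ⊤ P trivial (comb c) := (hbij P).1 (by
      rw [map_smul, germ_app, hτc, ← hc, ← germ_app, ← map_smul, ha, hw])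
    rw [hz']
    exact Submodule.smul_mem _ _ (Submodule.subset_span ⟨c, rfl, (hmem P c).2 hcm⟩)

/-- A closed immersion by `L` makes any two closed points impose independent conditions. -/
theorem h0_drop_of_closedImmersion (hdim : topologicalKrullDim X = 1) {L : X.Modules} (hL : PicF.IsInvertible L)
    {n : ℕ} {r : X ⟶ CohB1.ProjSpace n k} (hcl : IsClosedImmersion r)
    (hr : r ≫ CohB1.ProjSpace.toSpec n k = X ↘ Spec (CommRingCat.of k))
    (τ : (Scheme.Modules.pullback r).obj (Twist.twistProjSpace n k 1) ≅ L) {P Q : X}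
    (hP : IsClosed ({P} : Set X)) (hQ : IsClosed ({Q} : Set X)) :
    Module.finrank k (Coh.HH X (CohB1.tensorMod (ClSub.idealMod (ptIdeal P))
      (CohB1.tensorMod (ClSub.idealMod (ptIdeal Q)) L)) 0) + 2 = Module.finrank k (Coh.HH X L 0) := by
  let p := X ↘ Spec (CommRingCat.of k)
  haveI := isNoetherian_of_proper (k := k) (X := X)
  let pb := (Scheme.Modules.pullback r).obj (Twist.twistProjSpace n k 1)
  let comb : (Fin (n + 1) → k) → Γ(pb, ⊤) := fun c =>
    ∑ i, ProjUP.toGlobal p (c i) • ProjUP.pullSec r (Twist.twistProjSpace n k 1) (ProjUP.coord n k i)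
  obtain ⟨hsep, htan⟩ := (S14411.result k X p n r hr).1 hcl
  have hbij : ∀ x, Function.Bijective (H06Mod.stalkLin τ.hom x) := fun x =>
    (ConcreteCategory.isIso_iff_bijective ((DerSch.stalkFunctor X x).map τ.hom)).1 inferInstance
  have hmem : ∀ (x : X) (c : Fin (n + 1) → k),
      x ∈ H11Ample.gen L (τ.hom.app ⊤ (comb c)) ↔
        pb.presheaf.germ ⊤ x trivial (comb c) ∉ IsLocalRing.maximalIdeal (X.presheaf.stalk x) •
          (⊤ : Submodule (X.presheaf.stalk x) (pb.presheaf.stalk x)) := fun x c => by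
    rw [mem_gen_iff_notMem hL, ← germ_app, mem_smul_top_iff _ _ (hbij x)]
  have hbpf : ∀ x, ∃ g, x ∈ H11Ample.gen L g := fun x => by
    obtain ⟨i, hi⟩ := H11Ample.exists_mem_basicOpen_X (r x)
    refine ⟨τ.hom.app ⊤ (ProjUP.pullSec r (Twist.twistProjSpace n k 1) (ProjUP.coord n k i)), ?_⟩
    rw [H11Ample.gen_iso]
    have h2 := H11Ample.gen_smul_pullSect r (H11Ample.isInvertible_twist (n := n) (R := k)) (ProjUP.coord n k i)
      (isUnit_one (M := Γ(X, ⊤)))
    rw [one_smul] at h2
    exact h2.ge ((H11Ample.gen_coord i).ge hi)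
  have key : ∀ {P Q : X}, IsClosed ({P} : Set X) → IsClosed ({Q} : Set X) →
      (∃ c, (P ≠ Q → pb.presheaf.germ ⊤ P trivial (comb c) ∉ IsLocalRing.maximalIdeal (X.presheaf.stalk P) •
          (⊤ : Submodule (X.presheaf.stalk P) (pb.presheaf.stalk P))) ∧
        pb.presheaf.germ ⊤ Q trivial (comb c) ∈ IsLocalRing.maximalIdeal (X.presheaf.stalk Q) •
          (⊤ : Submodule (X.presheaf.stalk Q) (pb.presheaf.stalk Q)) ∧
        (P = Q → pb.presheaf.germ ⊤ Q trivial (comb c) ∉ IsLocalRing.maximalIdeal (X.presheaf.stalk Q) ^ 2 •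
          (⊤ : Submodule (X.presheaf.stalk Q) (pb.presheaf.stalk Q)))) →
      Module.finrank k (Coh.HH X (CohB1.tensorMod (ClSub.idealMod (ptIdeal P))
        (CohB1.tensorMod (ClSub.idealMod (ptIdeal Q)) L)) 0) + 2 = Module.finrank k (Coh.HH X L 0) := by
    intro P Q hP hQ ⟨c, hcP, hcQ, hcc⟩
    have hIP := isInvertible_pt (k := k) hdim hP
    have hIQ := isInvertible_pt (k := k) hdim hQ
    have hM := H11Ample.isInvertible_tensor hIQ hL
    have e1 := (h0_add_one_iff (k := k) hQ (finrank_residue_eq_one (k := k) hQ) hL (isCoh_of_isInvertible hIQ)).2 (hbpf Q)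
    obtain ⟨hoff, hrng, hlift⟩ := ptIncl_stalks (k := k) hQ (finrank_residue_eq_one (k := k) hQ) hL hIQ
    let g := τ.hom.app ⊤ (comb c)
    have hgQ : L.presheaf.germ ⊤ Q trivial g ∈ LinearMap.range (H06Mod.stalkLin (ptIncl Q L) Q) := by
      rw [hrng]
      exact not_not.1 fun hh => (hmem Q c).1 ((mem_gen_iff_notMem hL g Q).2 hh) hcQ
    obtain ⟨w, hw⟩ := hlift ((sec L).symm g) (by rwa [AddEquiv.apply_symm_apply])
    have hg : g = (ptIncl Q L).app ⊤ (sec _ w) := by
      rw [← sec_natural (k := k), hw, AddEquiv.apply_symm_apply]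
    have e2 := (h0_add_one_iff (k := k) hP (finrank_residue_eq_one (k := k) hP) hM (isCoh_of_isInvertible hIP)).2
      ⟨sec _ w, ?_⟩
    · omega
    rw [mem_gen_iff_notMem hM]
    intro hh
    have h3 : L.presheaf.germ ⊤ P trivial g ∈
        Submodule.map (H06Mod.stalkLin (ptIncl Q L) P) (IsLocalRing.maximalIdeal (X.presheaf.stalk P) • ⊤) := by
      rw [hg, ← germ_app]; exact ⟨_, hh, rfl⟩
    rw [Submodule.map_smul'', Submodule.map_top] at h3
    by_cases hPQ : P = Q
    · subst hPQ
      rw [hrng, ← Submodule.mul_smul, ← pow_two] at h3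
      refine hcc rfl ((mem_smul_top_iff _ _ (hbij P) _).1 ?_)
      rw [germ_app]
      exact h3
    · rw [LinearMap.range_eq_top.2 (hoff P hPQ).2] at h3
      exact ((mem_gen_iff_notMem hL g P).1 ((hmem P c).2 (hcP hPQ))) h3
  by_cases hPQ : P = Q
  · subst hPQ
    let R := X.presheaf.stalk P
    let m := IsLocalRing.maximalIdeal R
    have hex : ∃ c, pb.presheaf.germ ⊤ P trivial (comb c) ∈ m • (⊤ : Submodule R (pb.presheaf.stalk P)) ∧
        pb.presheaf.germ ⊤ P trivial (comb c) ∉ m ^ 2 • (⊤ : Submodule R (pb.presheaf.stalk P)) := by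
      by_contra hne
      push Not at hne
      have h4 : m • (⊤ : Submodule R (pb.presheaf.stalk P)) ≤ m ^ 2 • ⊤ := by
        refine (htan P hP).trans (sup_le (Submodule.span_le.2 ?_) le_rfl)
        rintro _ ⟨c, rfl, hc⟩
        exact hne c hc
      haveI : IsNoetherianRing R := inferInstance
      obtain ⟨-, hfin, -⟩ := H25Par.finrank_stalk (rank_one_of_isInvertible
        (H11Tilde.isInvertible_of_iso τ.symm hL)) P
      haveI := hfin
      have h5 : m • (⊤ : Submodule R (pb.presheaf.stalk P)) = ⊥ := by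
        refine Submodule.eq_bot_of_le_smul_of_le_jacobson_bot m _ (IsNoetherian.noetherian _) ?_
          (IsLocalRing.maximalIdeal_le_jacobson _)
        rw [← Submodule.mul_smul, ← pow_two]; exact h4
      obtain ⟨g, hg⟩ := hbpf P
      obtain ⟨hz, -⟩ := (H11Ample.mem_gen_iff hL g P).1 hg
      have hm0 : m = ⊥ := eq_bot_iff.2 fun a ha => by
        obtain ⟨z, hz'⟩ := (hbij P).2 (L.presheaf.germ ⊤ P trivial g)
        have h6 : a • z = 0 := by
          rw [← Submodule.mem_bot R, ← h5]; exact Submodule.smul_mem_smul ha Submodule.mem_top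
        refine hz (show a • L.presheaf.germ ⊤ P trivial g = (0 : R) • L.presheaf.germ ⊤ P trivial g from ?_)
        rw [← hz', ← map_smul, h6, map_zero, zero_smul]
      exact not_isField_stalk_of_closed (k := k) hdim hP (IsLocalRing.isField_iff_maximalIdeal_eq.2 hm0)
    obtain ⟨c, h1, h2⟩ := hex
    exact key hP hP ⟨c, fun hh => absurd rfl hh, h1, fun _ => h2⟩
  · obtain ⟨c, hc⟩ := hsep P Q hP hQ hPQ
    rcases hc with ⟨hin, hout⟩ | ⟨hin, hout⟩
    · have h' := key hQ hP ⟨c, fun _ => hout, hin, fun hh => absurd hh.symm hPQ⟩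
      have e : CohB1.tensorMod (ClSub.idealMod (ptIdeal P)) (CohB1.tensorMod (ClSub.idealMod (ptIdeal Q)) L) ≅
          CohB1.tensorMod (ClSub.idealMod (ptIdeal Q)) (CohB1.tensorMod (ClSub.idealMod (ptIdeal P)) L) :=
        (H10Coh.Tw.assoc _ _ L).symm ≪≫ PicGrp.tensorModIso (H10Coh.Tw.commIso _ _) (Iso.refl L) ≪≫
          H10Coh.Tw.assoc _ _ L
      rw [finrank_h0_congr (k := k) e 0]
      exact h'
    · exact key hP hQ ⟨c, fun _ => hout, hin, fun hh => absurd hh hPQ⟩

end Groth.Agent.H29CurveDual
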