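import Groth.Agent.H29CurveDual.SingularVanish
import Groth.Agent.H29CurveDual.Embedding

/-!
# Very ampleness in large degree on possibly singular integral curves over an algebraically closed field
-/

set_option autoImplicit false
set_option linter.style.haveILetI false

universe u

open CategoryTheory CategoryTheory.Limits AlgebraicGeometry TopologicalSpace Opposite
open Groth.Agent.H29RR

namespace Groth.Agent.H29CurveDual

attribute [local instance 10000] H10Coh.hasSheafifyAb H10Coh.hasWeakSheafifyAb H10Coh.hasExtAb H10Coh.enoughInjAb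
attribute [local instance] Curv2.resAlgebra

variable {k : Type u} [Field k] [IsAlgClosed k] {X : Scheme.{u}} [X.Over (Spec (CommRingCat.of k))] [IsIntegral X]
  [IsProper (X ↘ Spec (CommRingCat.of k))]

/-- The sections vanishing at a closed point span `m L` at that point and `L` elsewhere. -/
theorem spansAt_ptIdeal_tensor (hdim : topologicalKrullDim X ≤ 1)
    (h0 : Module.finrank k (Coh.HH X (Coh.structureModule X) 0) = 1) {L : X.Modules} (hL : PicF.IsInvertible L)
    (hdeg : 2 * (Curv2.genus k X : ℤ) + 1 ≤ Curv2.deg k X L 1) {P : X} (hP : IsClosed ({P} : Set X)) (x : X) :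
    SpansAt (CohB1.tensorMod (ClSub.idealMod (ptIdeal P)) L) x := by
  haveI := isNoetherian_of_proper (k := k) (X := X)
  have hsupp : ((ptIdeal P).support : Set X) = {P} := by
    rw [← Scheme.IdealSheafData.range_subschemeι, range_subscheme_pt hP]
  obtain ⟨hc, ⟨j, hj⟩, he⟩ := exists_idealTensor_data (k := k) hL (ptIdeal P)
    (by rw [hsupp]; exact topologicalKrullDim_zero_of_discreteTopology _)
  haveI := hj
  haveI := H10Coh.finite_HH_proper k X _ hc 0
  refine spansAt_of_genus_lt_h0 (k := k) hdim hc hL j ?_ x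
  rw [finrank_h0_quotMod_pt (k := k) hP, finrank_residue_eq_one (k := k) hP,
    euler_eq_sub (k := k) hdim (CohB1.tensorMod _ L)] at he
  have hO := euler_eq_sub (k := k) hdim (Coh.structureModule X)
  rw [h0] at hO
  rw [deg_def] at hdeg
  rw [Curv2.genus] at hdeg ⊢
  omega

/-- Any spanning family of sections in degree at least `2g+1` gives a closed immersion. -/
theorem exists_closedImmersion_of_spanning (hdim : topologicalKrullDim X ≤ 1)
    (h0 : Module.finrank k (Coh.HH X (Coh.structureModule X) 0) = 1) {L : X.Modules} (hL : PicF.IsInvertible L)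
    (hdeg : 2 * (Curv2.genus k X : ℤ) + 1 ≤ Curv2.deg k X L 1) {n : ℕ} (v : Fin (n + 1) → Γ(L, ⊤))
    (hcomb : ∀ g : Γ(L, ⊤), ∃ c : Fin (n + 1) → k,
      g = ∑ i, ProjUP.toGlobal (X ↘ Spec (CommRingCat.of k)) (c i) • v i) :
    ∃ (r : X ⟶ CohB1.ProjSpace n k), IsClosedImmersion r ∧
      r ≫ CohB1.ProjSpace.toSpec n k = X ↘ Spec (CommRingCat.of k) ∧
      ∃ τ : (Scheme.Modules.pullback r).obj (Twist.twistProjSpace n k 1) ≅ L,
        ∀ i, τ.hom.app ⊤ (ProjUP.pullSec r (Twist.twistProjSpace n k 1) (ProjUP.coord n k i)) = v i := by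
  let p := X ↘ Spec (CommRingCat.of k)
  haveI := isNoetherian_of_proper (k := k) (X := X)
  have hgg : Curv2.IsGloballyGenerated L := isGloballyGenerated_of_deg_ge (k := k) hdim h0 hL (by omega)
  have hgen : ProjUP.GeneratedBy L v := fun x => by
    rw [eq_top_iff, ← spansAt_of_globallyGenerated hgg x, Submodule.span_le]
    rintro _ ⟨g, rfl⟩
    obtain ⟨c, rfl⟩ := hcomb g
    show L.presheaf.germ ⊤ x trivial (∑ i, ProjUP.toGlobal p (c i) • v i) ∈ _
    rw [map_sum]
    refine Submodule.sum_mem _ fun i _ => ?_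
    rw [H17.AssPts.germ_smul']
    exact Submodule.smul_mem _ _ (Submodule.subset_span ⟨i, rfl⟩)
  obtain ⟨r, hr, τ, hτ⟩ := S3572.result n p L hL v hgen
  let pb := (Scheme.Modules.pullback r).obj (Twist.twistProjSpace n k 1)
  let comb : (Fin (n + 1) → k) → Γ(pb, ⊤) := fun c =>
    ∑ i, ProjUP.toGlobal p (c i) • ProjUP.pullSec r (Twist.twistProjSpace n k 1) (ProjUP.coord n k i)
  have hτc : ∀ c, τ.hom.app ⊤ (comb c) = ∑ i, ProjUP.toGlobal p (c i) • v i := fun c => by
    rw [map_sum]
    exact Finset.sum_congr rfl fun i _ => (Scheme.Modules.Hom.app_smul _ _ _).trans (congrArg _ (hτ i))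
  have hbij : ∀ x, Function.Bijective (H06Mod.stalkLin τ.hom x) := fun x =>
    (ConcreteCategory.isIso_iff_bijective ((DerSch.stalkFunctor X x).map τ.hom)).1 inferInstance
  refine ⟨r, (S14411.result k X p n r hr).2 ⟨?_, ?_⟩, hr, τ, hτ⟩
  · intro P Q hP hQ hne
    obtain ⟨hoff, hrng, -⟩ := ptIncl_stalks_of_coh (k := k) hP (finrank_residue_eq_one (k := k) hP) hL
    let G := CohB1.tensorMod (ClSub.idealMod (ptIdeal P)) L
    let m := IsLocalRing.maximalIdeal (X.presheaf.stalk Q)
    obtain ⟨g, hg⟩ : ∃ g : Γ(G, ⊤), L.presheaf.germ ⊤ Q trivial ((ptIncl P L).app ⊤ g) ∉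
        m • (⊤ : Submodule (X.presheaf.stalk Q) (L.presheaf.stalk Q)) := by
      by_contra hall
      push Not at hall
      have h1 : (⊤ : Submodule (X.presheaf.stalk Q) (L.presheaf.stalk Q)) ≤ m • ⊤ := by
        refine (LinearMap.range_eq_top.2 (hoff Q (Ne.symm hne)).2).ge.trans ?_
        rw [LinearMap.range_eq_map]
        refine le_trans (Submodule.map_mono (spansAt_ptIdeal_tensor (k := k) hdim h0 hL hdeg hP Q).ge) ?_
        rw [Submodule.map_span, Submodule.span_le]
        rintro _ ⟨_, ⟨g, rfl⟩, rfl⟩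
        rw [SetLike.mem_coe, germ_app]
        exact hall g
      obtain ⟨-, hfin, hr1⟩ := H25Par.finrank_stalk (rank_one_of_isInvertible hL) Q
      change Module.finrank (X.presheaf.stalk Q) (L.presheaf.stalk Q) = 1 at hr1
      haveI : Module.Finite (X.presheaf.stalk Q) (L.presheaf.stalk Q) := hfin
      have h2 := Submodule.eq_bot_of_le_smul_of_le_jacobson_bot m ⊤ Module.Finite.fg_top h1
        (IsLocalRing.maximalIdeal_le_jacobson _)
      haveI : Subsingleton (L.presheaf.stalk Q) :=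
        (Submodule.subsingleton_iff (X.presheaf.stalk Q)).1 (subsingleton_of_bot_eq_top h2.symm)
      rw [Module.finrank_zero_of_subsingleton] at hr1
      exact zero_ne_one hr1
    obtain ⟨c, hc⟩ := hcomb ((ptIncl P L).app ⊤ g)
    refine ⟨c, Or.inl ⟨?_, fun hq => hg ?_⟩⟩
    · rw [← mem_smul_top_iff _ _ (hbij P), germ_app, hτc, ← hc, ← hrng]
      exact ⟨_, germ_app _ _ _⟩
    · rw [← mem_smul_top_iff _ _ (hbij Q), germ_app, hτc, ← hc] at hq
      exact hq
  · intro P hP
    obtain ⟨-, hrng, -⟩ := ptIncl_stalks_of_coh (k := k) hP (finrank_residue_eq_one (k := k) hP) hL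
    refine le_trans (fun z hz => ?_) le_sup_left
    have h1 : H06Mod.stalkLin τ.hom P z ∈ LinearMap.range (H06Mod.stalkLin (ptIncl P L) P) := by
      rw [hrng]
      exact (mem_smul_top_iff _ _ (hbij P) _).2 hz
    rw [LinearMap.range_eq_map, ← spansAt_ptIdeal_tensor (k := k) hdim h0 hL hdeg hP P, Submodule.map_span] at h1
    suffices h2 : H06Mod.stalkLin τ.hom P z ∈ Submodule.map (H06Mod.stalkLin τ.hom P) (Submodule.span _ _) by
      obtain ⟨z', hz', e⟩ := Submodule.mem_map.1 h2
      exact (hbij P).1 e ▸ hz'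
    rw [Submodule.map_span]
    refine Submodule.span_mono ?_ h1
    rintro _ ⟨_, ⟨g, rfl⟩, rfl⟩
    obtain ⟨c, hc⟩ := hcomb ((ptIncl P L).app ⊤ g)
    refine ⟨pb.presheaf.germ ⊤ P trivial (comb c), ⟨c, rfl, ?_⟩, ?_⟩
    · rw [← mem_smul_top_iff _ _ (hbij P), germ_app, hτc, ← hc, ← hrng]
      exact ⟨_, germ_app _ _ _⟩
    · rw [germ_app, hτc, ← hc, ← germ_app]

/-- Degree at least `2g+1` gives a closed immersion. -/
theorem exists_closedImmersion_of_deg_ge (hdim : topologicalKrullDim X ≤ 1)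
    (h0 : Module.finrank k (Coh.HH X (Coh.structureModule X) 0) = 1) {L : X.Modules} (hL : PicF.IsInvertible L)
    (hdeg : 2 * (Curv2.genus k X : ℤ) + 1 ≤ Curv2.deg k X L 1) :
    ∃ (n : ℕ) (r : X ⟶ CohB1.ProjSpace n k), IsClosedImmersion r ∧
      r ≫ CohB1.ProjSpace.toSpec n k = X ↘ Spec (CommRingCat.of k) ∧
      Nonempty ((Scheme.Modules.pullback r).obj (Twist.twistProjSpace n k 1) ≅ L) ∧
      ((n : ℤ) + Curv2.genus k X = Curv2.deg k X L 1) := by
  haveI := isNoetherian_of_proper (k := k) (X := X)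
  haveI := finite_HH (k := k) L hL 0
  haveI := subsingleton_h1_of_deg_ge (k := k) hdim h0 hL (by omega)
  have hrr := riemann_roch (k := k) hdim L
  rw [h0, Module.finrank_zero_of_subsingleton (R := k) (M := Coh.HH X L 1)] at hrr
  have hpos : Module.finrank k (Coh.HH X L 0) ≠ 0 := by omega
  obtain ⟨n, hn⟩ := Nat.exists_eq_succ_of_ne_zero hpos
  let β := Module.finBasisOfFinrankEq k (Coh.HH X L 0) hn
  obtain ⟨r, hr, hrk, τ, -⟩ := exists_closedImmersion_of_spanning hdim h0 hL hdeg (fun i => sec L (β i)) fun g =>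
    ⟨fun i => β.repr ((sec L).symm g) i, by
      rw [← sec_comb (k := k) (L := L), β.sum_repr, AddEquiv.apply_symm_apply]⟩
  exact ⟨n, r, hr, hrk, ⟨τ⟩, by omega⟩

end Groth.Agent.H29CurveDual
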