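import Groth.Agent.H29CurveDual.EtaleP1
import Groth.Agent.H17.Conormal.DiffSeq
import Groth.Agent.H11Ample.Converse

/-!
# The degree of the differentials along a separable morphism of curves
-/

set_option autoImplicit false
set_option linter.style.haveILetI false

universe u

open CategoryTheory CategoryTheory.Limits AlgebraicGeometry TopologicalSpace Opposite

namespace Groth.Agent.H29CurveDual

attribute [local instance 10000] H10Coh.hasSheafifyAb H10Coh.hasWeakSheafifyAb H10Coh.hasExtAb H10Coh.enoughInjAb

variable {X Y : Scheme.{u}}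

/-- Separability of the function fields in terms of the stalk map. -/
theorem formallyUnramified_stalkMap_generic [IsIntegral X] [IsIntegral Y] (f : X ⟶ Y)
    (e : f (genericPoint X) = genericPoint Y)
    (hsep : letI := ((Y.presheaf.stalkSpecializes (specializes_of_eq e) ≫ f.stalkMap (genericPoint X)).hom).toAlgebra
      Algebra.IsSeparable Y.functionField X.functionField) :
    (f.stalkMap (genericPoint X)).hom.FormallyUnramified := by
  letI := ((Y.presheaf.stalkSpecializes (specializes_of_eq e) ≫ f.stalkMap (genericPoint X)).hom).toAlgebra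
  haveI : Algebra.IsSeparable Y.functionField X.functionField := hsep
  have h : Algebra.FormallyUnramified Y.functionField X.functionField := Algebra.FormallyUnramified.of_isSeparable _ _
  exact RingHom.FormallyUnramified.of_comp (f := (Y.presheaf.stalkSpecializes (specializes_of_eq e)).hom) h

/-- The relative differentials vanish at a point with formally unramified stalk map. -/
theorem notMem_support_omega (f : X ⟶ Y) [QuasiSeparated f] {x : X}
    (h : (f.stalkMap x).hom.FormallyUnramified) : x ∉ CohB1.support (Omega.sheaf f) := by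
  refine not_not.2 ?_
  obtain ⟨e, -⟩ := H29Omega.exists_stalkEquiv _ (H17.PrinOmega.isUniversal_dOmega f) x
  letI := (f.stalkMap x).hom.toAlgebra
  haveI : Algebra.FormallyUnramified (Y.presheaf.stalk (f x)) (X.presheaf.stalk x) := h
  haveI := Algebra.FormallyUnramified.subsingleton_kaehlerDifferential
    (R := Y.presheaf.stalk (f x)) (A := X.presheaf.stalk x)
  exact e.toEquiv.subsingleton

section formal

variable {k : Type u} [Field k] [X.Over (Spec (CommRingCat.of k))] [IsIntegral X]
  [IsProper (X ↘ Spec (CommRingCat.of k))]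

/-- A morphism of invertible modules which is generically surjective changes the degree by the length of the cokernel. -/
theorem deg_eq_add_of_generic (hdim : topologicalKrullDim X ≤ 1) {F G : X.Modules} (hF : PicF.IsInvertible F)
    (hG : PicF.IsInvertible G) (c : F ⟶ G) (hc : genericPoint X ∉ CohB1.support (cokernel c)) :
    Curv2.deg k X G 1 = Curv2.deg k X F 1 + (Module.finrank k (Coh.HH X (cokernel c) 0) : ℤ) := by
  haveI := H29RR.isNoetherian_of_proper (k := k) (X := X)
  have hFc := isCoh_of_isInvertible hF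
  have hGc := isCoh_of_isInvertible hG
  have hFt := H25Par.isTorsionFree_of_locFree (H28Pinch.isFinLocFree_of_isInvertible hF)
  letI : Field (X.presheaf.stalk (genericPoint X)) := inferInstanceAs (Field X.functionField)
  let T := DerSch.stalkFunctor X (genericPoint X)
  haveI : Epi (T.map c) := by
    refine Preadditive.epi_of_cokernel_zero ?_
    have hz := (H25Euler.notMem_support_iff _ _).1 hc
    exact (IsZero.of_iso hz (PreservesCokernel.iso T c).symm).eq_of_tgt _ _
  have hsurj : Function.Surjective (T.map c).hom := (ModuleCat.epi_iff_surjective _).1 inferInstance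
  obtain ⟨hf, hfin, hr⟩ := H25Par.finrank_stalk (H29RR.rank_one_of_isInvertible hG) (genericPoint X)
  obtain ⟨hf', hfin', hr'⟩ := H25Par.finrank_stalk (H29RR.rank_one_of_isInvertible hF) (genericPoint X)
  haveI : Module.Finite (X.presheaf.stalk (genericPoint X)) (T.obj G) := hfin
  haveI : Module.Finite (X.presheaf.stalk (genericPoint X)) (T.obj F) := hfin'
  have hinj : Function.Injective (T.map c).hom :=
    (LinearMap.injective_iff_surjective_of_finrank_eq_finrank (hr'.trans hr.symm)).2 hsurj
  haveI : Mono c := by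
    refine H11Tilde.mono_of_injective _ fun W s hs x hx => ⟨W, le_rfl, hx, ?_⟩
    have hW : genericPoint X ∈ W := H29Ref.genericPoint_mem hx
    have h0 : (T.map c).hom (F.presheaf.germ W (genericPoint X) hW s) = 0 :=
      (TopCat.Presheaf.stalkFunctor_map_germ_apply W (genericPoint X) hW c.mapPresheaf s).trans
        ((congrArg (G.presheaf.germ W (genericPoint X) hW) hs).trans (map_zero _))
    have h1 : F.presheaf.germ W (genericPoint X) hW s = 0 := hinj (h0.trans (map_zero _).symm)
    have : s = 0 := H29Ref.germ_generic_injective F hFc.1 hFt hW (h1.trans (map_zero _).symm)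
    rw [this, map_zero]
  obtain ⟨-, -, -, he⟩ := H29RR.euler_sub_of_mono (k := k) hdim hFc hGc c hc
  rw [H29RR.deg_def, H29RR.deg_def]
  omega

end formal

variable {k : Type u} [Field k] [X.Over (Spec (CommRingCat.of k))] [Y.Over (Spec (CommRingCat.of k))]

omit [Y.Over (Spec (CommRingCat.of k))] in
theorem deg_omega_eq_add_aux [IsIntegral X]
    [IsProper (X ↘ Spec (CommRingCat.of k))] (hdX : topologicalKrullDim X ≤ 1) (f : X ⟶ Y) [QuasiSeparated f]
    (q : Y ⟶ Spec (CommRingCat.of k)) [QuasiSeparated q] (p : X ⟶ Spec (CommRingCat.of k)) [QuasiSeparated p]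
    (hf : f ≫ q = p) (hΩX : PicF.IsInvertible (Omega.sheaf p)) (hΩY : PicF.IsInvertible (Omega.sheaf q))
    (hu : (f.stalkMap (genericPoint X)).hom.FormallyUnramified) :
    Curv2.deg k X (Omega.sheaf p) 1 = Curv2.deg k X ((Scheme.Modules.pullback f).obj (Omega.sheaf q)) 1 +
      (Module.finrank k (Coh.HH X (Omega.sheaf f) 0) : ℤ) := by
  subst hf
  have hY := H17.PrinOmega.isUniversal_dOmega q
  have hX := H17.PrinOmega.isUniversal_dOmega (f ≫ q)
  have hXY := H17.PrinOmega.isUniversal_dOmega f
  obtain ⟨c₁, hc₁, -⟩ := S9370.result q (f ≫ q) f (𝟙 _) (by rw [Category.comp_id]) _ _ hY _ _ hX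
  obtain ⟨c₂, hc₂, -⟩ := S9370.result (f ≫ q) f (𝟙 X) q (by rw [Category.id_comp]) _ _ hX _ _ hXY
  obtain ⟨w, hex, hepi⟩ := H17.Conormal.exact_diffSeq f q hY hX hXY hc₁ hc₂
  haveI := hepi
  haveI : Epi ((Scheme.Modules.pullbackId X).inv.app (Omega.sheaf (f ≫ q)) ≫ c₂) := epi_comp _ _
  let eC : cokernel c₁ ≅ Omega.sheaf f :=
    IsColimit.coconePointUniqueUpToIso (cokernelIsCokernel c₁) hex.gIsCokernel
  have hc : genericPoint X ∉ CohB1.support (cokernel c₁) := (H25Euler.notMem_support_iff _ _).2
    (IsZero.of_iso ((H25Euler.notMem_support_iff _ _).1 (notMem_support_omega f hu))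
      ((DerSch.stalkFunctor X _).mapIso eC))
  rw [deg_eq_add_of_generic (k := k) hdX (H11Ample.isInvertible_pullback f hΩY) hΩX c₁ hc,
    finrank_h0_congr eC 0]

/-- The Riemann–Hurwitz formula with the relative differentials. -/
theorem deg_omega_eq_add [IsIntegral X] [IsIntegral Y]
    [IsProper (X ↘ Spec (CommRingCat.of k))] [IsProper (Y ↘ Spec (CommRingCat.of k))]
    [Smooth (X ↘ Spec (CommRingCat.of k))] [Smooth (Y ↘ Spec (CommRingCat.of k))]
    (hdX : topologicalKrullDim X = 1) (hdY : topologicalKrullDim Y = 1)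
    (f : X ⟶ Y) [QuasiSeparated f] (hf : f ≫ (Y ↘ Spec (CommRingCat.of k)) = X ↘ Spec (CommRingCat.of k))
    (hη : f (genericPoint X) = genericPoint Y) (hu : (f.stalkMap (genericPoint X)).hom.FormallyUnramified) :
    Curv2.deg k X (Omega.sheaf (X ↘ Spec (CommRingCat.of k))) 1 =
      (f.residueDegree (genericPoint X) : ℤ) * Curv2.deg k Y (Omega.sheaf (Y ↘ Spec (CommRingCat.of k))) 1 +
        (Module.finrank k (Coh.HH X (Omega.sheaf f) 0) : ℤ) := by
  haveI := H27CurveDiv.smoothOfRelativeDimension_of_dim (Y ↘ Spec (CommRingCat.of k)) 1 hdY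
  rw [deg_omega_eq_add_aux (k := k) hdX.le f (Y ↘ Spec (CommRingCat.of k)) _ hf
    (isInvertible_omega_curve (k := k) hdX) (isInvertible_omega _) hu,
    S7640.result k X Y hdX hdY f hf hη 1 _ (isFinLocFreeOfRank_omega (Y ↘ Spec (CommRingCat.of k)))]

end Groth.Agent.H29CurveDual
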