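import Groth.Agent.H29CurveDual.CanonAux
import Groth.Agent.H17.PrinOmega
import Groth.Agent.S9370
import Groth.Agent.S9776
import Groth.Agent.S7640
import Groth.Agent.S4808
import Groth.Agent.H12AlgSp.LargeFieldLift
import Groth.Agent.H28Curve.ProjLine
import Groth.Agent.H10Coh.Pn.Results
import Groth.Agent.S9683
import Groth.Agent.H27Weil.Geometry

/-!
# Finite etale covers of curves of genus zero
-/

set_option autoImplicit false
set_option linter.style.haveILetI false

universe u

open CategoryTheory CategoryTheory.Limits AlgebraicGeometry TopologicalSpace Opposite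

namespace Groth.Agent.H29CurveDual

attribute [local instance 10000] H10Coh.hasSheafifyAb H10Coh.hasWeakSheafifyAb H10Coh.hasExtAb H10Coh.enoughInjAb

variable {X Y : Scheme.{u}}

/-- Differentials pull back along etale morphisms. -/
theorem nonempty_pullback_omega_iso {S : Scheme.{u}} (f : X ⟶ Y) [Etale f] (q : Y ⟶ S) (p : X ⟶ S)
    [QuasiSeparated q] [QuasiSeparated p] (w : f ≫ q = p) :
    Nonempty ((Scheme.Modules.pullback f).obj (Omega.sheaf q) ≅ Omega.sheaf p) := by
  obtain ⟨c, hc, -⟩ := S9370.result q p f (𝟙 S) (by rw [Category.comp_id, w]) _ _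
    (H17.PrinOmega.isUniversal_dOmega q) _ _ (H17.PrinOmega.isUniversal_dOmega p)
  haveI := S9776.result q p f (𝟙 S) (by rw [Category.comp_id, w]) _ _
    (H17.PrinOmega.isUniversal_dOmega q) _ _ (H17.PrinOmega.isUniversal_dOmega p) c hc
  exact ⟨asIso c⟩

theorem map_genericPoint_of_flat [IrreducibleSpace X] [IrreducibleSpace Y] (f : X ⟶ Y) [Flat f] :
    f (genericPoint X) = genericPoint Y := by
  obtain ⟨x, hx, hfx⟩ := Flat.generalizingMap f ((genericPoint_spec Y).specializes (Set.mem_univ (f (genericPoint X))))
  rw [← (hx.antisymm ((genericPoint_spec X).specializes (Set.mem_univ x))).eq, hfx]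

theorem residueDegree_pos_of_etale (f : X ⟶ Y) [Etale f] (x : X) : 0 < f.residueDegree x := by
  letI := (f.residueFieldMap x).hom.toAlgebra
  haveI : Module.Finite (Y.residueField (f x)) (X.residueField x) := H12AlgSp.finite_residueFieldMap_etale f x
  exact Module.finrank_pos

theorem bijective_residue_genericPoint [IsIntegral X] {x : X} (hx : x = genericPoint X) :
    Function.Bijective (X.residue x) := by
  subst hx
  letI : Field (X.presheaf.stalk (genericPoint X)) := inferInstanceAs (Field X.functionField)
  exact ⟨RingHom.injective _, X.residue_surjective _⟩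

theorem isIso_stalkMap_of_residueDegree_one [IsIntegral X] [IsIntegral Y] (f : X ⟶ Y)
    (hη : f (genericPoint X) = genericPoint Y) (hd : f.residueDegree (genericPoint X) = 1) :
    IsIso (f.stalkMap (genericPoint X)) := by
  letI := (f.residueFieldMap (genericPoint X)).hom.toAlgebra
  have hb : Function.Bijective (f.residueFieldMap (genericPoint X)).hom :=
    Algebra.finrank_eq_one_iff_bijective_algebraMap.1 hd
  have hY := bijective_residue_genericPoint hη
  have hX := bijective_residue_genericPoint (rfl : genericPoint X = genericPoint X)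
  rw [ConcreteCategory.isIso_iff_bijective]
  refine (Function.Bijective.of_comp_iff' hX _).1 ?_
  have h : ∀ a, X.residue (genericPoint X) (f.stalkMap (genericPoint X) a) =
      f.residueFieldMap (genericPoint X) (Y.residue (f (genericPoint X)) a) := fun a =>
    (congr($(Scheme.residue_residueFieldMap f (genericPoint X)) a)).symm
  exact (funext h : (X.residue (genericPoint X) ∘ f.stalkMap (genericPoint X)) = _) ▸ hb.comp hY

variable {k : Type u} [Field k] [X.Over (Spec (CommRingCat.of k))] [Y.Over (Spec (CommRingCat.of k))]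

/-- A finite etale cover of a curve of genus zero by a curve with the same constants is trivial. -/
theorem isIso_of_etale_genus_zero [IsIntegral X] [IsIntegral Y]
    [IsProper (X ↘ Spec (CommRingCat.of k))] [IsProper (Y ↘ Spec (CommRingCat.of k))]
    [Smooth (X ↘ Spec (CommRingCat.of k))] [Smooth (Y ↘ Spec (CommRingCat.of k))]
    (hdX : topologicalKrullDim X = 1) (hdY : topologicalKrullDim Y = 1)
    (hX0 : Module.finrank k (Coh.HH X (Coh.structureModule X) 0) = 1)
    (hY0 : Module.finrank k (Coh.HH Y (Coh.structureModule Y) 0) = 1)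
    (f : X ⟶ Y) [IsFinite f] [Etale f] (hf : f ≫ (Y ↘ Spec (CommRingCat.of k)) = X ↘ Spec (CommRingCat.of k))
    (hg : Curv2.genus k Y = 0) : IsIso f := by
  have hη := map_genericPoint_of_flat f
  obtain ⟨e⟩ := nonempty_pullback_omega_iso f (Y ↘ Spec (CommRingCat.of k)) (X ↘ Spec (CommRingCat.of k)) hf
  haveI := H27CurveDiv.smoothOfRelativeDimension_of_dim (Y ↘ Spec (CommRingCat.of k)) 1 hdY
  have h := S7640.result k X Y hdX hdY f hf hη 1 _ (isFinLocFreeOfRank_omega (Y ↘ Spec (CommRingCat.of k)))
  rw [H29RR.deg_congr (k := k) e, deg_omega_of_h0 hdX hX0, deg_omega_of_h0 hdY hY0, hg] at h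
  have hpos := residueDegree_pos_of_etale f (genericPoint X)
  have hd : f.residueDegree (genericPoint X) = 1 := by omega
  haveI := isIso_stalkMap_of_residueDegree_one f hη hd
  refine S4808.result (fun y => ?_) f hη inferInstance
  haveI := H19Grp.isRegularLocalRing_stalk_of_smooth (Y ↘ Spec (CommRingCat.of k)) y
  exact H05EGA4.isIntegrallyClosed_of_isRegularLocalRing _

/-- The global functions of the line are the constants. -/
theorem finrank_h0_projLine (k : Type u) [Field k] :
    letI : (CohB1.ProjSpace 1 k).Over (Spec (CommRingCat.of k)) := ⟨CohB1.ProjSpace.toSpec 1 k⟩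
    Module.finrank k (Coh.HH (CohB1.ProjSpace 1 k) (Coh.structureModule (CohB1.ProjSpace 1 k)) 0) = 1 := by
  letI : (CohB1.ProjSpace 1 k).Over (Spec (CommRingCat.of k)) := ⟨CohB1.ProjSpace.toSpec 1 k⟩
  let f := CohB1.ProjSpace.toSpec 1 k
  haveI : IsIso f.appTop := H10Coh.Pn.isIso_toS_appTop 1 k
  letI := H22Alg.GlobalFunctions.algΓ f
  let e : Coh.HH (CohB1.ProjSpace 1 k) (Coh.structureModule (CohB1.ProjSpace 1 k)) 0 ≃ₗ[k]
      Γ(CohB1.ProjSpace 1 k, ⊤) :=
    { H10Coh.HH0Equiv (Coh.structureModule (CohB1.ProjSpace 1 k)) with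
      map_smul' := fun c x => (H10Coh.HH0Equiv_smul (Coh.structureModule (CohB1.ProjSpace 1 k))
        (f.appTop ((Scheme.ΓSpecIso (CommRingCat.of k)).inv c)) x).trans rfl }
  rw [e.finrank_eq]
  have hb : Function.Bijective (algebraMap k Γ(CohB1.ProjSpace 1 k, ⊤)) :=
    (ConcreteCategory.bijective_of_isIso f.appTop).comp
      (ConcreteCategory.bijective_of_isIso (Scheme.ΓSpecIso (CommRingCat.of k)).inv)
  exact (LinearEquiv.ofBijective (Algebra.linearMap k _) hb).finrank_eq.symm.trans (Module.finrank_self k)

end Groth.Agent.H29CurveDual
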