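import Groth.Agent.H10Coh.AffinePush
import Groth.Agent.H29Serre.Duality

/-!
# Cohomology of direct images along affine morphisms, naturally, and transfer of duality
-/

set_option autoImplicit false
set_option linter.style.haveILetI false
universe u

open CategoryTheory CategoryTheory.Limits AlgebraicGeometry Opposite TopologicalSpace
open Groth.Agent.H10Coh

namespace Groth.Agent.H29CurveDual

attribute [local instance 10000] hasSheafifyAb hasWeakSheafifyAb hasExtAb enoughInjAb
attribute [local instance] enoughInjMod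

variable {X S : Scheme.{u}}

/-- Morphisms of the cokernel chains of injective embeddings. -/
theorem exists_next {M N : X.Modules} (n : ℕ) (a : mZ M n ⟶ mZ N n) :
    ∃ (b : mI M n ⟶ mI N n) (c : mZ M (n + 1) ⟶ mZ N (n + 1)),
      a ≫ mi N n = mi M n ≫ b ∧ b ≫ mp N n = mp M n ≫ c := by
  haveI := injective_mI N n
  have hS := shortExact_mZ M n
  haveI := hS.mono_f
  haveI := hS.epi_g
  let b : mI M n ⟶ mI N n := Injective.factorThru (a ≫ mi N n) (mi M n)
  have hb : mi M n ≫ b = a ≫ mi N n := Injective.comp_factorThru _ _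
  have hw : mi M n ≫ (b ≫ mp N n) = 0 := by
    rw [← Category.assoc, hb, Category.assoc, mi_mp, comp_zero]
  exact ⟨b, hS.exact.desc (b ≫ mp N n) hw, hb.symm, (hS.exact.g_desc _ hw).symm⟩

/-- The maps on the cokernel chains induced by a morphism. -/
noncomputable def chainMap {M N : X.Modules} (φ : M ⟶ N) : ∀ n, mZ M n ⟶ mZ N n
  | 0 => φ
  | n + 1 => (exists_next n (chainMap φ n)).choose_spec.choose

/-- A morphism lifts to the chosen resolutions. -/
theorem exists_hom_inj {M N : X.Modules} (φ : M ⟶ N) :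
    ∃ Φ : FRes.Hom (MRes.inj M).toF (MRes.inj N).toF, Φ.f 0 = (shF X).map φ :=
  ⟨{ f := fun n => (shF X).map (chainMap φ n)
     g := fun n => (shF X).map (exists_next n (chainMap φ n)).choose
     comm₁ := fun n => ((shF X).map_comp _ _).symm.trans
       ((congrArg (shF X).map (exists_next n (chainMap φ n)).choose_spec.choose_spec.1).trans ((shF X).map_comp _ _))
     comm₂ := fun n => ((shF X).map_comp _ _).symm.trans
       ((congrArg (shF X).map (exists_next n (chainMap φ n)).choose_spec.choose_spec.2).trans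
        ((shF X).map_comp _ _)) }, rfl⟩

variable (f : X ⟶ S) [IsAffineHom f]

theorem affineLerayEquiv_natural {M N : X.Modules} [M.IsQuasicoherent] [N.IsQuasicoherent] (φ : M ⟶ N)
    (n : ℕ) (U : S.Opens) (x : HnM ((Coh.push f).obj M) n U) :
    affineLerayEquiv f N n U (postH ((shF S).map ((Coh.push f).map φ)) n U x) =
      postH ((shF X).map φ) n (f ⁻¹ᵁ U) (affineLerayEquiv f M n U x) := by
  obtain ⟨Φ, hΦ⟩ := exists_hom_inj φ
  have := FRes.pushEquiv_natural f.base Φ (epi_push_of_isAffineHom f M) (epi_push_of_isAffineHom f N) n U x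
  rw [hΦ] at this
  exact this

theorem HHEquiv_map {F G : X.Modules} {A : Type u} [CommRing A] [X.Over (Spec (CommRingCat.of A))]
    (φ : F ⟶ G) (n : ℕ) (x : Coh.HH X F n) :
    HHEquiv G n (Canon.HHlin A φ n x) = postH ((shF X).map φ) n ⊤ (HHEquiv F n x) :=
  topEquiv_map ((shF X).map φ) n x

variable {k : Type u} [CommRing k] [X.Over (Spec (CommRingCat.of k))] [S.Over (Spec (CommRingCat.of k))]
  (hf : f ≫ (S ↘ Spec (CommRingCat.of k)) = X ↘ Spec (CommRingCat.of k))

/-- The additive comparison. -/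
noncomputable def pushAdd (M : X.Modules) [M.IsQuasicoherent] (n : ℕ) :
    Coh.HH S ((Coh.push f).obj M) n ≃+ Coh.HH X M n :=
  ((HHEquiv ((Coh.push f).obj M) n).trans (affineLerayEquiv f M n ⊤)).trans (HHEquiv M n).symm

include hf in
theorem pushAdd_smul (M : X.Modules) [M.IsQuasicoherent] (n : ℕ) (a : k) (x : Coh.HH S ((Coh.push f).obj M) n) :
    pushAdd f M n (a • x) = a • pushAdd f M n x := by
  apply (HHEquiv M n).injective
  have hψ : (globA : k →+* Γ(X, ⊤)) a = f.appTop ((globA : k →+* Γ(S, ⊤)) a) := by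
    show toΓ (X ↘ Spec (CommRingCat.of k)) a = f.appTop.hom (toΓ (S ↘ Spec (CommRingCat.of k)) a)
    rw [← hf, toΓ_comp]
    rfl
  refine ((HHEquiv M n).apply_symm_apply _).trans ?_
  refine Eq.trans ?_ (HHEquiv_smul' M n a _).symm
  rw [hψ, show HHEquiv M n (pushAdd f M n x) = affineLerayEquiv f M n ⊤ (HHEquiv _ n x) from
    (HHEquiv M n).apply_symm_apply _]
  refine (congrArg (affineLerayEquiv f M n ⊤) (HHEquiv_smul' _ n a x)).trans ?_
  rw [smulSh_push f M]
  exact FRes.pushEquiv_natural f.base (mResSmul (MRes.inj M) (f.appTop (globA a)))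
    (epi_push_of_isAffineHom f M) (epi_push_of_isAffineHom f M) n ⊤ _

/-- Cohomology of a direct image along an affine morphism. -/
noncomputable def pushIso (M : X.Modules) [M.IsQuasicoherent] (n : ℕ) :
    Coh.HH S ((Coh.push f).obj M) n ≃ₗ[k] Coh.HH X M n :=
  { pushAdd f M n with map_smul' := pushAdd_smul f hf M n }

theorem pushIso_natural {M N : X.Modules} [M.IsQuasicoherent] [N.IsQuasicoherent] (φ : M ⟶ N) (n : ℕ)
    (x : Coh.HH S ((Coh.push f).obj M) n) :
    pushIso f hf N n (Canon.HHlin k ((Coh.push f).map φ) n x) = Canon.HHlin k φ n (pushIso f hf M n x) := by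
  apply (HHEquiv N n).injective
  refine ((HHEquiv N n).apply_symm_apply _).trans ?_
  refine Eq.trans ?_ (HHEquiv_map φ n _).symm
  rw [show HHEquiv M n (pushIso f hf M n x) = affineLerayEquiv f M n ⊤ (HHEquiv _ n x) from
    (HHEquiv M n).apply_symm_apply _]
  exact (congrArg (affineLerayEquiv f N n ⊤) (HHEquiv_map _ n x)).trans
    (affineLerayEquiv_natural f φ n ⊤ _)

include hf in
/-- Duality transfers along an affine morphism with a perfect trace. -/
theorem exists_repDual_of_push {ω : X.Modules} [ω.IsQuasicoherent] {ω' : S.Modules} {n : ℕ}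
    (τ : (Coh.push f).obj ω ⟶ ω') (t' : Coh.HH S ω' n →ₗ[k] k) :
    ∃ t : Coh.HH X ω n →ₗ[k] k, ∀ (E : X.Modules), E.IsQuasicoherent →
      H29Serre.RepDual t' ((Coh.push f).obj E) →
      (∀ ψ : (Coh.push f).obj E ⟶ ω', ∃! φ : E ⟶ ω, (Coh.push f).map φ ≫ τ = ψ) →
      H29Serre.RepDual t E := by
  refine ⟨t' ∘ₗ Canon.HHlin k τ n ∘ₗ (pushIso f hf ω n).symm.toLinearMap, fun E hE hrep hbij ψ => ?_⟩
  obtain ⟨g, hg, hguniq⟩ := hrep (ψ ∘ₗ (pushIso f hf E n).toLinearMap)
  obtain ⟨φ, hφ, hφuniq⟩ := hbij g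
  have key : ∀ (φ' : E ⟶ ω) (x : Coh.HH S ((Coh.push f).obj E) n),
      (t' ∘ₗ Canon.HHlin k τ n ∘ₗ (pushIso f hf ω n).symm.toLinearMap) (Canon.HHlin k φ' n (pushIso f hf E n x)) =
        t' (Canon.HHlin k ((Coh.push f).map φ' ≫ τ) n x) := fun φ' x => by
    rw [← pushIso_natural f hf φ' n x, H29Serre.lin_comp, LinearMap.comp_apply, LinearMap.comp_apply,
      LinearEquiv.coe_coe, LinearEquiv.symm_apply_apply, LinearMap.comp_apply]
  refine ⟨φ, LinearMap.ext fun y => ?_, fun φ' hφ' => hφuniq φ' (hguniq _ (LinearMap.ext fun x => ?_))⟩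
  · obtain ⟨x, rfl⟩ := (pushIso f hf E n).surjective y
    rw [LinearMap.comp_apply, key, hφ]
    exact congr($hg x)
  · refine (congr($hφ' (pushIso f hf E n x))).trans ?_
    rw [LinearMap.comp_apply, key]
    rfl

end Groth.Agent.H29CurveDual
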