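import Groth.Agent.H10Coh.FlatBC.Main
import Groth.Agent.LeadVA.Spread
import Groth.Agent.H11Proj.SeparatesPoints
import Groth.Agent.H18Descent.Basic

/-!
# Sections embedding into projective space, and descent along field extensions
-/

set_option autoImplicit false
set_option linter.style.haveILetI false

noncomputable section

universe u

open CategoryTheory CategoryTheory.Limits AlgebraicGeometry Opposite TopologicalSpace CohB1
open Groth.Agent.H11Tilde Groth.Agent.H11Ample Groth.Agent.H11Proj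

namespace Groth.Agent.H29CurveDual

attribute [local instance 10000] H10Coh.hasSheafifyAb H10Coh.hasWeakSheafifyAb H10Coh.hasExtAb H10Coh.enoughInjAb

/-- Loci of generation which are affine, cover, and are generated by scalars and coefficients. -/
structure VAData {R : Type u} [CommRing R] {X : Scheme.{u}} {L : X.Modules} (q : X ⟶ Spec (CommRingCat.of R))
    {n : ℕ} (v : Fin (n + 1) → Γ(L, ⊤)) : Prop where
  cover : ∀ x, ∃ l, x ∈ gen L (v l)
  affine : ∀ l, IsAffineOpen (gen L (v l))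
  surj : ∀ l, Subring.closure (Set.range (q.appLE ⊤ (gen L (v l)) le_top) ∪
    globalCoefs v l (gen L (v l))) = ⊤

variable {n : ℕ}

/-- Such data give a closed immersion into projective space. -/
theorem exists_closedImmersion_of_vaData {R : Type u} [CommRing R] {X : Scheme.{u}} {L : X.Modules}
    (q : X ⟶ Spec (CommRingCat.of R)) (hL : PicF.IsInvertible L) {v : Fin (n + 1) → Γ(L, ⊤)} (h : VAData q v) :
    ∃ r : X ⟶ ProjSpace n R, IsClosedImmersion r ∧ r ≫ ProjSpace.toSpec n R = q ∧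
      Nonempty ((Scheme.Modules.pullback r).obj (Twist.twistProjSpace n R 1) ≅ L) := by
  obtain ⟨r, hr, hτ, hpre, hratio⟩ := exists_toPn q hL v h.cover
  refine ⟨r, ?_, hr, hτ⟩
  let W : Fin (n + 1) → (ProjSpace n R).Opens := fun i => Proj.basicOpen (polyGrading n R) (MvPolynomial.X i)
  refine (IsZariskiLocalAtTarget.iff_of_iSup_eq_top (P := @IsClosedImmersion) W
    (ProjSpace.iSup_basicOpen (n := n) (R := R))).2 fun j => ?_
  refine isClosedImmersion_morphismRestrict
    (Proj.isAffineOpen_basicOpen (polyGrading n R) _ (H11Ample.X_mem j) one_pos) ((hpre j).symm ▸ h.affine j) ?_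
  let G := gen L (v j)
  suffices hs : Function.Surjective (r.appLE (W j) G (hpre j).ge) by
    intro b
    obtain ⟨a, ha⟩ := hs (X.presheaf.map (homOfLE (hpre j).ge).op b)
    haveI : IsIso (homOfLE (hpre j).ge) := homOfLE_isIso_of_eq _ (hpre j).symm
    exact ⟨a, (ConcreteCategory.bijective_of_isIso (X.presheaf.map (homOfLE (hpre j).ge).op)).1 ha⟩
  intro b
  have hb : b ∈ (r.appLE (W j) G (hpre j).ge).hom.range := by
    refine (Subring.closure_le.2 ?_) ((h.surj j).ge (Subring.mem_top b))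
    rintro c (⟨a, rfl⟩ | ⟨l, hl⟩)
    · refine ⟨(ProjSpace.toSpec n R).appLE ⊤ (W j) le_top a, ?_⟩
      have e := Scheme.Hom.appLE_comp_appLE r (ProjSpace.toSpec n R) ⊤ (W j) G le_top (hpre j).ge
      simp only [hr] at e
      exact congr($e a)
    · obtain ⟨ρ, hρ⟩ := hratio j l
      refine ⟨ρ, ?_⟩
      have hle : G ≤ r ⁻¹ᵁ W j := (hpre j).ge
      have h3 := congrArg (L.presheaf.map (homOfLE hle).op) hρ
      erw [H10Coh.mres_mres, Scheme.Modules.map_smul, H10Coh.mres_mres, hl] at h3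
      exact (((isGen_gen (v j)).bijective le_rfl).1 (a₁ := c)
        (a₂ := X.presheaf.map (homOfLE hle).op (r.app (W j) ρ)) (by beta_reduce; rw [H10Coh.mres_self]; exact h3)).symm
  obtain ⟨a, ha⟩ := hb
  exact ⟨a, ha⟩

/-- A closed immersion into projective space over a field gives such data. -/
theorem vaData_of_closedImmersion {k : Type u} [Field k] {X : Scheme.{u}} {L : X.Modules}
    (q : X ⟶ Spec (CommRingCat.of k)) {r : X ⟶ ProjSpace n k} [IsClosedImmersion r]
    (hr : r ≫ ProjSpace.toSpec n k = q)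
    (τ : (Scheme.Modules.pullback r).obj (Twist.twistProjSpace n k 1) ≅ L) {v : Fin (n + 1) → Γ(L, ⊤)}
    (hτ : ∀ i, τ.hom.app ⊤ (ProjUP.pullSec r (Twist.twistProjSpace n k 1) (ProjUP.coord n k i)) = v i) :
    VAData q v := by
  have hpre : ∀ i, gen L (v i) = r ⁻¹ᵁ SepPts.U i := fun i => by
    rw [← hτ i, gen_iso]
    have h := gen_smul_pullSect r (isInvertible_twist (n := n) (R := k)) (ProjUP.coord n k i)
      (isUnit_one (M := Γ(X, ⊤)))
    rw [one_smul] at h
    exact h.trans (congrArg (r ⁻¹ᵁ ·) (gen_coord i))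
  refine ⟨fun x => ?_, fun l => ?_, fun l => ?_⟩
  · obtain ⟨i, hi⟩ := SepPts.exists_chart (r x)
    exact ⟨i, (hpre i).ge hi⟩
  · rw [hpre l]
    exact (SepPts.isAffineOpen_U l).preimage r
  · suffices key : ∀ G : X.Opens, G = r ⁻¹ᵁ SepPts.U l →
        Subring.closure (Set.range (q.appLE ⊤ G le_top) ∪ globalCoefs v l G) = ⊤ from key _ (hpre l)
    rintro G rfl
    refine eq_top_iff.2 fun b hb' => ?_
    clear hb'
    obtain ⟨a, rfl⟩ : ∃ a, r.app (SepPts.U l) a = b :=
      r.app_surjective _ (SepPts.isAffineOpen_U l) b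
    obtain ⟨P, rfl⟩ := SepPts.γ_surjective l a
    induction P using MvPolynomial.induction_on with
    | C c =>
      refine Subring.subset_closure (Or.inl ⟨(Scheme.ΓSpecIso (CommRingCat.of k)).inv c, ?_⟩)
      rw [← RingHom.comp_apply (SepPts.γ l), ← SepPts.κ_eq]
      subst hr
      simp only [Scheme.Hom.appLE, Scheme.Hom.comp_app]
      refine Eq.trans ?_ (congr($(r.naturality (homOfLE (le_top : SepPts.U l ≤ ⊤)).op)
        (ProjUP.toGlobal (ProjSpace.toSpec n k) c))).symm
      rfl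
    | add P Q hP hQ => rw [map_add, map_add]; exact add_mem hP hQ
    | mul_X P m hP =>
      rw [map_mul, map_mul]
      refine mul_mem hP (Subring.subset_closure (Or.inr ⟨m.1, ?_⟩))
      rw [SepPts.γ_X]
      have hle : r ⁻¹ᵁ SepPts.U l ≤ ⊤ := le_top
      rw [← hτ m.1, ← hτ l, ← app_map_apply, ← app_map_apply]
      refine Eq.trans (congrArg (τ.hom.app _) ?_) (Scheme.Modules.Hom.app_smul _ _ _)
      refine (pullSec_res (polyGrading n k) r (ProjSpace.X_mem n k m.1) (ProjSpace.X_mem n k l)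
        (le_refl (r ⁻¹ᵁ SepPts.U l))).trans ?_
      refine congrArg₂ (· • ·) ?_ rfl
      rw [Scheme.Hom.app_eq_appLE]
      rfl

/-- Sections of an inverse image along a flat change of base are combinations of inverse images. -/
theorem exists_comb_pullTop {A B : Type u} [CommRing A] [CommRing B] [Algebra A B] [Module.Flat A B]
    {X X' : Scheme.{u}} [X.Over (Spec (CommRingCat.of A))] [X'.Over (Spec (CommRingCat.of B))]
    [CompactSpace X] [QuasiSeparatedSpace X] {j : X' ⟶ X}
    (hsq : IsPullback j (X' ↘ Spec (CommRingCat.of B)) (X ↘ Spec (CommRingCat.of A))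
      (Spec.map (CommRingCat.ofHom (algebraMap A B))))
    (M : X.Modules) [M.IsQuasicoherent] {ι : Type} [Fintype ι] (v : ι → Γ(M, ⊤))
    (hv : ∀ g : Γ(M, ⊤), ∃ c : ι → A, g = ∑ i, ProjUP.toGlobal (X ↘ Spec (CommRingCat.of A)) (c i) • v i)
    (g' : Γ((Scheme.Modules.pullback j).obj M, ⊤)) :
    ∃ c : ι → B, g' = ∑ i, ProjUP.toGlobal (X' ↘ Spec (CommRingCat.of B)) (c i) • pullTop j (v i) := by
  open H10Coh H10Coh.FBC in
  letI : ∀ (N : X.Modules) (W : X.Opens), Module A Γ(N, W) := fun N W => modA N W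
  letI : ∀ (N : X'.Modules) (W : X'.Opens), Module B Γ(N, W) := fun N W => modA N W
  haveI := H10Coh.FBC.flat_fst hsq
  haveI := LeadFF.isAffineHom_fst hsq
  haveI : ∀ i, Injective ((H10Coh.MRes.inj ((Scheme.Modules.pullback j).obj M)).I i) :=
    fun i => H10Coh.injective_mI _ i
  let R := H10Coh.MRes.inj M
  let R' := H10Coh.MRes.inj ((Scheme.Modules.pullback j).obj M)
  let D := H10Coh.FBC.dataOfRes hsq R R' ((Scheme.Modules.pullbackPushforwardAdjunction j).unit.app M)
  haveI : ((Scheme.Modules.pullback j).obj M).IsQuasicoherent := H29Fitt.isQCoh_pullback j M ‹_›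
  obtain ⟨-, hs⟩ := H10Coh.FBC.injBC_surjBC D
    (fun W hW => H10Coh.FBC.bijective_bcMap_unit hsq M ‹_› hW)
    (fun i W hW => ⟨@H10Coh.subsingleton_HnM_of_isAffineOpen _ M ‹_› _ hW i,
      @H10Coh.subsingleton_HnM_of_isAffineOpen _ ((Scheme.Modules.pullback j).obj M) ‹_› _ (hW.preimage j) i⟩) 0 ⊤ (by simpa using isCompact_univ)
  obtain ⟨z, hz⟩ := hs g'
  replace hz : H10Coh.FBC.ΦZ D 0 ⊤ z = g' := sub_eq_zero.1 hz
  subst hz
  induction z using TensorProduct.induction_on with
  | zero => exact ⟨0, by rw [map_zero]; simp; rfl⟩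
  | add x y hx hy =>
    obtain ⟨c, hc⟩ := hx
    obtain ⟨d, hd⟩ := hy
    refine ⟨c + d, ?_⟩
    refine (map_add _ x y).trans ((congrArg₂ (· + ·) hc hd).trans ?_)
    refine Finset.sum_add_distrib.symm.trans (Finset.sum_congr rfl fun i _ => ?_)
    rw [Pi.add_apply, map_add, add_smul]
  | tmul b m =>
    obtain ⟨a, ha⟩ := hv m
    refine ⟨fun i => b * algebraMap A B (a i), ?_⟩
    have hscal : ∀ {R : Type u} [CommRing R] {Y : Scheme.{u}} (g : Y ⟶ Spec (CommRingCat.of R)) (r : R),
        LeadFF.scal g ⊤ r = ProjUP.toGlobal g r := fun g r => by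
      show (_ : Scheme).presheaf.map (homOfLE (le_refl ⊤)).op (LeadFF.glob g r) = _
      rw [show (homOfLE (le_refl (⊤ : Opens _))).op = 𝟙 _ from rfl, CategoryTheory.Functor.map_id]
      rfl
    have hsc : ∀ (a : A), j.app ⊤ (ProjUP.toGlobal (X ↘ Spec (CommRingCat.of A)) a) =
        ProjUP.toGlobal (X' ↘ Spec (CommRingCat.of B)) (algebraMap A B a) := fun a => by
      rw [← hscal, ← hscal]
      exact LeadFF.app_scal hsq ⊤ a
    have hev : (((Scheme.Modules.pullbackPushforwardAdjunction j).unit.app M).app ⊤ m :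
        Γ((Scheme.Modules.pullback j).obj M, ⊤)) =
        ∑ i, ProjUP.toGlobal (X' ↘ Spec (CommRingCat.of B)) (algebraMap A B (a i)) • pullTop j (v i) := by
      rw [ha, map_sum]
      refine Finset.sum_congr rfl fun i _ => ?_
      refine (OmegaSh.pullSect_smul j M ⊤ _ _).trans ?_
      rw [hsc]
      rfl
    refine (H10Coh.FBC.bcMap_tmul _ ⊤ b m).trans ?_
    simp only [map_mul, mul_smul, ← Finset.smul_sum]
    refine congrArg₂ (· • ·) ?_ hev
    exact hscal _ b

/-- Data descend along an extension of fields. -/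
theorem vaData_of_baseChange {k K : Type u} [Field k] [Field K] [Algebra k K]
    {X X' : Scheme.{u}} {q : X ⟶ Spec (CommRingCat.of k)} [IsProper q] {q' : X' ⟶ Spec (CommRingCat.of K)}
    {j : X' ⟶ X} (sq : IsPullback j q' q (Spec.map (CommRingCat.ofHom (algebraMap k K))))
    {L : X.Modules} (hL : PicF.IsInvertible L) {v : Fin (n + 1) → Γ(L, ⊤)} (hv : ∀ x, ∃ l, x ∈ gen L (v l))
    (h : VAData q' (fun l => pullTop j (v l))) :
    VAData q v := by
  let g := Spec.map (CommRingCat.ofHom (algebraMap k K))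
  obtain ⟨r₀, τ, hτ⟩ := exists_toPn' hL v hv
  let T := Twist.twistProjSpace n (ULift.{u} ℤ) 1
  let τz : (Scheme.Modules.pullback (j ≫ r₀)).obj T ≅ (Scheme.Modules.pullback j).obj L :=
    ((Scheme.Modules.pullbackComp j r₀).app T).symm ≪≫ (Scheme.Modules.pullback j).mapIso τ
  have hτz : ∀ l, τz.hom.app ⊤ (pullTop (j ≫ r₀) (L := T) (ProjUP.coord n (ULift.{u} ℤ) l)) = pullTop j (v l) := by
    intro l
    show ((Scheme.Modules.pullback j).map τ.hom).app ⊤
      (((Scheme.Modules.pullbackComp j r₀).inv.app T).app ⊤ (pullTop (j ≫ r₀) (L := T) (ProjUP.coord n _ l))) = _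
    refine (congrArg (((Scheme.Modules.pullback j).map τ.hom).app ⊤)
      (H17.PullSect.pullSect_comp j r₀ T ⊤ (ProjUP.coord n _ l))).trans ?_
    refine (H17.PullSect.pullSect_natural j τ.hom ⊤ _).symm.trans ?_
    exact congrArg (OmegaSh.pullSect j L ⊤) (hτ l)
  obtain ⟨hpre, hrat⟩ := pn_sections (j ≫ r₀) τz _ hτz
  obtain ⟨hpreX, hratX⟩ := pn_sections r₀ τ _ hτ
  haveI : IsProper q' := MorphismProperty.of_isPullback sq ‹IsProper q›
  obtain ⟨iz, hz₁, hz₂, hz⟩ := isImmersion_lift q' (j ≫ r₀) _ hpre hrat Set.univ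
    (fun x => (h.cover x).imp fun _ hx => ⟨trivial, hx⟩) (fun l _ => h.affine l) (fun l _ => h.surj l)
  haveI := hz
  haveI hiz : IsClosedImmersion iz := isClosedImmersion_of_isImmersion q' iz hz₂
  let i : X ⟶ ProjSpaceOver n (Spec (CommRingCat.of k)) :=
    pullback.lift r₀ q (specULiftZIsTerminal.hom_ext _ _)
  have hi₁ : i ≫ LeadVA.pfst n _ = r₀ := pullback.lift_fst _ _ _
  have hi₂ : i ≫ ProjSpaceOver.toBase n _ = q := pullback.lift_snd _ _ _
  have hsq : IsPullback j iz i (LeadVA.projMap n g) :=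
    LeadVA.isPullback_projMap_lift sq hi₂ hz₂ (hz₁.trans (congrArg (j ≫ ·) hi₁.symm))
  haveI : Surjective g := ⟨fun x => ⟨IsLocalRing.closedPoint _, Subsingleton.elim _ _⟩⟩
  haveI : Flat g := (HasRingHomProperty.Spec_iff (P := @Flat)).2 (RingHom.flat_algebraMap_iff.2 inferInstance)
  have sqπ := LeadVA.isPullback_projMap n g
  haveI : IsClosedImmersion i := by
    refine MorphismProperty.of_isPullback_of_descendsAlong (P := @IsClosedImmersion)
      (Q := H18Descent.fpqc) hsq.flip ⟨⟨?_, ?_⟩, ?_⟩ hiz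
    · exact MorphismProperty.of_isPullback sqπ.flip ‹Surjective g›
    · exact MorphismProperty.of_isPullback sqπ.flip ‹Flat g›
    · exact MorphismProperty.of_isPullback sqπ.flip (inferInstance : QuasiCompact g)
  obtain ⟨h1, h2⟩ : (∀ j, gen L (v j) = preD (i ≫ pullback.fst _ _) j) ∧
      ∀ j l, L.presheaf.map (homOfLE (le_top : preD (i ≫ pullback.fst _ _) j ≤ ⊤)).op (v l) =
        ratioSec (i ≫ pullback.fst _ _) j l •
          L.presheaf.map (homOfLE (le_top : preD (i ≫ pullback.fst _ _) j ≤ ⊤)).op (v j) :=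
    have aux : ∀ r, r = r₀ → (∀ j, gen L (v j) = preD r j) ∧
        ∀ j l, L.presheaf.map (homOfLE (le_top : preD r j ≤ ⊤)).op (v l) =
          ratioSec r j l • L.presheaf.map (homOfLE (le_top : preD r j ≤ ⊤)).op (v j) := by
      rintro r rfl; exact ⟨hpreX, hratX⟩
    aux _ hi₁
  have hGVA := globalVA_of_closedImmersion i v h1 h2
  rw [hi₂] at hGVA
  refine ⟨hv, fun l => by simpa using hGVA.affine ⊤ (isAffineOpen_top _) l,
    fun l => ?_⟩
  suffices key : ∀ (G : X.Opens) (hG : G ≤ q ⁻¹ᵁ ⊤), G = gen L (v l) ⊓ q ⁻¹ᵁ ⊤ →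
      Subring.closure (Set.range (q.appLE ⊤ G hG) ∪ globalCoefs v l G) = ⊤ from
    key _ le_top (inf_eq_left.2 le_top).symm
  rintro G hG rfl
  exact hGVA.surj ⊤ (isAffineOpen_top _) l

/-- Embedding sections descend along an extension of fields. -/
theorem exists_closedImmersion_of_baseChange {k K : Type u} [Field k] [Field K] [Algebra k K]
    {X X' : Scheme.{u}} {q : X ⟶ Spec (CommRingCat.of k)} [IsProper q] {q' : X' ⟶ Spec (CommRingCat.of K)}
    {j : X' ⟶ X} (sq : IsPullback j q' q (Spec.map (CommRingCat.ofHom (algebraMap k K))))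
    {L : X.Modules} (hL : PicF.IsInvertible L) {v : Fin (n + 1) → Γ(L, ⊤)} (hv : ∀ x, ∃ l, x ∈ gen L (v l))
    (h : VAData q' (fun l => pullTop j (v l))) :
    ∃ r : X ⟶ ProjSpace n k, IsClosedImmersion r ∧ r ≫ ProjSpace.toSpec n k = q ∧
      Nonempty ((Scheme.Modules.pullback r).obj (Twist.twistProjSpace n k 1) ≅ L) := by
  exact exists_closedImmersion_of_vaData q hL (vaData_of_baseChange sq hL hv h)

end Groth.Agent.H29CurveDual
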