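import Groth.Agent.H29CurveDual.OmegaGen
import Groth.Agent.H29RR.EvalSub
import Mathlib.RingTheory.Finiteness.Ideal

/-!
# The stalks of the inclusion of sections vanishing at a rational point
-/

set_option autoImplicit false
set_option linter.style.haveILetI false

universe u

open CategoryTheory CategoryTheory.Limits AlgebraicGeometry TopologicalSpace Opposite
open Groth.Agent.H29RR

namespace Groth.Agent.H29CurveDual

attribute [local instance 10000] H10Coh.hasSheafifyAb H10Coh.hasWeakSheafifyAb H10Coh.hasExtAb H10Coh.enoughInjAb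
attribute [local instance] Curv2.resAlgebra

variable {X : Scheme.{u}}

/-- A germ generates exactly when it avoids the maximal ideal times the stalk. -/
theorem mem_gen_iff_notMem {M : X.Modules} (hM : PicF.IsInvertible M) (g : Γ(M, ⊤)) (x : X) :
    x ∈ H11Ample.gen M g ↔ M.presheaf.germ ⊤ x trivial g ∉
      IsLocalRing.maximalIdeal (X.presheaf.stalk x) • (⊤ : Submodule (X.presheaf.stalk x) (M.presheaf.stalk x)) := by
  obtain ⟨V, e, hxV, he⟩ := H11Ample.exists_gen hM x
  let R := X.presheaf.stalk x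
  let b : M.presheaf.stalk x := M.presheaf.germ V x hxV e
  have hb : Function.Bijective fun r : R => r • b := he x hxV
  obtain ⟨r, hr⟩ := hb.2 (M.presheaf.germ ⊤ x trivial g)
  change r • b = _ at hr
  have hmem : r • b ∈ IsLocalRing.maximalIdeal R • (⊤ : Submodule R (M.presheaf.stalk x)) ↔
      r ∈ IsLocalRing.maximalIdeal R := by
    refine ⟨fun h => ?_, fun h => Submodule.smul_mem_smul h Submodule.mem_top⟩
    have : ∀ z ∈ IsLocalRing.maximalIdeal R • (⊤ : Submodule R (M.presheaf.stalk x)),
        ∃ a ∈ IsLocalRing.maximalIdeal R, a • b = z := fun z hz => by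
      refine Submodule.smul_induction_on hz (fun a ha n _ => ?_) fun p q hp hq => ?_
      · obtain ⟨c, hc⟩ := hb.2 n
        exact ⟨a * c, Ideal.mul_mem_right c _ ha, (mul_smul _ _ _).trans (congrArg (a • ·) hc)⟩
      · obtain ⟨a, ha, rfl⟩ := hp
        obtain ⟨a', ha', rfl⟩ := hq
        exact ⟨a + a', add_mem ha ha', add_smul _ _ _⟩
    obtain ⟨a, ha, hab⟩ := this _ h
    rwa [← hb.1 (show a • b = r • b from hab)]
  rw [H11Ample.mem_gen_iff hM g x, ← hr, hmem, IsLocalRing.notMem_maximalIdeal]
  refine ⟨fun h => ?_, fun h => ?_⟩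
  · obtain ⟨c, hc⟩ := h.2 b
    exact IsUnit.of_mul_eq_one_right c (hb.1 (show (c * r) • b = (1 : R) • b by
      rw [mul_smul, one_smul]; exact hc))
  · refine (congrArg Function.Bijective (funext fun a => ?_)).mp (hb.comp (h.unit.mulRight.bijective))
    show (a * r) • b = a • r • b
    rw [mul_smul]

variable {k : Type u} [Field k] [X.Over (Spec (CommRingCat.of k))] [IsIntegral X]
  [IsProper (X ↘ Spec (CommRingCat.of k))]

omit [IsIntegral X] in
/-- The stalks of `I_x ⊗ L → L` at a rational point and away from it, and its sections. -/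
theorem ptIncl_stalks_of_coh {x : X} (hx : IsClosed ({x} : Set X)) (h1 : Module.finrank k (X.residueField x) = 1)
    {L : X.Modules} (hL : PicF.IsInvertible L) :
    (∀ y, y ≠ x → Function.Bijective (H06Mod.stalkLin (ptIncl x L) y)) ∧
    LinearMap.range (H06Mod.stalkLin (ptIncl x L) x) =
      IsLocalRing.maximalIdeal (X.presheaf.stalk x) • (⊤ : Submodule (X.presheaf.stalk x) (L.presheaf.stalk x)) ∧
    ∀ v : Coh.HH X L 0, L.presheaf.germ ⊤ x trivial (sec L v) ∈
      LinearMap.range (H06Mod.stalkLin (ptIncl x L) x) → v ∈ vanishSub k x L := by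
  haveI := isNoetherian_of_proper (k := k) (X := X)
  let I := ptIdeal x
  let Q := ClSub.quotMod I
  have hQc : Coh.IsCoh Q :=
    H24FSch.isCoh_pushforward_of_isClosedImmersion I.subschemeι (H10Coh.isCoh_structureModule' _)
  have hsupp : CohB1.support Q ⊆ {x} := fun y hy => by
    have := LeadProper.support_subset_range (F := Q)
      (@H10Coh.isQuasicoherent_pushforward _ _ I.subschemeι inferInstance inferInstance _ H10Coh.isQuasicoherent_unit)
      I.subschemeι (Iso.refl _) hy
    rwa [range_subscheme_pt hx] at this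
  let T := (DCoh.tensorBi (X := X)).flip.obj L
  haveI := H10Coh.epi_toSubscheme I
  have hS : (ShortComplex.mk (ClSub.idealModι I) (ClSub.toSubscheme I) (kernel.condition _)).ShortExact :=
    { exact := ShortComplex.exact_kernel _
      mono_f := inferInstanceAs (Mono (kernel.ι _)) }
  have hS' := H16Derived.KFlat.Stalk.isFlatObj_of_isFlat
    (H16Derived.KFlat.Stalk.isFlat_of_isFinLocFree (H28Pinch.isFinLocFree_of_isInvertible hL)) _ hS
  haveI : Mono (T.map (ClSub.idealModι I)) := hS'.mono_f
  haveI : Epi (T.map (ClSub.toSubscheme I)) := hS'.epi_g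
  let u : T.obj (Coh.structureModule X) ≅ L := H10Coh.Tw.leftUnitIso L
  let j := ptIncl x L
  let q : L ⟶ T.obj Q := u.inv ≫ T.map (ClSub.toSubscheme I)
  haveI : Mono j := @mono_comp _ _ _ _ _ (T.map (ClSub.idealModι I)) hS'.mono_f u.hom inferInstance
  haveI : Epi q := epi_comp _ _
  have hw : j ≫ q = 0 := by
    show (T.map _ ≫ u.hom) ≫ u.inv ≫ T.map _ = 0
    rw [Category.assoc, Iso.hom_inv_id_assoc, ← T.map_comp,
      show ClSub.idealModι I ≫ ClSub.toSubscheme I = 0 from kernel.condition _, T.map_zero]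
  have hS'' : (ShortComplex.mk j q hw).ShortExact :=
    ShortComplex.shortExact_of_iso (ShortComplex.isoMk
      (S₁ := (ShortComplex.mk (ClSub.idealModι I) (ClSub.toSubscheme I) (kernel.condition _)).map T)
      (S₂ := ShortComplex.mk j q hw) (Iso.refl (T.obj (ClSub.idealMod I))) u (Iso.refl (T.obj Q))
      (show 𝟙 _ ≫ j = T.map _ ≫ u.hom from Category.id_comp _)
      (show u.hom ≫ q = T.map _ ≫ 𝟙 _ by rw [Category.comp_id]; exact Iso.hom_inv_id_assoc _ _)) hS'
  have hTsupp : ∀ y, y ∉ ({x} : Set X) → Subsingleton ((T.obj Q).presheaf.stalk y) := fun y hy =>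
    not_not.1 fun h => hy (hsupp (H25Euler.support_tensor_subset Q L h))
  have hgerm := H25Par.germs_bijective (k := k) (T.obj Q) (Set.finite_singleton x)
    (fun z hz => by obtain rfl := hz; exact hx) hTsupp
  haveI : Module.Finite k (Coh.HH X (T.obj Q) 0) :=
    H10Coh.finite_HH_proper k X _ (H11Ample.isCoh_tensor hQc hL) 0
  have hq1 : Module.finrank k (Coh.HH X (T.obj Q) 0) = 1 :=
    (finrank_h0_tensor_of_finite_support (k := k) hL ((Set.finite_singleton x).subset hsupp)
      fun z hz => by obtain rfl := hsupp hz; exact hx).trans ((finrank_h0_quotMod_pt (k := k) hx).trans h1)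
  let P := (LinearMap.proj (R := k) (φ := fun y : ({x} : Set X) => H25Par.Stk k (T.obj Q) y.1) ⟨x, rfl⟩).comp
    (H25Par.germs (k := k) (T.obj Q) {x})
  have hP : Function.Bijective P := by
    refine ⟨fun v w hvw => hgerm.1 (funext fun ⟨y, hy⟩ => by obtain rfl := hy; exact hvw), fun t => ?_⟩
    let f : ∀ y : ({x} : Set X), H25Par.Stk k (T.obj Q) y.1 := fun ⟨y, hy⟩ => by
      rw [Set.mem_singleton_iff] at hy
      subst hy
      exact t
    obtain ⟨w, hw⟩ := hgerm.2 f
    exact ⟨w, congrFun hw ⟨x, rfl⟩⟩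
  have hd : Module.finrank k (H25Par.Stk k (T.obj Q) x) = 1 :=
    (LinearEquiv.ofBijective P hP).finrank_eq.symm.trans hq1
  have hexact : ∀ (y : X) (z : L.presheaf.stalk y), H06Mod.stalkLin q y z = 0 →
      z ∈ LinearMap.range (H06Mod.stalkLin j y) := fun y z hz =>
    (ShortComplex.moduleCat_exact_iff _).1 (hS''.map_of_exact (DerSch.stalkFunctor X y)).exact z hz
  have hcomp : ∀ (y : X) (z), H06Mod.stalkLin q y (H06Mod.stalkLin j y z) = 0 := fun y z =>
    (ShortComplex.mk j q hw).map (DerSch.stalkFunctor X y) |>.moduleCat_zero_apply z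
  have hinj : ∀ y, Function.Injective (H06Mod.stalkLin j y) := fun y =>
    (ModuleCat.mono_iff_injective ((DerSch.stalkFunctor X y).map j)).1 inferInstance
  let R := X.presheaf.stalk x
  obtain ⟨V, e, hxV, he⟩ := H11Ample.exists_gen hL x
  let b : L.presheaf.stalk x := L.presheaf.germ V x hxV e
  have hb : Function.Bijective fun r : R => r • b := he x hxV
  let qs := H06Mod.stalkLin q x
  have hsurj : Function.Surjective qs :=
    (ModuleCat.epi_iff_surjective _).1 (inferInstance : Epi ((DerSch.stalkFunctor X x).map q))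
  have hqb : qs b ≠ 0 := fun h0 => by
    haveI : Nontrivial (H25Par.Stk k (T.obj Q) x) := Module.nontrivial_of_finrank_pos (R := k) (by omega)
    obtain ⟨t, ht⟩ := exists_ne (0 : H25Par.Stk k (T.obj Q) x)
    obtain ⟨z, hz⟩ := hsurj t
    obtain ⟨r, rfl⟩ := hb.2 z
    exact ht (hz.symm.trans ((map_smul qs r b).trans (by rw [h0, smul_zero]; rfl)))
  have hkill : ∀ r ∈ IsLocalRing.maximalIdeal R, qs (r • b) = 0 := by
    intro r hr
    obtain ⟨c, hc⟩ := exists_smul_eq_of_finrank_eq_one hd
      (show (qs b : H25Par.Stk k (T.obj Q) x) ≠ 0 from hqb) (r • qs b)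
    change H25Par.constStalk (k := k) x c • qs b = r • qs b at hc
    rw [map_smul]
    by_cases hc0 : c = 0
    · rw [hc0, map_zero, zero_smul] at hc
      exact hc.symm
    · have hu : IsUnit (H25Par.constStalk (k := k) x c - r) := by
        have h2 : IsUnit (H25Par.constStalk (k := k) x c) := (Ne.isUnit hc0).map _
        by_contra h
        exact IsLocalRing.notMem_maximalIdeal.2 h2 (by simpa using add_mem hr ((IsLocalRing.mem_maximalIdeal _).2 h))
      exact absurd (hu.smul_eq_zero.1 (by rw [sub_smul, hc, sub_self])) hqb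
  have hrange : LinearMap.range (H06Mod.stalkLin j x) =
      IsLocalRing.maximalIdeal R • (⊤ : Submodule R (L.presheaf.stalk x)) := by
    refine le_antisymm ?_ (Submodule.smul_le.2 fun a ha n _ => ?_)
    · rintro _ ⟨z, rfl⟩
      obtain ⟨r, hr⟩ := hb.2 (H06Mod.stalkLin j x z)
      change r • b = _ at hr
      rw [← hr]
      refine Submodule.smul_mem_smul ?_ Submodule.mem_top
      by_contra hu
      rw [IsLocalRing.notMem_maximalIdeal] at hu
      refine hqb (hu.smul_eq_zero.1 ?_)
      rw [← map_smul, hr]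
      exact hcomp x z
    · obtain ⟨c, rfl⟩ := hb.2 n
      refine hexact x _ ?_
      show qs (a • c • b) = 0
      rw [smul_smul]
      exact hkill _ (Ideal.mul_mem_right c _ ha)
  refine ⟨fun y hy => ⟨hinj y, fun z => ?_⟩, hrange, fun v hv => ?_⟩
  · haveI := hTsupp y hy
    exact hexact y z (Subsingleton.elim _ _)
  · obtain ⟨z, hz⟩ := hv
    have hq0 : Canon.HHlin k q 0 v = 0 := by
      have e1 : qs (L.presheaf.germ ⊤ x trivial (sec L v)) = P (Canon.HHlin k q 0 v) := by
        refine (H06Mod.stalkLin_germ _ _ _ _ _).trans ?_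
        exact congrArg ((T.obj Q).presheaf.germ ⊤ x trivial) (sec_natural (k := k) q v).symm
      refine hP.1 ?_
      rw [map_zero, ← e1, ← hz]
      exact hcomp x z
    exact (H25Par.hhlin_exact (k := k) hS'').le (LinearMap.mem_ker.2 hq0)

omit [IsIntegral X] in
/-- The stalks of `I_x ⊗ L → L` at a smooth rational point. -/
theorem ptIncl_stalks {x : X} (hx : IsClosed ({x} : Set X)) (h1 : Module.finrank k (X.residueField x) = 1)
    {L : X.Modules} (hL : PicF.IsInvertible L) (_hI : PicF.IsInvertible (ClSub.idealMod (ptIdeal x))) :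
    (∀ y, y ≠ x → Function.Bijective (H06Mod.stalkLin (ptIncl x L) y)) ∧
    LinearMap.range (H06Mod.stalkLin (ptIncl x L) x) =
      IsLocalRing.maximalIdeal (X.presheaf.stalk x) • (⊤ : Submodule (X.presheaf.stalk x) (L.presheaf.stalk x)) ∧
    ∀ v : Coh.HH X L 0, L.presheaf.germ ⊤ x trivial (sec L v) ∈
      LinearMap.range (H06Mod.stalkLin (ptIncl x L) x) → v ∈ vanishSub k x L :=
  ptIncl_stalks_of_coh hx h1 hL

end Groth.Agent.H29CurveDual
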