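import Groth.Agent.H29CurveDual.Pencils
import Groth.Agent.H29RR.Clifford

/-!
# Uniqueness of the pencil of degree two
-/

set_option autoImplicit false
set_option linter.style.haveILetI false

universe u

open CategoryTheory CategoryTheory.Limits AlgebraicGeometry TopologicalSpace Opposite
open Groth.Agent.H29RR

namespace Groth.Agent.H29CurveDual

attribute [local instance 10000] H10Coh.hasSheafifyAb H10Coh.hasWeakSheafifyAb H10Coh.hasExtAb H10Coh.enoughInjAb
attribute [local instance] Curv2.resAlgebra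

variable {k : Type u} [Field k] [IsAlgClosed k] {X : Scheme.{u}} [X.Over (Spec (CommRingCat.of k))] [IsIntegral X]
  [IsProper (X ↘ Spec (CommRingCat.of k))] [Smooth (X ↘ Spec (CommRingCat.of k))]

local notation "Ω" => Omega.sheaf (X ↘ Spec (CommRingCat.of k))

/-- The partner of a point in a pencil of degree two. -/
theorem exists_partner (hdim : topologicalKrullDim X = 1) (hg : 2 ≤ Curv2.genus k X) {M : X.Modules}
    (hM : PicF.IsInvertible M) (hdM : Curv2.deg k X M 1 = 2) (h2 : 2 ≤ Module.finrank k (Coh.HH X M 0))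
    {P : X} (hP : IsClosed ({P} : Set X)) :
    ∃ Q : X, IsClosed ({Q} : Set X) ∧
      Nonempty (CohB1.tensorMod (ClSub.idealMod (ptIdeal Q)) (CohB1.tensorMod (ClSub.idealMod (ptIdeal P)) M) ≅
        Coh.structureModule X) ∧
      Module.finrank k (Coh.HH X (CohB1.tensorMod (ClSub.idealMod (ptIdeal P)) Ω) 0) + 1 = Curv2.genus k X ∧
      Module.finrank k (Coh.HH X (CohB1.tensorMod (ClSub.idealMod (ptIdeal Q))
        (CohB1.tensorMod (ClSub.idealMod (ptIdeal P)) Ω)) 0) + 1 = Curv2.genus k X := by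
  have hΩ := isInvertible_omega_curve (k := k) hdim
  have h00 := finrank_h0_structure k X
  have hIP := isInvertible_pt (k := k) hdim hP
  obtain ⟨-, h1, -⟩ := twist_point (k := k) hP hM (isCoh_of_isInvertible hIP)
  rw [finrank_residue_eq_one (k := k) hP] at h1
  have hL1 := H11Ample.isInvertible_tensor hIP hM
  have hd1 := deg_ptIdeal_tensor (k := k) hdim hP hM
  obtain ⟨Q, hQ, hnt⟩ := exists_zero_point hdim hL1
    (Module.nontrivial_of_finrank_pos (R := k) (show 0 < _ by omega)) (by rw [hd1, hdM]; decide)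
  have hIQ := isInvertible_pt (k := k) hdim hQ
  obtain ⟨i0⟩ := (bounds_of_section (k := k) hdim.le (H11Ample.isInvertible_tensor hIQ hL1) hnt).2.2.2
    (by rw [deg_ptIdeal_tensor hdim hQ hL1]; omega)
  obtain ⟨N, hN, ⟨e⟩⟩ := exists_inverse_comm hΩ
  let j : CohB1.tensorMod Ω (CohB1.tensorMod M N) ≅ M :=
    PicGrp.tensorModIso (Iso.refl Ω) (H10Coh.Tw.commIso M N) ≪≫ (H10Coh.Tw.assoc Ω N M).symm ≪≫
      PicGrp.tensorModIso e (Iso.refl M) ≪≫ H10Coh.Tw.leftUnitIso M
  have ei : CohB1.tensorMod (CohB1.tensorMod (ClSub.idealMod (ptIdeal Q))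
      (CohB1.tensorMod (ClSub.idealMod (ptIdeal P)) Ω)) (CohB1.tensorMod M N) ≅ Coh.structureModule X :=
    PicGrp.tensorModIso (H10Coh.Tw.assoc _ _ Ω).symm (Iso.refl _) ≪≫ H10Coh.Tw.assoc _ Ω _ ≪≫
      PicGrp.tensorModIso (Iso.refl _) j ≪≫ H10Coh.Tw.assoc _ _ M ≪≫ i0
  have hB := H11Ample.isInvertible_tensor hIP hΩ
  have hT := H11Ample.isInvertible_tensor hIQ hB
  have hrr := riemann_roch (k := k) hdim.le (CohB1.tensorMod (ClSub.idealMod (ptIdeal Q))
    (CohB1.tensorMod (ClSub.idealMod (ptIdeal P)) Ω))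
  rw [h00, finrank_h1_invertible hdim hT (H11Ample.isInvertible_tensor hM hN) ei, finrank_h0_congr j 0,
    deg_ptIdeal_tensor hdim hQ hB, deg_ptIdeal_tensor hdim hP hΩ, deg_omega_of_h0 hdim h00] at hrr
  have hlt := h0_omega_sub_point_lt (k := k) hdim h00 (by omega) hP
  rw [finrank_h1_structure hdim] at hlt
  obtain ⟨hle, -, -⟩ := twist_point (k := k) hQ hB (isCoh_of_isInvertible hIQ)
  exact ⟨Q, hQ, ⟨i0⟩, by omega, by omega⟩

theorem nonempty_iso_of_pencils (hdim : topologicalKrullDim X = 1) (hg : 2 ≤ Curv2.genus k X) {M M' : X.Modules}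
    (hM : PicF.IsInvertible M) (hdM : Curv2.deg k X M 1 = 2) (h2 : 2 ≤ Module.finrank k (Coh.HH X M 0))
    (hM' : PicF.IsInvertible M') (hdM' : Curv2.deg k X M' 1 = 2) (h2' : 2 ≤ Module.finrank k (Coh.HH X M' 0)) :
    Nonempty (M ≅ M') := by
  have hΩ := isInvertible_omega_curve (k := k) hdim
  have h00 := finrank_h0_structure k X
  obtain ⟨P, -, hP, hIP⟩ := exists_point (k := k) hdim ⊤ trivial
  obtain ⟨Q, hQ, ⟨i⟩, hB1, hT1⟩ := exists_partner hdim hg hM hdM h2 hP
  obtain ⟨Q', hQ', ⟨i'⟩, -, hT1'⟩ := exists_partner hdim hg hM' hdM' h2' hP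
  by_cases hQQ : Q = Q'
  · subst hQQ
    let U := CohB1.tensorMod (ClSub.idealMod (ptIdeal Q)) (ClSub.idealMod (ptIdeal P))
    let a : CohB1.tensorMod U M ≅ Coh.structureModule X := H10Coh.Tw.assoc _ _ M ≪≫ i
    let a' : CohB1.tensorMod U M' ≅ Coh.structureModule X := H10Coh.Tw.assoc _ _ M' ≪≫ i'
    exact ⟨(H10Coh.Tw.rightUnitIso M).symm ≪≫ PicGrp.tensorModIso (Iso.refl M) a'.symm ≪≫
      (H10Coh.Tw.assoc M U M').symm ≪≫ PicGrp.tensorModIso (H10Coh.Tw.commIso M U ≪≫ a) (Iso.refl M') ≪≫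
      H10Coh.Tw.leftUnitIso M'⟩
  · exfalso
    have hIQ := isInvertible_pt (k := k) hdim hQ
    have hIQ' := isInvertible_pt (k := k) hdim hQ'
    let B := CohB1.tensorMod (ClSub.idealMod (ptIdeal P)) Ω
    have hB := H11Ample.isInvertible_tensor hIP hΩ
    have hT := H11Ample.isInvertible_tensor hIQ hB
    have hno : ¬ ∃ g, Q' ∈ H11Ample.gen B g := fun h => by
      have h5 := (h0_add_one_iff (k := k) hQ' (finrank_residue_eq_one (k := k) hQ') hB (isCoh_of_isInvertible hIQ')).2 h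
      omega
    have hno' : ¬ ∃ g, Q' ∈ H11Ample.gen (CohB1.tensorMod (ClSub.idealMod (ptIdeal Q)) B) g := fun ⟨g, hg'⟩ => by
      obtain ⟨hoff, -, -⟩ := ptIncl_stalks (k := k) hQ (finrank_residue_eq_one (k := k) hQ) hB hIQ
      refine hno ⟨(ptIncl Q B).app ⊤ g, (mem_gen_iff_notMem hB _ _).2 ?_⟩
      rw [← germ_app, mem_smul_top_iff _ _ (hoff Q' (Ne.symm hQQ))]
      exact (mem_gen_iff_notMem hT g Q').1 hg'
    obtain ⟨h3, h4, -⟩ := twist_point (k := k) hQ' hT (isCoh_of_isInvertible hIQ')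
    rw [finrank_residue_eq_one (k := k) hQ'] at h4
    have hne := fun h => hno' ((h0_add_one_iff (k := k) hQ' (finrank_residue_eq_one (k := k) hQ') hT
      (isCoh_of_isInvertible hIQ')).1 h)
    let T3 := CohB1.tensorMod (ClSub.idealMod (ptIdeal Q')) (CohB1.tensorMod (ClSub.idealMod (ptIdeal Q)) B)
    have hT3 : PicF.IsInvertible T3 := H11Ample.isInvertible_tensor hIQ' hT
    have hh3 : Module.finrank k (Coh.HH X T3 0) + 1 = Curv2.genus k X := by
      refine Eq.trans (congrArg (· + 1) (le_antisymm h3 ?_)) hT1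
      by_contra hlt
      exact hne (le_antisymm (Nat.succ_le_of_lt (not_le.1 hlt)) h4)
    have hd3 : Curv2.deg k X T3 1 = 2 * (Curv2.genus k X : ℤ) - 5 := by
      rw [deg_ptIdeal_tensor hdim hQ' hT, deg_ptIdeal_tensor hdim hQ hB, deg_ptIdeal_tensor hdim hP hΩ,
        deg_omega_of_h0 hdim h00]; ring
    haveI := finite_HH (k := k) T3 hT3 0
    haveI := finite_HH (k := k) T3 hT3 1
    have hrr := riemann_roch (k := k) hdim.le T3
    rw [h00, hd3] at hrr
    have := h0_add_h1_le (k := k) hdim.le hT3 (Module.nontrivial_of_finrank_pos (R := k) (show 0 < _ by omega))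
      (Module.nontrivial_of_finrank_pos (R := k) (show 0 < _ by omega))
    omega

end Groth.Agent.H29CurveDual
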