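import Groth.Agent.H29CurveDual.OmegaGen
import Groth.Agent.H29RR.Clifford

/-!
# Clifford's inequality through duality
-/

set_option autoImplicit false
set_option linter.style.haveILetI false

universe u

open CategoryTheory CategoryTheory.Limits AlgebraicGeometry TopologicalSpace Opposite
open Groth.Agent.H29RR

namespace Groth.Agent.H29CurveDual

attribute [local instance 10000] H10Coh.hasSheafifyAb H10Coh.hasWeakSheafifyAb H10Coh.hasExtAb H10Coh.enoughInjAb

variable {X : Scheme.{u}}

/-- An inverse of an invertible module is invertible. -/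
theorem isInvertible_of_isInverseOf {L M : X.Modules} (hL : PicF.IsInvertible L) (h : ClSub.IsInverseOf L M) :
    PicF.IsInvertible M := by
  obtain ⟨N, hN, ⟨e⟩⟩ := exists_inverse_comm hL
  obtain ⟨j⟩ := h
  let e' : CohB1.tensorMod N L ≅ Coh.structureModule X := H10Coh.Tw.commIso N L ≪≫ e
  exact H11Tilde.isInvertible_of_iso ((SecTwist.unitorR N).symm ≪≫
    PicGrp.tensorModIso (Iso.refl N) j.symm ≪≫ (H10Coh.Tw.assoc N L M).symm ≪≫
    PicGrp.tensorModIso e' (Iso.refl M) ≪≫ H10Coh.Tw.leftUnitIso M) hN

variable {k : Type u} [Field k] [X.Over (Spec (CommRingCat.of k))] [IsIntegral X]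
  [IsProper (X ↘ Spec (CommRingCat.of k))] [Smooth (X ↘ Spec (CommRingCat.of k))]

theorem clifford [IsAlgClosed k] (hdim : topologicalKrullDim X = 1) {L M : X.Modules} (hL : PicF.IsInvertible L)
    (hM : ClSub.IsInverseOf L M) (hs : Nontrivial (Coh.HH X L 0))
    (hsp : Nontrivial (Coh.HH X (CohB1.tensorMod (Omega.sheaf (X ↘ Spec (CommRingCat.of k))) M) 0)) :
    2 * (Module.finrank k (Coh.HH X L 0) : ℤ) ≤ Curv2.deg k X L 1 + 2 := by
  have hMi := isInvertible_of_isInverseOf hL hM
  obtain ⟨e⟩ := hM
  haveI := finite_HH (k := k) _ (H11Ample.isInvertible_tensor (isInvertible_omega_curve (k := k) hdim) hMi) 0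
  have h1 := finrank_h1_invertible (k := k) hdim hL hMi e
  have hpos := Module.finrank_pos (R := k) (M := Coh.HH X (CohB1.tensorMod
    (Omega.sheaf (X ↘ Spec (CommRingCat.of k))) M) 0)
  haveI := finite_HH (k := k) L hL 1
  have hle := h0_add_h1_le (k := k) hdim.le hL hs (Module.nontrivial_of_finrank_pos (R := k) (by omega))
  have hrr := riemann_roch (k := k) hdim.le L
  rw [finrank_h0_structure k X] at hrr
  omega

end Groth.Agent.H29CurveDual
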