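import Groth.Agent.H29CurveDual.PointGen
import Groth.Agent.H29CurveDual.CanonAux
import Groth.Agent.H29RR.MaxSections
import Groth.Agent.H29RR.Generation
import Groth.Agent.H29RR.PointAux

/-!
# Differentials are globally generated in positive genus
-/

set_option autoImplicit false
set_option linter.style.haveILetI false

universe u

open CategoryTheory CategoryTheory.Limits AlgebraicGeometry TopologicalSpace Opposite
open Groth.Agent.H29RR

namespace Groth.Agent.H29CurveDual

attribute [local instance 10000] H10Coh.hasSheafifyAb H10Coh.hasWeakSheafifyAb H10Coh.hasExtAb H10Coh.enoughInjAb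
attribute [local instance] Curv2.resAlgebra

variable {k : Type u} [Field k] {X : Scheme.{u}} [X.Over (Spec (CommRingCat.of k))] [IsIntegral X]
  [IsProper (X ↘ Spec (CommRingCat.of k))] [Smooth (X ↘ Spec (CommRingCat.of k))]

local notation "Ω" => Omega.sheaf (X ↘ Spec (CommRingCat.of k))

include k in
theorem isInvertible_pt (hdim : topologicalKrullDim X = 1) {x : X} (hx : IsClosed ({x} : Set X)) :
    PicF.IsInvertible (ClSub.idealMod (ptIdeal x)) := by
  haveI := H19Grp.isRegularLocalRing_stalk_of_smooth (X ↘ Spec (CommRingCat.of k)) x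
  exact isInvertible_pt_of_regular (k := k) hdim hx

omit [IsIntegral X] [Smooth (X ↘ Spec (CommRingCat.of k))] in
theorem residue_finrank_pos {x : X} (hx : IsClosed ({x} : Set X)) : 0 < Module.finrank k (X.residueField x) := by
  haveI := isNoetherian_of_proper (k := k) (X := X)
  haveI : Module.Finite k (Coh.HH X (ClSub.quotMod (ptIdeal x)) 0) :=
    H10Coh.finite_HH_proper k X _
      (H24FSch.isCoh_pushforward_of_isClosedImmersion (ptIdeal x).subschemeι (H10Coh.isCoh_structureModule' _)) 0
  haveI : Module.Finite k (X.residueField x) := Module.Finite.equiv (nonempty_quotMod_pt_equiv (k := k) hx).some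
  exact Module.finrank_pos

/-- The sections of the differentials do not all vanish at a point. -/
theorem h0_omega_sub_point_lt (hdim : topologicalKrullDim X = 1)
    (h00 : Module.finrank k (Coh.HH X (Coh.structureModule X) 0) = 1) (hg : 1 ≤ Curv2.genus k X)
    {x : X} (hx : IsClosed ({x} : Set X)) :
    Module.finrank k (Coh.HH X (CohB1.tensorMod (ClSub.idealMod (ptIdeal x)) Ω) 0) <
      Module.finrank k (Coh.HH X Ω 0) := by
  have hΩ := isInvertible_omega_curve (k := k) hdim
  have hI := isInvertible_pt (k := k) hdim hx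
  have hT := H11Ample.isInvertible_tensor hI hΩ
  obtain ⟨-, -, h3⟩ := twist_point (k := k) hx hΩ (isCoh_of_isInvertible hI)
  obtain ⟨N, hN, ⟨e⟩⟩ := exists_inverse_comm hT
  have hM := H11Ample.isInvertible_tensor hΩ hN
  have hm := residue_finrank_pos (k := k) hx
  have hdT : Curv2.deg k X (CohB1.tensorMod (ClSub.idealMod (ptIdeal x)) Ω) 1 =
      Curv2.deg k X Ω 1 - (Module.finrank k (X.residueField x) : ℤ) := by
    rw [deg_def, deg_def]; omega
  have hdM : Curv2.deg k X (CohB1.tensorMod Ω N) 1 = (Module.finrank k (X.residueField x) : ℤ) := by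
    rw [deg_quot (k := k) hdim.le hT hΩ hN e, hdT]; omega
  have hrr := riemann_roch (k := k) hdim.le (CohB1.tensorMod (ClSub.idealMod (ptIdeal x)) Ω)
  rw [h00, finrank_h1_invertible hdim hT hN e, hdT, deg_omega_of_h0 hdim h00] at hrr
  rw [finrank_h1_structure hdim]
  by_contra hle
  rw [not_lt] at hle
  haveI : Nontrivial (Coh.HH X (CohB1.tensorMod Ω N) 0) := Module.nontrivial_of_finrank_pos (R := k) (by omega)
  have hb := (bounds_of_section (k := k) hdim.le hM inferInstance).2.1
  rw [h00, hdM] at hb
  have hmax := genus_eq_zero_of_max_sections (k := k) hdim.le h00 hM (by omega) (by omega)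
  omega

theorem isGloballyGenerated_omega (hdim : topologicalKrullDim X = 1)
    (h00 : Module.finrank k (Coh.HH X (Coh.structureModule X) 0) = 1) (hg : 1 ≤ Curv2.genus k X) :
    Curv2.IsGloballyGenerated Ω := by
  haveI := isNoetherian_of_proper (k := k) (X := X)
  have hΩ := isInvertible_omega_curve (k := k) hdim
  exact isGloballyGenerated_of_closedPoints hΩ fun x hx => exists_mem_gen_of_h0_lt (k := k) hx hΩ
    (isCoh_of_isInvertible (isInvertible_pt (k := k) hdim hx)) (h0_omega_sub_point_lt hdim h00 hg hx)

end Groth.Agent.H29CurveDual
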