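import Groth.Agent.H17.OmegaLocal
import Groth.Prelude.Def_OmAff
import Groth.Agent.H29Omega.SheafFinite

/-!
# Differentials on affine charts over an affine base, compatibly with restriction
-/

set_option autoImplicit false

universe u

open CategoryTheory CategoryTheory.Limits AlgebraicGeometry TopologicalSpace Opposite

namespace Groth.Agent.H29CurveDual

variable {X S : Scheme.{u}} (p : X ⟶ S)

/-- The algebra of functions on an open over the functions of the base. -/
@[implicit_reducible]
noncomputable def algR (U : X.Opens) : Algebra Γ(S, ⊤) Γ(X, U) := (p.appLE ⊤ U le_top).hom.toAlgebra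

theorem res_appLE {U U' : X.Opens} (h : U' ≤ U) (r : Γ(S, ⊤)) :
    X.presheaf.map (homOfLE h).op (p.appLE ⊤ U le_top r) = p.appLE ⊤ U' le_top r := by
  exact congr($(Scheme.Hom.appLE_map p _ (homOfLE h).op) r)

variable [QuasiSeparated p] [IsAffine S]

/-- Sections of the differentials on an affine open are the Kähler differentials. -/
noncomputable def omEquiv (U : X.Opens) (hU : IsAffineOpen U) :
    letI := algR p U
    Ω[Γ(X, U)⁄Γ(S, ⊤)] ≃ₗ[Γ(X, U)] Γ(Omega.sheaf p, U) :=
  letI := algR p U
  haveI := H17.OmegaLocal.isIso_toSect (f := p) hU (isAffineOpen_top S) le_top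
  (asIso (OmAff.toSect p ⊤ U le_top)).toLinearEquiv

theorem omEquiv_D (U : X.Opens) (hU : IsAffineOpen U) (b : Γ(X, U)) :
    letI := algR p U
    omEquiv p U hU (KaehlerDifferential.D Γ(S, ⊤) Γ(X, U) b) = OmegaSh.dSect p U b :=
  OmAff.toSect_d p ⊤ U le_top b

/-- Sections of the differentials on an affine open are spanned by differentials. -/
theorem span_dSect (U : X.Opens) (hU : IsAffineOpen U) :
    Submodule.span Γ(X, U) (Set.range (OmegaSh.dSect p U)) = ⊤ := by
  letI := algR p U
  rw [eq_top_iff, ← LinearEquiv.range (omEquiv p U hU), LinearMap.range_eq_map, ← KaehlerDifferential.span_range_derivation,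
    Submodule.map_span, ← Set.range_comp]
  refine Submodule.span_mono ?_
  rintro _ ⟨b, rfl⟩
  exact ⟨b, (omEquiv_D p U hU b).symm⟩

theorem dSect_res {U U' : X.Opens} (h : U' ≤ U) (b : Γ(X, U)) :
    OmegaSh.dSect p U' (X.presheaf.map (homOfLE h).op b) =
      (Omega.sheaf p).presheaf.map (homOfLE h).op (OmegaSh.dSect p U b) :=
  OmegaSh.dSect_map p h b

/-- An additive map out of the differentials killed on `c • d b` is zero. -/
theorem eq_zero_of_smul_dSect {U : X.Opens} (hU : IsAffineOpen U) {N : Type*} [AddCommGroup N]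
    (l : Γ(Omega.sheaf p, U) →+ N) (h : ∀ (c b : Γ(X, U)), l (c • OmegaSh.dSect p U b) = 0) (η : Γ(Omega.sheaf p, U)) :
    l η = 0 := by
  have hη : η ∈ Submodule.span Γ(X, U) (Set.range (OmegaSh.dSect p U)) := span_dSect p U hU ▸ Submodule.mem_top
  suffices ∀ c : Γ(X, U), l (c • η) = 0 by simpa using this 1
  induction hη using Submodule.span_induction with
  | mem x hx => obtain ⟨b, rfl⟩ := hx; exact fun c => h c b
  | zero => intro c; rw [smul_zero, map_zero]
  | add x y _ _ hx hy => intro c; rw [smul_add, map_add, hx, hy, add_zero]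
  | smul a x _ hx => intro c; rw [smul_smul]; exact hx _

end Groth.Agent.H29CurveDual
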