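import Groth.Agent.H29CurveDual.TraceForm
import Groth.Agent.H29CurveDual.ChartOmega
import Groth.Agent.H25FinCov.Trace
import Groth.Agent.H9CI.SmoothGraph

/-!
# The trace of differentials on charts of the base of a finite flat morphism of curves
-/

set_option autoImplicit false
set_option linter.style.haveILetI false

universe u

open CategoryTheory CategoryTheory.Limits AlgebraicGeometry TopologicalSpace Opposite

namespace Groth.Agent.H29CurveDual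

/-- A torsion-free module with free localisation of rank one has rank one. -/
theorem rankOne_of_away {R B B' : Type u} [CommRing R] [CommRing B] [IsDomain B] [CommRing B'] [IsDomain B']
    [Algebra R B] [Algebra R B'] [Algebra B B'] [IsScalarTower R B B'] (g : B) (hg : g ≠ 0)
    [IsLocalization.Away g B'] [Module.IsTorsionFree B Ω[B⁄R]]
    (β : Module.Basis (Fin 1) B' Ω[B'⁄R]) (η m : Ω[B⁄R]) (hm : m ≠ 0) :
    ∃ c : B, c ≠ 0 ∧ ∃ b : B, c • η = b • m := by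
  haveI := KaehlerDifferential.isLocalizedModule_map R B B' (Submonoid.powers g)
  let φ : Ω[B⁄R] →ₗ[B] B' :=
    ((β.coord 0).restrictScalars B).comp (KaehlerDifferential.map R R B B')
  have hinj : ∀ x, φ x = 0 → x = 0 := fun x hx => by
    have h0 : KaehlerDifferential.map R R B B' x = 0 :=
      (β.forall_coord_eq_zero_iff).1 (fun i => by rw [Fin.fin_one_eq_zero i]; exact hx)
    obtain ⟨⟨c, n, rfl⟩, hc⟩ :=
      (IsLocalizedModule.eq_zero_iff (Submonoid.powers g) (KaehlerDifferential.map R R B B')).1 h0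
    exact (smul_eq_zero.1 hc).resolve_left (pow_ne_zero n hg)
  obtain ⟨i, b, hb⟩ := IsLocalization.Away.surj g (φ η)
  obtain ⟨j, c, hc⟩ := IsLocalization.Away.surj g (φ m)
  have halg : Function.Injective (algebraMap B B') :=
    IsLocalization.injective B' (powers_le_nonZeroDivisors_of_noZeroDivisors hg)
  have hgB : IsUnit (algebraMap B B' g) := IsLocalization.Away.algebraMap_isUnit g
  refine ⟨g ^ i * c, mul_ne_zero (pow_ne_zero _ hg) fun h => hm (hinj m ?_), g ^ j * b, ?_⟩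
  · rw [h, map_zero] at hc
    exact (mul_eq_zero.1 hc).resolve_right (pow_ne_zero _ hgB.ne_zero)
  · refine sub_eq_zero.1 (hinj _ ?_)
    rw [map_sub, map_smul, map_smul, Algebra.smul_def, Algebra.smul_def, map_mul, map_mul, map_pow, map_pow,
      ← hb, ← hc]
    ring

variable {X Y S : Scheme.{u}}

/-- A good chart of the base. -/
structure IsChart (f : X ⟶ Y) (q : Y ⟶ S) (V : Y.Opens) : Prop where
  affine : IsAffineOpen V
  nonempty : Nonempty V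
  smooth : letI := algR q V; Algebra.IsStandardSmoothOfRelativeDimension 1 Γ(S, ⊤) Γ(Y, V)
  free : letI := (f.app V).hom.toAlgebra; Module.Free Γ(Y, V) Γ(X, f ⁻¹ᵁ V)

/-- The trace of functions on a chart. -/
noncomputable def trFun (f : X ⟶ Y) (V : Y.Opens) (b : Γ(X, f ⁻¹ᵁ V)) : Γ(Y, V) :=
  letI := (f.app V).hom.toAlgebra
  Algebra.trace Γ(Y, V) Γ(X, f ⁻¹ᵁ V) b

variable (f : X ⟶ Y) (q : Y ⟶ S) [IsAffine S] [QuasiSeparated q] [QuasiSeparated (f ≫ q)]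

/-- Semilinearity over the functions on `V`. -/
def IsSemilin {V : Y.Opens} {M : X.Modules} {N : Y.Modules} (l : Γ(M, f ⁻¹ᵁ V) →+ Γ(N, V)) : Prop :=
  ∀ (a : Γ(Y, V)) (η : Γ(M, f ⁻¹ᵁ V)), l (f.app V a • η) = a • l η

/-- A perfect trace on a chart. -/
structure IsTraceOn (V : Y.Opens) (τ : Γ(Omega.sheaf (f ≫ q), f ⁻¹ᵁ V) →+ Γ(Omega.sheaf q, V)) : Prop where
  semilin : IsSemilin f τ
  formula : ∀ (b : Γ(X, f ⁻¹ᵁ V)) (a : Γ(Y, V)),
    τ (b • OmegaSh.dSect (f ≫ q) (f ⁻¹ᵁ V) (f.app V a)) = trFun f V b • OmegaSh.dSect q V a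
  perfect : ∀ φ : Γ(X, f ⁻¹ᵁ V) →+ Γ(Omega.sheaf q, V), (∀ a b, φ (f.app V a * b) = a • φ b) →
    ∃! η : Γ(Omega.sheaf (f ≫ q), f ⁻¹ᵁ V), ∀ b, τ (b • η) = φ b

theorem algR_tower (V : Y.Opens) :
    letI := algR q V
    letI := algR (f ≫ q) (f ⁻¹ᵁ V)
    letI := (f.app V).hom.toAlgebra
    IsScalarTower Γ(S, ⊤) Γ(Y, V) Γ(X, f ⁻¹ᵁ V) := by
  letI := algR q V
  letI := algR (f ≫ q) (f ⁻¹ᵁ V)
  letI := (f.app V).hom.toAlgebra
  refine IsScalarTower.of_algebraMap_eq fun r => ?_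
  show (f ≫ q).appLE ⊤ (f ⁻¹ᵁ V) le_top r = f.app V (q.appLE ⊤ V le_top r)
  rw [← Scheme.Hom.appLE_comp_appLE f q ⊤ V (f ⁻¹ᵁ V) le_top le_rfl, CommRingCat.comp_apply,
    Scheme.Hom.app_eq_appLE]

variable [IsIntegral X] [IsIntegral Y] [IsFinite f] [SmoothOfRelativeDimension 1 (f ≫ q)] [Subsingleton S]
  (hη : f (genericPoint X) = genericPoint Y)
  (hDed : ∀ U : X.Opens, IsAffineOpen U → Nonempty U → IsDedekindDomain Γ(X, U))

include hη in
omit [IsFinite f] in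
theorem nonempty_preimage {V : Y.Opens} (hV : Nonempty V) : Nonempty (f ⁻¹ᵁ V) :=
  ⟨⟨genericPoint X, show f (genericPoint X) ∈ V from hη ▸
    ((genericPoint_spec Y).mem_open_set_iff V.isOpen).2 (by obtain ⟨⟨y, hy⟩⟩ := hV; exact ⟨y, trivial, hy⟩)⟩⟩

omit [IsIntegral X] [IsIntegral Y] [IsFinite f] in
theorem smooth_app {p : X ⟶ S} [SmoothOfRelativeDimension 1 p] {U : X.Opens} (hU : IsAffineOpen U) :
    letI := algR p U
    Algebra.Smooth Γ(S, ⊤) Γ(X, U) := by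
  haveI := SmoothOfRelativeDimension.smooth 1 p
  exact HasRingHomProperty.appLE (P := @Smooth) p inferInstance ⟨⊤, isAffineOpen_top S⟩ ⟨U, hU⟩ le_top

omit [IsIntegral X] in
theorem exists_stdSmooth_basicOpen (p : X ⟶ S) [SmoothOfRelativeDimension 1 p] {U : X.Opens} (hU : IsAffineOpen U)
    (x : X) (hx : x ∈ U) :
    ∃ g : Γ(X, U), x ∈ X.basicOpen g ∧ (letI := algR p (X.basicOpen g);
      Algebra.IsStandardSmoothOfRelativeDimension 1 Γ(S, ⊤) Γ(X, X.basicOpen g)) := by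
  obtain ⟨W, hW, V₀, hV₀, hxV, e, h⟩ :=
    SmoothOfRelativeDimension.exists_isStandardSmoothOfRelativeDimension (n := 1) (f := p) x
  have hWtop : W = ⊤ := eq_top_iff.mpr fun y _ => (Subsingleton.elim (p x) y) ▸ e hxV
  subst hWtop
  obtain ⟨g, g', hgg, hxg⟩ := exists_basicOpen_le_affine_inter hU hV₀ x ⟨hx, hxV⟩
  refine ⟨g, hxg, ?_⟩
  rw [hgg]
  letI := algR p V₀
  letI := algR p (X.basicOpen g')
  letI : Algebra Γ(X, V₀) Γ(X, X.basicOpen g') := (X.presheaf.map (homOfLE (X.basicOpen_le g')).op).hom.toAlgebra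
  haveI : IsScalarTower Γ(S, ⊤) Γ(X, V₀) Γ(X, X.basicOpen g') :=
    IsScalarTower.of_algebraMap_eq fun r => (res_appLE p (X.basicOpen_le g') r).symm
  haveI := hV₀.isLocalization_basicOpen g'
  haveI : Algebra.IsStandardSmoothOfRelativeDimension 1 Γ(S, ⊤) Γ(X, V₀) := h
  haveI := Algebra.IsStandardSmoothOfRelativeDimension.localization_away (R := Γ(X, V₀))
    (S := Γ(X, X.basicOpen g')) g'
  exact Algebra.IsStandardSmoothOfRelativeDimension.trans (n := 1) (m := 0) Γ(S, ⊤) Γ(X, V₀) _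

omit [IsIntegral X] [IsIntegral Y] in
theorem exists_basis_omega {p : X ⟶ S} {U : X.Opens} [Nonempty U] (h : letI := algR p U;
    Algebra.IsStandardSmoothOfRelativeDimension 1 Γ(S, ⊤) Γ(X, U)) :
    letI := algR p U
    Nonempty (Module.Basis (Fin 1) Γ(X, U) Ω[Γ(X, U)⁄Γ(S, ⊤)]) := by
  letI := algR p U
  haveI := h
  haveI : Algebra.IsStandardSmooth Γ(S, ⊤) Γ(X, U) :=
    Algebra.IsStandardSmoothOfRelativeDimension.isStandardSmooth 1
  exact ⟨Module.finBasisOfFinrankEq _ _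
    (Module.finrank_eq_of_rank_eq (Algebra.IsStandardSmoothOfRelativeDimension.rank_kaehlerDifferential 1))⟩

theorem omega_rankOne (p : X ⟶ S) [SmoothOfRelativeDimension 1 p] {U : X.Opens} (hU : IsAffineOpen U)
    [Nonempty U] :
    letI := algR p U
    ∀ η m : Ω[Γ(X, U)⁄Γ(S, ⊤)], m ≠ 0 → ∃ c : Γ(X, U), c ≠ 0 ∧ ∃ b : Γ(X, U), c • η = b • m := by
  letI := algR p U
  intro η m hm
  obtain ⟨x⟩ := ‹Nonempty U›
  obtain ⟨g, hxg, hg⟩ := exists_stdSmooth_basicOpen p hU x.1 x.2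
  haveI : Nonempty (X.basicOpen g) := ⟨⟨x.1, hxg⟩⟩
  obtain ⟨β⟩ := exists_basis_omega (p := p) hg
  letI := algR p (X.basicOpen g)
  letI : Algebra Γ(X, U) Γ(X, X.basicOpen g) := (X.presheaf.map (homOfLE (X.basicOpen_le g)).op).hom.toAlgebra
  haveI : IsScalarTower Γ(S, ⊤) Γ(X, U) Γ(X, X.basicOpen g) :=
    IsScalarTower.of_algebraMap_eq fun r => (res_appLE p (X.basicOpen_le g) r).symm
  haveI := hU.isLocalization_basicOpen g
  haveI := smooth_app (p := p) hU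
  refine rankOne_of_away g (fun h => ?_) β η m hm
  rw [h, Scheme.basicOpen_zero] at hxg
  exact hxg

variable [SmoothOfRelativeDimension 1 q] [Flat f]
  (hdf : ∀ V : Y.Opens, IsAffineOpen V → Nonempty V →
    ∃ a : Γ(Y, V), OmegaSh.dSect (f ≫ q) (f ⁻¹ᵁ V) (f.app V a) ≠ 0)

include hη hDed hdf in
theorem exists_isTraceOn {V : Y.Opens} (hV : IsChart f q V) : ∃ τ, IsTraceOn f q V τ := by
  have hne := nonempty_preimage f hη hV.nonempty
  haveI := hne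
  haveI := hV.nonempty
  have hU : IsAffineOpen (f ⁻¹ᵁ V) := hV.affine.preimage f
  haveI := hDed _ hU hne
  letI := algR q V
  letI := algR (f ≫ q) (f ⁻¹ᵁ V)
  letI := (f.app V).hom.toAlgebra
  haveI := algR_tower f q V
  haveI := hV.smooth
  haveI := smooth_app (p := f ≫ q) hU
  haveI := hV.free
  haveI : Module.Finite Γ(Y, V) Γ(X, f ⁻¹ᵁ V) := IsFinite.finite_app (f := f) V hV.affine
  obtain ⟨β⟩ := exists_basis_omega (p := q) hV.smooth
  let eX := omEquiv (f ≫ q) (f ⁻¹ᵁ V) hU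
  let eY := omEquiv q V hV.affine
  have hw : ∀ ν : Ω[Γ(Y, V)⁄Γ(S, ⊤)], ∃ a : Γ(Y, V), a • β 0 = ν := fun ν =>
    ⟨β.repr ν 0, by simpa [Fin.sum_univ_one] using β.sum_repr ν⟩
  have hw0 : ∀ a : Γ(Y, V), a • β 0 = 0 → a = 0 := fun a ha => by simpa using congrArg (fun z => β.repr z 0) ha
  have hD : ∀ (b : Γ(X, f ⁻¹ᵁ V)) (a : Γ(Y, V)),
      eX (b • KaehlerDifferential.map Γ(S, ⊤) Γ(S, ⊤) Γ(Y, V) Γ(X, f ⁻¹ᵁ V) (KaehlerDifferential.D _ _ a)) =
        b • OmegaSh.dSect (f ≫ q) (f ⁻¹ᵁ V) (f.app V a) := fun b a => by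
    rw [map_smul, KaehlerDifferential.map_D]
    exact congrArg (b • ·) (omEquiv_D (f ≫ q) (f ⁻¹ᵁ V) hU _)
  have hwB : KaehlerDifferential.map Γ(S, ⊤) Γ(S, ⊤) Γ(Y, V) Γ(X, f ⁻¹ᵁ V) (β 0) ≠ 0 := fun h0 => by
    obtain ⟨a, ha⟩ := hdf V hV.affine hV.nonempty
    obtain ⟨c, hc⟩ := hw (KaehlerDifferential.D _ _ a)
    refine ha ?_
    have h1 := hD 1 a
    rw [one_smul, one_smul, ← hc, map_smul, h0, smul_zero, map_zero] at h1
    exact h1.symm
  obtain ⟨d, hd, hdΩ⟩ : ∃ d : Γ(X, f ⁻¹ᵁ V), d ≠ 0 ∧ ∀ y : Ω[Γ(X, f ⁻¹ᵁ V)⁄Γ(Y, V)], d • y = 0 := by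
    have hker := ker_map_eq_span (R := Γ(S, ⊤)) (A := Γ(Y, V)) (B := Γ(X, f ⁻¹ᵁ V)) hw
    have htor : ∀ y : Ω[Γ(X, f ⁻¹ᵁ V)⁄Γ(Y, V)], ∃ c : Γ(X, f ⁻¹ᵁ V), c ≠ 0 ∧ c • y = 0 := fun y => by
      obtain ⟨η, rfl⟩ := KaehlerDifferential.map_surjective Γ(S, ⊤) Γ(Y, V) Γ(X, f ⁻¹ᵁ V) y
      obtain ⟨c, hc, b, hb⟩ := omega_rankOne (f ≫ q) hU η _ hwB
      refine ⟨c, hc, ?_⟩
      rw [← map_smul, ← LinearMap.mem_ker, hker, hb]
      exact Submodule.smul_mem _ _ (Submodule.mem_span_singleton_self _)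
    classical
    obtain ⟨s, hs⟩ := Module.Finite.fg_top (R := Γ(X, f ⁻¹ᵁ V)) (M := Ω[Γ(X, f ⁻¹ᵁ V)⁄Γ(Y, V)])
    choose c hc hcy using htor
    refine ⟨∏ y ∈ s, c y, Finset.prod_ne_zero_iff.2 fun y _ => hc y, fun y => ?_⟩
    have hy : y ∈ Submodule.span Γ(X, f ⁻¹ᵁ V) (s : Set Ω[Γ(X, f ⁻¹ᵁ V)⁄Γ(Y, V)]) := hs ▸ Submodule.mem_top
    induction hy using Submodule.span_induction with
    | mem x hx => rw [← Finset.prod_erase_mul s c hx, mul_smul, hcy, smul_zero]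
    | zero => rw [smul_zero]
    | add x z _ _ hx hz => rw [smul_add, hx, hz, add_zero]
    | smul b x _ hx => rw [smul_comm, hx, smul_zero]
  haveI : Module.Flat Γ(Y, V) Γ(X, f ⁻¹ᵁ V) := inferInstance
  have hsyn := H9CI.isSyntomic_of_flat_smooth (R := Γ(S, ⊤)) (A := Γ(Y, V))
    (B := Γ(X, f ⁻¹ᵁ V)) 1
  obtain ⟨τ, hτ, hperf⟩ := exists_trace hsyn hw hw0 hwB hd hdΩ
  refine ⟨(eY.toLinearMap.toAddMonoidHom.comp τ.toAddMonoidHom).comp eX.symm.toLinearMap.toAddMonoidHom,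
    fun a η => ?_, fun b a => ?_, fun φ hφ => ?_⟩
  · show eY (τ (eX.symm (f.app V a • η))) = a • eY (τ (eX.symm η))
    rw [map_smul, ← map_smul eY, ← map_smul τ]
    exact congrArg (fun z => eY (τ z)) (algebraMap_smul Γ(X, f ⁻¹ᵁ V) a (eX.symm η))
  · show eY (τ (eX.symm (b • OmegaSh.dSect (f ≫ q) (f ⁻¹ᵁ V) (f.app V a)))) = _
    rw [← hD, eX.symm_apply_apply, hτ, map_smul]
    exact congrArg (trFun f V b • ·) (omEquiv_D q V hV.affine a)
  · let φ' : Γ(X, f ⁻¹ᵁ V) →ₗ[Γ(Y, V)] Ω[Γ(Y, V)⁄Γ(S, ⊤)] :=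
      { toFun := fun b => eY.symm (φ b)
        map_add' := fun b c => by rw [map_add, map_add]
        map_smul' := fun a b => by rw [Algebra.smul_def, RingHom.id_apply, ← map_smul]; exact congrArg eY.symm (hφ a b) }
    obtain ⟨η, hη', huniq⟩ := hperf φ'
    refine ⟨eX η, fun b => ?_, fun η' hη'' => ?_⟩
    · show eY (τ (eX.symm (b • eX η))) = φ b
      rw [← map_smul, eX.symm_apply_apply, hη', ← eY.apply_symm_apply (φ b)]
      rfl
    · rw [← eX.apply_symm_apply η']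
      refine congrArg eX (huniq _ fun b => eY.injective ?_)
      rw [← map_smul]
      exact (hη'' b).trans (eY.apply_symm_apply (φ b)).symm

end Groth.Agent.H29CurveDual
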