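import Groth.Agent.H29CurveDual.Embedding
import Groth.Agent.H29CurveDual.Clifford

/-!
# Very ampleness by degree and by independent conditions
-/

set_option autoImplicit false
set_option linter.style.haveILetI false

universe u

open CategoryTheory CategoryTheory.Limits AlgebraicGeometry TopologicalSpace Opposite
open Groth.Agent.H29RR

namespace Groth.Agent.H29CurveDual

attribute [local instance 10000] H10Coh.hasSheafifyAb H10Coh.hasWeakSheafifyAb H10Coh.hasExtAb H10Coh.enoughInjAb
attribute [local instance] Curv2.resAlgebra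

variable {k : Type u} [Field k] [IsAlgClosed k] {X : Scheme.{u}} [X.Over (Spec (CommRingCat.of k))] [IsIntegral X]
  [IsProper (X ↘ Spec (CommRingCat.of k))] [Smooth (X ↘ Spec (CommRingCat.of k))]

theorem deg_ptIdeal_tensor (hdim : topologicalKrullDim X = 1) {P : X} (hP : IsClosed ({P} : Set X)) {L : X.Modules}
    (hL : PicF.IsInvertible L) :
    Curv2.deg k X (CohB1.tensorMod (ClSub.idealMod (ptIdeal P)) L) 1 = Curv2.deg k X L 1 - 1 := by
  obtain ⟨-, -, h3⟩ := twist_point (k := k) hP hL (isCoh_of_isInvertible (isInvertible_pt (k := k) hdim hP))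
  rw [finrank_residue_eq_one (k := k) hP] at h3
  rw [deg_def, deg_def]
  omega

/-- Two points impose independent conditions when both first cohomology groups vanish. -/
theorem h0_drop_of_h1 (hdim : topologicalKrullDim X = 1) {L : X.Modules} (hL : PicF.IsInvertible L) {P Q : X}
    (hP : IsClosed ({P} : Set X)) (hQ : IsClosed ({Q} : Set X))
    (h1 : Module.finrank k (Coh.HH X (CohB1.tensorMod (ClSub.idealMod (ptIdeal P))
      (CohB1.tensorMod (ClSub.idealMod (ptIdeal Q)) L)) 1) = Module.finrank k (Coh.HH X L 1)) :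
    Module.finrank k (Coh.HH X (CohB1.tensorMod (ClSub.idealMod (ptIdeal P))
      (CohB1.tensorMod (ClSub.idealMod (ptIdeal Q)) L)) 0) + 2 = Module.finrank k (Coh.HH X L 0) := by
  have hM := H11Ample.isInvertible_tensor (isInvertible_pt (k := k) hdim hQ) hL
  have hr1 := riemann_roch (k := k) hdim.le L
  have hr2 := riemann_roch (k := k) hdim.le (CohB1.tensorMod (ClSub.idealMod (ptIdeal P))
    (CohB1.tensorMod (ClSub.idealMod (ptIdeal Q)) L))
  rw [deg_ptIdeal_tensor hdim hP hM, deg_ptIdeal_tensor hdim hQ hL] at hr2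
  omega

/-- Degree at least `2g+1` gives a closed immersion. -/
theorem exists_closedImmersion_of_deg (hdim : topologicalKrullDim X = 1) {L : X.Modules} (hL : PicF.IsInvertible L)
    (hd : 2 * (Curv2.genus k X : ℤ) + 1 ≤ Curv2.deg k X L 1) :
    ∃ (n : ℕ) (r : X ⟶ CohB1.ProjSpace n k), IsClosedImmersion r ∧
      r ≫ CohB1.ProjSpace.toSpec n k = X ↘ Spec (CommRingCat.of k) ∧
      Nonempty ((Scheme.Modules.pullback r).obj (Twist.twistProjSpace n k 1) ≅ L) := by
  have h00 := finrank_h0_structure k X
  refine exists_closedImmersion_of_h0 hdim hL fun P Q hP hQ => h0_drop_of_h1 hdim hL hP hQ ?_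
  have hM := H11Ample.isInvertible_tensor (isInvertible_pt (k := k) hdim hQ) hL
  haveI := subsingleton_h1_of_deg (k := k) hdim hL (by rw [deg_omega_of_h0 hdim h00]; omega)
  haveI := subsingleton_h1_of_deg (k := k) hdim (H11Ample.isInvertible_tensor (isInvertible_pt (k := k) hdim hP) hM)
    (by rw [deg_ptIdeal_tensor hdim hP hM, deg_ptIdeal_tensor hdim hQ hL, deg_omega_of_h0 hdim h00]; omega)
  rw [Module.finrank_zero_of_subsingleton, Module.finrank_zero_of_subsingleton]

end Groth.Agent.H29CurveDual
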