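import Groth.Agent.H11Proj.QProjCriterion
import Groth.Agent.LeadVA.Main
import Groth.Agent.LeadBC.GenBC.ZeroApply

/-!
# Projectivity of a morphism with a fibrewise very ample module without higher cohomology
-/

set_option autoImplicit false
set_option linter.style.haveILetI false

universe u

open CategoryTheory CategoryTheory.Limits AlgebraicGeometry TopologicalSpace Opposite
open Groth.Agent.H11Tilde Groth.Agent.H11Ample Groth.Agent.H11Proj

namespace Groth.Agent.H29CurveDual

attribute [local instance 10000] H10Coh.hasSheafifyAb H10Coh.hasWeakSheafifyAb H10Coh.hasExtAb H10Coh.enoughInjAb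

variable {X S : Scheme.{u}}

/-- Very ample sections stay very ample over a smaller open. -/
theorem veryAmpleOn_res {f : X ⟶ S} {M : X.Modules} {V W : S.Opens} (hWV : W ≤ V) {k : ℕ}
    {s : Fin k → Γ(M, f ⁻¹ᵁ V)} (hs : VeryAmpleOn f s) :
    VeryAmpleOn f fun l => resS M (f.preimage_mono hWV) (s l) := by
  refine ⟨fun x hx => ?_, fun l W' hW' hle => ?_, fun l W' hW' hle => ?_⟩
  · obtain ⟨l, hl⟩ := hs.cover x (hWV hx)
    exact ⟨l, by rw [genAt_res]; exact ⟨hl, hx⟩⟩
  · rw [genAt_res, inf_assoc, inf_eq_right.2 (f.preimage_mono hle)]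
    exact hs.affine l W' hW' (hle.trans hWV)
  · let s' := resS M (f.preimage_mono hWV) (s l)
    let a := chartAt (s l)
    let a' := chartAt s'
    have hle' : a'.V ≤ a.V := by
      show genAt M s' ≤ genAt M (s l)
      rw [genAt_res]; exact inf_le_left
    have e : a'.V ⊓ f ⁻¹ᵁ W' = a.V ⊓ f ⁻¹ᵁ W' := by
      show genAt M s' ⊓ _ = genAt M (s l) ⊓ _
      rw [genAt_res, inf_assoc, inf_eq_right.2 (f.preimage_mono hle)]
    let φ := resF (X := X) e.le
    let R := gensRing f a' (fun m => resS M (f.preimage_mono hle) (resS M (f.preimage_mono hWV) (s m)))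
    suffices hR : gensRing f a (fun m => resS M (f.preimage_mono (hle.trans hWV)) (s m)) ≤ R.comap φ by
      refine eq_top_iff.2 fun y _ => ?_
      have h1 : φ (resF e.ge y) ∈ R := hR ((hs.surj l W' hW' (hle.trans hWV)).ge (Subring.mem_top _))
      have h2 : φ (resF e.ge y) = y := (resF_resF _ _ _).trans (resF_self y)
      rwa [h2] at h1
    rw [gensRing, Subring.closure_le]
    rintro z (⟨r, rfl⟩ | ⟨m, rfl⟩)
    · refine Subring.subset_closure (Or.inl ⟨r, ?_⟩)
      simp only [φ, resF]
      exact (congr($(Scheme.Hom.appLE_map f _ _) r)).symm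
    · refine Subring.subset_closure (Or.inr ⟨m, ?_⟩)
      let t := resS M (f.preimage_mono (hle.trans hWV)) (s m)
      have h : φ (a.coef t) = resF (le_inf inf_le_left inf_le_right) (a'.coef t) := by
        refine a'.eq_coef t inf_le_left inf_le_right ?_
        have h' := congrArg (resS M e.le) (a.coef_spec t)
        rw [resS_smul, resS_resS, resS_resS] at h'
        simp only [t, a, a', s', resS_resS] at h' ⊢
        exact h'
      rw [resF_self] at h
      show a'.coef _ = φ (a.coef t)
      rw [h]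
      exact congrArg a'.coef (resS_resS _ _ _ _)

/-- A proper flat morphism of finite presentation with a module very ample and acyclic on the fibres is
projective. -/
theorem isProjective_of_fibres (f : X ⟶ S) [IsProper f] [Flat f] [LocallyOfFinitePresentation f] (L : X.Modules)
    (hL : PicF.IsInvertible L)
    (hva : ∀ s : S, RelAmple.IsRelVeryAmplePn (f.fiberToSpecResidueField s)
      ((Scheme.Modules.pullback (f.fiberι s)).obj L))
    (hH1 : ∀ s : S, Subsingleton (CohIII.fiberH f L s 1)) : RelProj.IsProjective f := by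
  classical
  have hlf := H23Para.isFinLocFree_of_isInvertible hL
  have hfp : CohB1.IsFP L := H8Props.FinLocFree.isFP_of_isFinLocFree L hlf
  have hfl : FlatMod.IsFlatOver f L := H10Coh.SheafHom.isFlatOver_of_isFinLocFree f L hlf
  haveI : L.IsQuasicoherent := H29Fitt.isQCoh_of_isFP L hfp
  haveI := H10Coh.enoughInjMod X
  have hpush : FlatMod.IsFinLocFree ((Scheme.Modules.pushforward f).obj L) :=
    LeadBC.GenBC.isFinLocFree_push f L hfp hfl fun y => by
      obtain ⟨W, hW, hyW, -, hm, -, -⟩ := LeadBC.GenBC.exists_vanishing_nhd f L hfp hfl 1 (hH1 y)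
      exact ⟨W, hW, hyW, (LeadBC.GenBC.monoOn_succ_iff f L hW hfp hfl 0).1 hm⟩
  have hgen : ∀ (W : S.Opens), IsAffineOpen W → ∃ (k : ℕ) (G : Fin k → Γ(L, f ⁻¹ᵁ W)),
      ∀ y, SpanBy f L G y := by
    intro W hW
    haveI := (H8Props.FinLocFree.finite_projective_sections _ hpush hW).1
    obtain ⟨k, G, hG⟩ := Module.Finite.exists_fin (R := Γ(S, W))
      (M := Γ((Scheme.Modules.pushforward f).obj L, W))
    refine ⟨k, fun l => G l, fun y => ?_⟩
    let y' : Γ((Scheme.Modules.pushforward f).obj L, W) := y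
    obtain ⟨c, hc⟩ := (Submodule.mem_span_range_iff_exists_fun Γ(S, W)).1
      (hG.ge (Submodule.mem_top (x := y')))
    exact ⟨c, hc.symm⟩
  have hex : ∀ x : S, ∃ (W : S.Opens) (k : ℕ) (g : Fin k → Γ(L, f ⁻¹ᵁ W)), IsAffineOpen W ∧ x ∈ W ∧
      VeryAmpleOn f g ∧ ∀ y, SpanBy f L g y := by
    intro x
    obtain ⟨V, hxV, hV⟩ := LeadVA.exists_veryAmple_nhd f L hL x (hva x) (hH1 x)
    obtain ⟨W, hW, hxW, hWV⟩ := exists_isAffineOpen_mem_and_subset (U := V) (x := x) hxV
    haveI : IsProper (f ∣_ V) := IsZariskiLocalAtTarget.restrict (P := @IsProper) inferInstance V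
    obtain ⟨n, v, hv⟩ := exists_globalVA_of_isRelVeryAmplePn (f ∣_ V) hV
    have hs : VeryAmpleOn f fun l => extendTop (f ⁻¹ᵁ V) (v l) := by
      refine veryAmpleOn_of_globalVA _ ?_
      rw [show (fun l => restrictTop (f ⁻¹ᵁ V) (extendTop (f ⁻¹ᵁ V) (v l))) = v from
        funext fun l => restrictTop_extendTop (f ⁻¹ᵁ V) _]
      exact hv
    obtain ⟨k, G, hG⟩ := hgen W hW
    let s : Fin (n + 1) → Γ(L, f ⁻¹ᵁ W) := fun l => resS L (f.preimage_mono hWV) (extendTop (f ⁻¹ᵁ V) (v l))
    refine ⟨W, (n + 1) + k, Fin.append s G, hW, hxW,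
      (veryAmpleOn_res hWV hs).extend hL hW _ (Fin.castAdd k) (fun j => Fin.append_left _ _ _), fun y => ?_⟩
    refine SpanBy.trans (fun l => ?_) (hG y)
    have h := SpanBy.self (f := f) (L := L) (g := Fin.append s G) (Fin.natAdd (n + 1) l)
    rwa [Fin.append_right] at h
  choose W k g hW hxW hva' hspan using hex
  let Y : Fam f L :=
    { ι := S
      O := W
      k := k
      g := g
      compat := fun a c l x hx => by
        obtain ⟨r, r', hrr, hxr⟩ := exists_basicOpen_le_affine_inter (hW a) (hW c) x hx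
        have hle : S.basicOpen r' ≤ W a := hrr.ge.trans (S.basicOpen_le r)
        refine ⟨S.basicOpen r', hle, S.basicOpen_le r', hrr.le hxr, ?_⟩
        obtain ⟨m, z, hz⟩ := exists_extend_section hL (hW c) r' (resS L (f.preimage_mono hle) (g a l))
        have h := ((hspan c z).res (S.basicOpen_le r'))
        rw [hz] at h
        obtain ⟨u, hu⟩ : IsUnit (S.presheaf.map (homOfLE (S.basicOpen_le r')).op (r' ^ m)) := by
          rw [map_pow]; exact (RingedSpace.isUnit_res_basicOpen _ r').pow m
        have h' := SpanBy.smul (↑u⁻¹ : Γ(S, S.basicOpen r')) h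
        rw [smul_smul, ← map_mul, ← hu, Units.inv_mul, map_one, one_smul] at h'
        exact h' }
  refine Fam.IsVeryAmple.isProjective (Y := Y) ⟨fun a x hx => (hva' a).cover x hx,
    fun a l V hV h => (hva' a).affine l V hV h, fun a l V hV h => (hva' a).surj l V hV h⟩ hL ?_
  exact eq_top_iff.2 fun x _ => Opens.mem_iSup.2 ⟨x, hxW x⟩

end Groth.Agent.H29CurveDual
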