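import Groth.Agent.H29CurveDual.TraceGlobal
import Groth.Agent.H11Aff.DirImgFull

/-!
# Homomorphisms into the differentials, along a finite flat morphism of curves
-/

set_option autoImplicit false
set_option linter.style.haveILetI false

universe u

open CategoryTheory CategoryTheory.Limits AlgebraicGeometry TopologicalSpace Opposite

namespace Groth.Agent.H29CurveDual

variable {X Y S : Scheme.{u}} {f : X ⟶ Y} {q : Y ⟶ S}

/-- A morphism out of a direct image, on sections. -/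
noncomputable def pushApp {M : X.Modules} {N : Y.Modules} (u : (Scheme.Modules.pushforward f).obj M ⟶ N)
    (O : Y.Opens) : Γ(M, f ⁻¹ᵁ O) →+ Γ(N, O) :=
  (u.app O).hom

theorem pushApp_smul {M : X.Modules} {N : Y.Modules} (u : (Scheme.Modules.pushforward f).obj M ⟶ N)
    (O : Y.Opens) (a : Γ(Y, O)) (s : Γ(M, f ⁻¹ᵁ O)) : pushApp u O (f.app O a • s) = a • pushApp u O s :=
  u.app_smul a _

theorem pushApp_res {M : X.Modules} {N : Y.Modules} (u : (Scheme.Modules.pushforward f).obj M ⟶ N)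
    {O O' : Y.Opens} (h : O' ≤ O) (s : Γ(M, f ⁻¹ᵁ O)) :
    pushApp u O' (M.presheaf.map (homOfLE (f.preimage_mono h)).op s) = N.presheaf.map (homOfLE h).op (pushApp u O s) :=
  H17.PrinOmega.app_res u h s

theorem pushApp_map {M M' : X.Modules} {N : Y.Modules} (φ : M ⟶ M') (u : (Scheme.Modules.pushforward f).obj M' ⟶ N)
    (O : Y.Opens) (s : Γ(M, f ⁻¹ᵁ O)) :
    pushApp ((Scheme.Modules.pushforward f).map φ ≫ u) O s = pushApp u O (φ.app (f ⁻¹ᵁ O) s) := rfl

/-- A morphism of direct images, on sections. -/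
noncomputable def pushApp₂ {M M' : X.Modules}
    (u : (Scheme.Modules.pushforward f).obj M ⟶ (Scheme.Modules.pushforward f).obj M')
    (O : Y.Opens) : Γ(M, f ⁻¹ᵁ O) →+ Γ(M', f ⁻¹ᵁ O) :=
  (u.app O).hom

theorem pushApp₂_res {M M' : X.Modules}
    (u : (Scheme.Modules.pushforward f).obj M ⟶ (Scheme.Modules.pushforward f).obj M')
    {O O' : Y.Opens} (h : O' ≤ O) (s : Γ(M, f ⁻¹ᵁ O)) :
    pushApp₂ u O' (M.presheaf.map (homOfLE (f.preimage_mono h)).op s) =
      M'.presheaf.map (homOfLE (f.preimage_mono h)).op (pushApp₂ u O s) :=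
  H17.PrinOmega.app_res u h s

/-- `τ` is a perfect trace on every chart. -/
def IsOmegaTrace [IsAffine S] [QuasiSeparated q] [QuasiSeparated (f ≫ q)]
    (τ : (Scheme.Modules.pushforward f).obj (Omega.sheaf (f ≫ q)) ⟶ Omega.sheaf q) : Prop :=
  ∀ V, IsChart f q V → ∃ τV, IsTraceOn f q V τV ∧
    ∀ η : Γ(Omega.sheaf (f ≫ q), f ⁻¹ᵁ V), pushApp τ V η = τV η

/-- Functions on the preimage of `W ≤ V` are, up to denominators, restricted from the preimage of `V`. -/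
theorem eq_of_eq_res [IsAffineHom f] (N : Y.Modules) {V W : Y.Opens} (hV : IsAffineOpen V) (hW : IsAffineOpen W)
    (e : W ≤ V) (l : ∀ O : Y.Opens, O ≤ W → Γ(X, f ⁻¹ᵁ O) →+ Γ(N, O))
    (hlin : ∀ (O : Y.Opens) (hO : O ≤ W) (a : Γ(Y, O)) (b : Γ(X, f ⁻¹ᵁ O)), l O hO (f.app O a * b) = a • l O hO b)
    (hnat : ∀ (O O' : Y.Opens) (hO : O ≤ W) (hO' : O' ≤ W) (h : O' ≤ O) (b : Γ(X, f ⁻¹ᵁ O)),
      l O' hO' (X.presheaf.map (homOfLE (f.preimage_mono h)).op b) = N.presheaf.map (homOfLE h).op (l O hO b))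
    (hzero : ∀ (O : Y.Opens) (hO : O ≤ W) (b : Γ(X, f ⁻¹ᵁ V)),
      l O hO (X.presheaf.map (homOfLE (f.preimage_mono (hO.trans e))).op b) = 0)
    (b : Γ(X, f ⁻¹ᵁ W)) : l W le_rfl b = 0 := by
  refine H25FinCov.ext_locally N fun y hy => ?_
  obtain ⟨h, g, hhg, hyh⟩ := exists_basicOpen_le_affine_inter hW hV y ⟨hy, e hy⟩
  refine ⟨Y.basicOpen g, hhg ▸ Y.basicOpen_le h, hhg ▸ hyh, ?_⟩
  have hle : Y.basicOpen g ≤ W := hhg ▸ Y.basicOpen_le h
  rw [map_zero, ← hnat W (Y.basicOpen g) le_rfl hle hle]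
  haveI := (RelSpec.QCAlg.directImage f).isQC V hV g
  letI : Algebra Γ(X, f ⁻¹ᵁ V) Γ(X, f ⁻¹ᵁ Y.basicOpen g) :=
    (X.presheaf.map (homOfLE (f.preimage_mono (Y.basicOpen_le g))).op).hom.toAlgebra
  haveI : IsLocalization.Away (f.app V g) Γ(X, f ⁻¹ᵁ Y.basicOpen g) :=
    (RelSpec.QCAlg.directImage f).isQC V hV g
  obtain ⟨n, b₀, hb₀⟩ := IsLocalization.Away.surj (f.app V g)
    (X.presheaf.map (homOfLE (f.preimage_mono hle)).op b)
  rw [RingHom.algebraMap_toAlgebra] at hb₀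
  have hu : IsUnit (Y.presheaf.map (homOfLE (Y.basicOpen_le g)).op g ^ n) :=
    (RingedSpace.isUnit_res_basicOpen Y.toRingedSpace g).pow n
  refine hu.smul_left_cancel.1 ?_
  rw [smul_zero, ← hlin, map_pow, mul_comm]
  have happ : X.presheaf.map (homOfLE (f.preimage_mono (Y.basicOpen_le g))).op (f.app V g) =
      f.app (Y.basicOpen g) (Y.presheaf.map (homOfLE (Y.basicOpen_le g)).op g) :=
    (congr($(f.naturality (homOfLE (Y.basicOpen_le g)).op) g)).symm
  rw [← happ, hb₀]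
  exact hzero (Y.basicOpen g) hle b₀

variable [IsIntegral X] [IsIntegral Y] [IsAffine S] [Subsingleton S] [QuasiSeparated q] [QuasiSeparated (f ≫ q)]
  [SmoothOfRelativeDimension 1 q] [SmoothOfRelativeDimension 1 (f ≫ q)] [IsLocallyNoetherian Y] [IsFinite f] [Flat f]
  {τ : (Scheme.Modules.pushforward f).obj (Omega.sheaf (f ≫ q)) ⟶ Omega.sheaf q}

omit [IsIntegral X] [IsIntegral Y] [Subsingleton S] [SmoothOfRelativeDimension 1 q]
  [SmoothOfRelativeDimension 1 (f ≫ q)] [IsLocallyNoetherian Y] [IsFinite f] [Flat f] in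
theorem existsUnique_of_isOmegaTrace (hτ : IsOmegaTrace τ) {E : X.Modules}
    (ψ : (Scheme.Modules.pushforward f).obj E ⟶ Omega.sheaf q) {V : Y.Opens} (hV : IsChart f q V)
    (s : Γ(E, f ⁻¹ᵁ V)) :
    ∃! η : Γ(Omega.sheaf (f ≫ q), f ⁻¹ᵁ V), ∀ b : Γ(X, f ⁻¹ᵁ V), pushApp τ V (b • η) = pushApp ψ V (b • s) := by
  obtain ⟨τV, hτV, heq⟩ := hτ V hV
  simp only [heq]
  exact hτV.perfect
    { toFun := fun b => pushApp ψ V (b • s)
      map_zero' := by rw [zero_smul, map_zero]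
      map_add' := fun b c => by rw [add_smul, map_add] }
    fun a b => by
      show pushApp ψ V ((f.app V a * b) • s) = a • pushApp ψ V (b • s)
      rw [mul_smul, pushApp_smul]

/-- The lift of a homomorphism on a chart. -/
noncomputable def liftOn (hτ : IsOmegaTrace τ) {E : X.Modules}
    (ψ : (Scheme.Modules.pushforward f).obj E ⟶ Omega.sheaf q) {V : Y.Opens} (hV : IsChart f q V)
    (s : Γ(E, f ⁻¹ᵁ V)) : Γ(Omega.sheaf (f ≫ q), f ⁻¹ᵁ V) :=
  (existsUnique_of_isOmegaTrace hτ ψ hV s).choose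

omit [IsIntegral X] [IsIntegral Y] [Subsingleton S] [SmoothOfRelativeDimension 1 q]
  [SmoothOfRelativeDimension 1 (f ≫ q)] [IsLocallyNoetherian Y] [IsFinite f] [Flat f] in
theorem liftOn_spec (hτ : IsOmegaTrace τ) {E : X.Modules}
    (ψ : (Scheme.Modules.pushforward f).obj E ⟶ Omega.sheaf q) {V : Y.Opens} (hV : IsChart f q V)
    (s : Γ(E, f ⁻¹ᵁ V)) (b : Γ(X, f ⁻¹ᵁ V)) : pushApp τ V (b • liftOn hτ ψ hV s) = pushApp ψ V (b • s) :=
  (existsUnique_of_isOmegaTrace hτ ψ hV s).choose_spec.1 b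

omit [IsIntegral X] [IsIntegral Y] [Subsingleton S] [SmoothOfRelativeDimension 1 q]
  [SmoothOfRelativeDimension 1 (f ≫ q)] [IsLocallyNoetherian Y] [IsFinite f] [Flat f] in
theorem eq_liftOn (hτ : IsOmegaTrace τ) {E : X.Modules}
    (ψ : (Scheme.Modules.pushforward f).obj E ⟶ Omega.sheaf q) {V : Y.Opens} (hV : IsChart f q V)
    {s : Γ(E, f ⁻¹ᵁ V)} {η : Γ(Omega.sheaf (f ≫ q), f ⁻¹ᵁ V)}
    (h : ∀ b : Γ(X, f ⁻¹ᵁ V), pushApp τ V (b • η) = pushApp ψ V (b • s)) : η = liftOn hτ ψ hV s :=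
  (existsUnique_of_isOmegaTrace hτ ψ hV s).choose_spec.2 η h

omit [IsIntegral X] [IsIntegral Y] [Subsingleton S] [SmoothOfRelativeDimension 1 q]
  [SmoothOfRelativeDimension 1 (f ≫ q)] [IsLocallyNoetherian Y] [Flat f] in
theorem liftOn_res (hτ : IsOmegaTrace τ) {E : X.Modules}
    (ψ : (Scheme.Modules.pushforward f).obj E ⟶ Omega.sheaf q) {V V' : Y.Opens} (hV : IsChart f q V)
    (hV' : IsChart f q V') (e : V' ≤ V) (s : Γ(E, f ⁻¹ᵁ V)) :
    liftOn hτ ψ hV' (E.presheaf.map (homOfLE (f.preimage_mono e)).op s) =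
      (Omega.sheaf (f ≫ q)).presheaf.map (homOfLE (f.preimage_mono e)).op (liftOn hτ ψ hV s) := by
  refine (eq_liftOn hτ ψ hV' fun b => sub_eq_zero.1 ?_).symm
  let rW := fun {O : Y.Opens} (hO : O ≤ V) =>
    (Omega.sheaf (f ≫ q)).presheaf.map (homOfLE (f.preimage_mono hO)).op (liftOn hτ ψ hV s)
  let rE := fun {O : Y.Opens} (hO : O ≤ V) => E.presheaf.map (homOfLE (f.preimage_mono hO)).op s
  let l : ∀ O : Y.Opens, O ≤ V' → Γ(X, f ⁻¹ᵁ O) →+ Γ(Omega.sheaf q, O) := fun O hO =>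
    { toFun := fun b => pushApp τ O (b • rW (hO.trans e)) - pushApp ψ O (b • rE (hO.trans e))
      map_zero' := by rw [zero_smul, zero_smul, map_zero, map_zero, sub_zero]
      map_add' := fun b c => by rw [add_smul, add_smul, map_add, map_add]; abel }
  exact eq_of_eq_res (Omega.sheaf q) hV.affine hV'.affine e l
    (fun O hO a b => by
      show pushApp τ O ((f.app O a * b) • _) - pushApp ψ O ((f.app O a * b) • _) = a • (_ - _)
      rw [mul_smul, mul_smul, smul_sub, pushApp_smul, pushApp_smul])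
    (fun O O' hO hO' h b => by
      show pushApp τ O' _ - pushApp ψ O' _ = (Omega.sheaf q).presheaf.map _ (_ - _)
      rw [map_sub, ← pushApp_res τ h, ← pushApp_res ψ h, Scheme.Modules.map_smul, Scheme.Modules.map_smul]
      simp only [rW, rE, H11Aff.DirImg.res_res _ _ _ (f.preimage_mono (hO'.trans e))])
    (fun O hO b => by
      show pushApp τ O _ - pushApp ψ O _ = 0
      have h1 := congrArg ((Omega.sheaf q).presheaf.map (homOfLE (hO.trans e)).op) (liftOn_spec hτ ψ hV s b)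
      rw [← pushApp_res τ, ← pushApp_res ψ, Scheme.Modules.map_smul, Scheme.Modules.map_smul] at h1
      exact sub_eq_zero.2 h1)
    b

theorem existsUnique_lift (hτ : IsOmegaTrace τ) {E : X.Modules} (hE : Coh.IsQCoh E)
    (ψ : (Scheme.Modules.pushforward f).obj E ⟶ Omega.sheaf q) :
    ∃! φ : E ⟶ Omega.sheaf (f ≫ q), (Scheme.Modules.pushforward f).map φ ≫ τ = ψ := by
  have hlin : ∀ (V : Y.Opens) (hV : IsChart f q V) (b : Γ(X, f ⁻¹ᵁ V)) (s : Γ(E, f ⁻¹ᵁ V)),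
      liftOn hτ ψ hV (b • s) = b • liftOn hτ ψ hV s := fun V hV b s => (eq_liftOn hτ ψ hV fun c => by
        rw [smul_smul, smul_smul, liftOn_spec]).symm
  have hadd : ∀ (V : Y.Opens) (hV : IsChart f q V) (s t : Γ(E, f ⁻¹ᵁ V)),
      liftOn hτ ψ hV (s + t) = liftOn hτ ψ hV s + liftOn hτ ψ hV t := fun V hV s t =>
    (eq_liftOn hτ ψ hV fun b => by rw [smul_add, smul_add, map_add, map_add, liftOn_spec, liftOn_spec]).symm
  obtain ⟨g, hg⟩ := H17.PrinOmega.exists_hom_of_basis ((Scheme.Modules.pushforward f).obj E)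
    ((Scheme.Modules.pushforward f).obj (Omega.sheaf (f ≫ q))) (IsChart f q) (exists_chart f q)
    (fun V hV =>
      { toFun := fun s => liftOn hτ ψ hV s
        map_add' := fun s t => hadd V hV s t
        map_smul' := fun a s => hlin V hV (f.app V a) s })
    (fun V V' hV hV' e s => liftOn_res hτ ψ hV hV' e s)
  have hg' : ∀ (V : Y.Opens) (hV : IsChart f q V) (s : Γ(E, f ⁻¹ᵁ V)), pushApp₂ g V s = liftOn hτ ψ hV s :=
    fun V hV s => hg V hV s
  have hB : ∀ (O : Y.Opens) (b : Γ(X, f ⁻¹ᵁ O)) (s : Γ(E, f ⁻¹ᵁ O)),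
      pushApp₂ g O (b • s) = b • pushApp₂ g O s := fun O b s => by
    refine H25FinCov.ext_locally ((Scheme.Modules.pushforward f).obj (Omega.sheaf (f ≫ q))) fun y hy => ?_
    obtain ⟨V, hV, hyV, hle⟩ := exists_chart f q O y hy
    refine ⟨V, hle, hyV, ?_⟩
    show (Omega.sheaf (f ≫ q)).presheaf.map (homOfLE (f.preimage_mono hle)).op _ =
      (Omega.sheaf (f ≫ q)).presheaf.map (homOfLE (f.preimage_mono hle)).op _
    rw [← pushApp₂_res g hle, Scheme.Modules.map_smul, Scheme.Modules.map_smul, hg' V hV, hlin, ← pushApp₂_res g hle,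
      hg' V hV]
  let gA : (AMod.dirImg f).obj E ⟶ (AMod.dirImg f).obj (Omega.sheaf (f ≫ q)) :=
    { val := PresheafOfModules.homMk g.mapPresheaf (fun O b s => hB O.unop b s) }
  obtain ⟨φ, hφ⟩ := (H11Aff.DirImg.map_bijective hE).2 gA
  have hφg : ∀ (O : Y.Opens) (s : Γ(E, f ⁻¹ᵁ O)), φ.app (f ⁻¹ᵁ O) s = pushApp₂ g O s := fun O s =>
    congr(((SheafOfModules.Hom.val $hφ).app (op O)).hom s)
  refine ⟨φ, Scheme.Modules.hom_ext _ _ fun O => ?_, fun φ' hφ' => H11Aff.DirImg.hom_ext (f := f) hE fun V _ m => ?_⟩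
  · ext s
    show pushApp ((Scheme.Modules.pushforward f).map φ ≫ τ) O s = pushApp ψ O s
    refine H25FinCov.ext_locally _ fun y hy => ?_
    obtain ⟨V, hV, hyV, hle⟩ := exists_chart f q O y hy
    refine ⟨V, hle, hyV, ?_⟩
    rw [← pushApp_res _ hle, ← pushApp_res _ hle, pushApp_map, hφg, hg' V hV]
    have h := liftOn_spec hτ ψ hV (E.presheaf.map (homOfLE (f.preimage_mono hle)).op (show Γ(E, f ⁻¹ᵁ O) from s)) 1
    rwa [one_smul, one_smul] at h
  · refine H25FinCov.ext_locally _ fun x hx => ?_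
    obtain ⟨W, hW, hxW, hle⟩ := exists_chart f q V (f.base x) hx
    refine ⟨f ⁻¹ᵁ W, f.preimage_mono hle, hxW, ?_⟩
    rw [← H17.PrinOmega.app_res, ← H17.PrinOmega.app_res]
    refine (eq_liftOn hτ ψ hW fun b => ?_).trans ((hφg W _).trans (hg' W hW _)).symm
    rw [← φ'.app_smul b, ← hφ', pushApp_map]

end Groth.Agent.H29CurveDual
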