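import Groth.Agent.H29CurveDual.EmbeddingDeg
import Groth.Prelude.Def_LinSer

/-!
# Pencils of degree two and the canonical map
-/

set_option autoImplicit false
set_option linter.style.haveILetI false

universe u

open CategoryTheory CategoryTheory.Limits AlgebraicGeometry TopologicalSpace Opposite
open Groth.Agent.H29RR

namespace Groth.Agent.H29CurveDual

attribute [local instance 10000] H10Coh.hasSheafifyAb H10Coh.hasWeakSheafifyAb H10Coh.hasExtAb H10Coh.enoughInjAb
attribute [local instance] Curv2.resAlgebra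

section formal

variable {k : Type u} [Field k] {X : Scheme.{u}} [X.Over (Spec (CommRingCat.of k))]

theorem linIndep_sec {L : X.Modules} {n : ℕ} (v : Fin n → Coh.HH X L 0) (hv : LinearIndependent k v) :
    LinSer.LinIndep k X L (fun i => sec L (v i)) := by
  intro c hc
  have h : sec L (∑ i, c i • v i) = 0 := by
    rw [map_sum]
    exact (Finset.sum_congr rfl fun i _ => sec_smul L (c i) (v i)).trans hc
  exact funext fun i => Fintype.linearIndependent_iff.1 hv c ((sec L).injective (h.trans (map_zero _).symm)) i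

theorem linearIndependent_of_linIndep {L : X.Modules} {n : ℕ} (s : Fin n → LinSer.Sect X L)
    (hs : LinSer.LinIndep k X L s) : LinearIndependent k fun i => (sec L).symm (s i) := by
  refine Fintype.linearIndependent_iff.2 fun c hc i => congrFun (hs c ?_) i
  have h : ∑ i, sec L (c i • (sec L).symm (s i)) = 0 := by rw [← map_sum, hc, map_zero]
  refine Eq.trans (Finset.sum_congr rfl fun i _ => ?_) h
  rw [sec_smul, AddEquiv.apply_symm_apply]
  rfl

end formal

variable {k : Type u} [Field k] [IsAlgClosed k] {X : Scheme.{u}} [X.Over (Spec (CommRingCat.of k))] [IsIntegral X]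
  [IsProper (X ↘ Spec (CommRingCat.of k))] [Smooth (X ↘ Spec (CommRingCat.of k))]

local notation "Ω" => Omega.sheaf (X ↘ Spec (CommRingCat.of k))

omit [Smooth (X ↘ Spec (CommRingCat.of k))] [IsAlgClosed k] in
theorem two_le_h0_of_linSer {M : X.Modules} {d r : ℕ} {s : Fin (r + 1) → LinSer.Sect X M}
    (hM : LinSer.IsLinSer k X M d r s) : r + 1 ≤ Module.finrank k (Coh.HH X M 0) := by
  haveI := finite_HH (k := k) M hM.1 0
  simpa using (linearIndependent_of_linIndep s hM.2.2).fintype_card_le_finrank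

/-- A nonzero section of a module of positive degree vanishes somewhere, and descends. -/
theorem exists_zero_point (hdim : topologicalKrullDim X = 1) {L : X.Modules} (hL : PicF.IsInvertible L)
    (hs : Nontrivial (Coh.HH X L 0)) (hd : Curv2.deg k X L 1 ≠ 0) :
    ∃ Q : X, IsClosed ({Q} : Set X) ∧
      Nontrivial (Coh.HH X (CohB1.tensorMod (ClSub.idealMod (ptIdeal Q)) L) 0) := by
  haveI := isNoetherian_of_proper (k := k) (X := X)
  obtain ⟨g, hg⟩ := exists_global_ne_zero L hs
  obtain ⟨x, hx⟩ : ∃ x, x ∉ H11Ample.gen L g := by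
    obtain ⟨hm, hη⟩ := mono_homOfGlobal hL hg
    haveI := hm
    let φ := H11Tilde.homOfGlobal L g
    obtain ⟨hC, hfin, hcl, he⟩ := euler_sub_of_mono (k := k) hdim.le (H10Coh.isCoh_structureModule' X)
      (isCoh_of_isInvertible hL) φ hη
    by_contra hne
    push Not at hne
    have hz : IsZero (cokernel φ) := H16Derived.KFlat.Stalk.isZero_of_stalk fun x =>
      (H25Euler.notMem_support_iff _ _).1 (not_not.2 (H10Coh.subsingleton_stalk_cokernel φ x fun v => by
        obtain ⟨a, ha⟩ := ((H11Ample.mem_gen_iff hL g x).1 (hne x)).2 v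
        refine ⟨a • (Coh.structureModule X).presheaf.germ ⊤ x trivial (H11Ample.one ⊤), ?_⟩
        show H06Mod.stalkLin φ x _ = v
        rw [map_smul, germ_app]
        refine Eq.trans (congrArg (a • L.presheaf.germ ⊤ x trivial ·) ?_) ha
        exact (H11Tilde.homOfGlobal_app L g ⊤ _).trans ((one_smul _ _).trans
          (ConcreteCategory.congr_hom (L.presheaf.map_id (op ⊤)) _))))
    haveI : Epi φ := Preadditive.epi_of_cokernel_zero (hz.eq_of_tgt _ _)
    haveI : IsIso φ := isIso_of_mono_of_epi φ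
    exact hd ((deg_congr (k := k) (asIso φ).symm).trans deg_structureModule)
  obtain ⟨Q, hQg, hQ⟩ := IsClosed.exists_closed_singleton (H11Ample.gen L g).isOpen.isClosed_compl ⟨x, hx⟩
  refine ⟨Q, hQ, ?_⟩
  obtain ⟨-, hrng, hlift⟩ := ptIncl_stalks (k := k) hQ (finrank_residue_eq_one (k := k) hQ) hL
    (isInvertible_pt (k := k) hdim hQ)
  obtain ⟨w, hw⟩ := hlift ((sec L).symm g) (by
    rw [AddEquiv.apply_symm_apply, hrng]
    exact not_not.1 fun h => hQg ((mem_gen_iff_notMem hL g Q).2 h))
  refine nontrivial_of_ne w 0 fun h0 => hg ?_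
  rw [h0, map_zero] at hw
  exact (sec L).symm.injective (hw.symm.trans (map_zero _).symm)

/-- Without pencils of degree two the canonical module separates points and tangents. -/
theorem exists_closedImmersion_omega (hdim : topologicalKrullDim X = 1)
    (h : ¬ ∃ (M : X.Modules) (s : Fin 2 → LinSer.Sect X M), LinSer.IsLinSer k X M 2 1 s) :
    ∃ (n : ℕ) (r : X ⟶ CohB1.ProjSpace n k), IsClosedImmersion r ∧
      r ≫ CohB1.ProjSpace.toSpec n k = X ↘ Spec (CommRingCat.of k) ∧
      Nonempty ((Scheme.Modules.pullback r).obj (Twist.twistProjSpace n k 1) ≅ Ω) := by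
  have hΩ := isInvertible_omega_curve (k := k) hdim
  have h00 := finrank_h0_structure k X
  refine exists_closedImmersion_of_h0 hdim hΩ fun P Q hP hQ => h0_drop_of_h1 hdim hΩ hP hQ ?_
  have hM := H11Ample.isInvertible_tensor (isInvertible_pt (k := k) hdim hQ) hΩ
  have hT := H11Ample.isInvertible_tensor (isInvertible_pt (k := k) hdim hP) hM
  obtain ⟨N, hN, ⟨e⟩⟩ := exists_inverse_comm hT
  rw [finrank_h1_invertible hdim hT hN e, finrank_h1_omega hdim, h00]
  have hD := H11Ample.isInvertible_tensor hΩ hN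
  have hdT : Curv2.deg k X (CohB1.tensorMod (ClSub.idealMod (ptIdeal P))
      (CohB1.tensorMod (ClSub.idealMod (ptIdeal Q)) Ω)) 1 = 2 * (Curv2.genus k X : ℤ) - 4 := by
    rw [deg_ptIdeal_tensor hdim hP hM, deg_ptIdeal_tensor hdim hQ hΩ, deg_omega_of_h0 hdim h00]; ring
  have hdD : Curv2.deg k X (CohB1.tensorMod Ω N) 1 = 2 := by
    rw [deg_quot (k := k) hdim.le hT hΩ hN e, hdT, deg_omega_of_h0 hdim h00]; ring
  refine le_antisymm (not_lt.1 fun h2 => h ?_) ?_
  · haveI := finite_HH (k := k) _ hD 0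
    let β := Module.finBasis k (Coh.HH X (CohB1.tensorMod Ω N) 0)
    exact ⟨_, _, hD, by rw [hdD]; rfl,
      linIndep_sec _ (β.linearIndependent.comp (Fin.castLE h2) (Fin.castLE_injective _))⟩
  · obtain ⟨-, h1, -⟩ := twist_point (k := k) hP hM (isCoh_of_isInvertible (isInvertible_pt (k := k) hdim hP))
    obtain ⟨-, h2, -⟩ := twist_point (k := k) hQ hΩ (isCoh_of_isInvertible (isInvertible_pt (k := k) hdim hQ))
    rw [finrank_residue_eq_one (k := k) hP] at h1
    rw [finrank_residue_eq_one (k := k) hQ, finrank_h1_structure hdim] at h2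
    have hrr := riemann_roch (k := k) hdim.le (CohB1.tensorMod (ClSub.idealMod (ptIdeal P))
      (CohB1.tensorMod (ClSub.idealMod (ptIdeal Q)) Ω))
    rw [hdT, h00, finrank_h1_invertible hdim hT hN e] at hrr
    omega

/-- A pencil of degree two gives two points not imposing independent conditions on the canonical module. -/
theorem not_closedImmersion_omega (hdim : topologicalKrullDim X = 1) {M : X.Modules} {s : Fin 2 → LinSer.Sect X M}
    (hM : LinSer.IsLinSer k X M 2 1 s) {n : ℕ} {r : X ⟶ CohB1.ProjSpace n k} (hcl : IsClosedImmersion r)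
    (hr : r ≫ CohB1.ProjSpace.toSpec n k = X ↘ Spec (CommRingCat.of k))
    (τ : (Scheme.Modules.pullback r).obj (Twist.twistProjSpace n k 1) ≅ Ω) : False := by
  have hΩ := isInvertible_omega_curve (k := k) hdim
  have h00 := finrank_h0_structure k X
  have h2 := two_le_h0_of_linSer hM
  obtain ⟨hMi, hdM, -⟩ := hM
  obtain ⟨P, -, hP, hIP⟩ := exists_point (k := k) hdim ⊤ trivial
  obtain ⟨-, h1, -⟩ := twist_point (k := k) hP hMi (isCoh_of_isInvertible hIP)
  rw [finrank_residue_eq_one (k := k) hP] at h1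
  have hL1 := H11Ample.isInvertible_tensor hIP hMi
  have hd1 := deg_ptIdeal_tensor (k := k) hdim hP hMi
  obtain ⟨Q, hQ, hnt⟩ := exists_zero_point hdim hL1 (Module.nontrivial_of_finrank_pos (R := k) (show 0 < _ by omega)) (by rw [hd1, hdM]; decide)
  have hIQ := isInvertible_pt (k := k) hdim hQ
  obtain ⟨i0⟩ := (bounds_of_section (k := k) hdim.le (H11Ample.isInvertible_tensor hIQ hL1) hnt).2.2.2
    (by rw [deg_ptIdeal_tensor hdim hQ hL1]; omega)
  obtain ⟨N, hN, ⟨e⟩⟩ := exists_inverse_comm hΩ
  let j : CohB1.tensorMod Ω (CohB1.tensorMod M N) ≅ M :=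
    PicGrp.tensorModIso (Iso.refl Ω) (H10Coh.Tw.commIso M N) ≪≫ (H10Coh.Tw.assoc Ω N M).symm ≪≫
      PicGrp.tensorModIso e (Iso.refl M) ≪≫ H10Coh.Tw.leftUnitIso M
  let A := ClSub.idealMod (ptIdeal Q)
  let B := ClSub.idealMod (ptIdeal P)
  have ei : CohB1.tensorMod (CohB1.tensorMod A (CohB1.tensorMod B Ω)) (CohB1.tensorMod M N) ≅
      Coh.structureModule X :=
    PicGrp.tensorModIso (H10Coh.Tw.assoc A B Ω).symm (Iso.refl _) ≪≫ H10Coh.Tw.assoc (CohB1.tensorMod A B) Ω _ ≪≫
      PicGrp.tensorModIso (Iso.refl _) j ≪≫ H10Coh.Tw.assoc A B M ≪≫ i0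
  have hB := H11Ample.isInvertible_tensor hIP hΩ
  have hT := H11Ample.isInvertible_tensor hIQ hB
  have hd := h0_drop_of_closedImmersion hdim hΩ hcl hr τ hQ hP
  have hrr := riemann_roch (k := k) hdim.le (CohB1.tensorMod A (CohB1.tensorMod B Ω))
  rw [h00, finrank_h1_invertible hdim hT (H11Ample.isInvertible_tensor hMi hN) ei, finrank_h0_congr j 0,
    deg_ptIdeal_tensor hdim hQ hB, deg_ptIdeal_tensor hdim hP hΩ, deg_omega_of_h0 hdim h00] at hrr
  rw [finrank_h1_structure hdim] at hd
  simp only [A, B] at hrr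
  omega

end Groth.Agent.H29CurveDual
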