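import Groth.Agent.H29CurveDual.OmegaGen
import Groth.Agent.H29RR.Slope
import Groth.Agent.H29RR.SubBundle
import Groth.Agent.H29RR.Twist
import Groth.Agent.H29RR.FiniteGen
import Groth.Agent.H10Inj.GGOn

/-!
# Semistable bundles of large slope
-/

set_option autoImplicit false
set_option linter.style.haveILetI false

universe u

open CategoryTheory CategoryTheory.Limits AlgebraicGeometry TopologicalSpace Opposite
open Groth.Agent.H29RR

namespace Groth.Agent.H29CurveDual

attribute [local instance 10000] H10Coh.hasSheafifyAb H10Coh.hasWeakSheafifyAb H10Coh.hasExtAb H10Coh.enoughInjAb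
attribute [local instance] homModule Curv2.resAlgebra

variable {k : Type u} [Field k] {X : Scheme.{u}} [X.Over (Spec (CommRingCat.of k))] [IsIntegral X]
  [IsProper (X ↘ Spec (CommRingCat.of k))] [Smooth (X ↘ Spec (CommRingCat.of k))]

local notation "Ω" => Omega.sheaf (X ↘ Spec (CommRingCat.of k))

/-- The image of a nonzero map to the differentials bounds the degree. -/
theorem exists_kernel_data (hdim : topologicalKrullDim X = 1) {n : ℕ} {E : X.Modules}
    (hE : FlatMod.IsFinLocFreeOfRank n E) {f : E ⟶ Ω} (hf : f ≠ 0) :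
    ∃ a : ℕ, a + 1 = n ∧ FlatMod.IsFinLocFreeOfRank a (kernel f) ∧ Mono (kernel.ι f) ∧
      Curv2.deg k X E n ≤ Curv2.deg k X (kernel f) a + Curv2.deg k X Ω 1 := by
  haveI := isNoetherian_of_proper (k := k) (X := X)
  have hΩ := isInvertible_omega_curve (k := k) hdim
  obtain ⟨a, r, hK, hG, har, hr1, hr0, -, hd⟩ :=
    exists_image_data (k := k) hdim.le hE (rank_one_of_isInvertible hΩ) f
  obtain rfl : r = 1 := by have := hr0 hf; omega
  refine ⟨a, har, hK, inferInstance, ?_⟩
  have hne : Abelian.image.ι f ≠ 0 := fun h => hf (by rw [← Abelian.image.fac f, h, comp_zero])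
  have := (deg_le_of_ne_zero (k := k) hdim.le (H22Alg.PB.isInvertible_of_rank_one hG) hΩ hne).1
  omega

theorem subsingleton_h1_of_hom_eq_zero (hdim : topologicalKrullDim X = 1) {E : X.Modules} (hE : Coh.IsCoh E)
    (h : ∀ f : E ⟶ Ω, f = 0) : Subsingleton (Coh.HH X E 1) := by
  haveI : Subsingleton (E ⟶ Ω) := ⟨fun f g => by rw [h f, h g]⟩
  haveI := isNoetherian_of_proper (k := k) (X := X)
  haveI := H10Coh.finite_HH_proper k X E hE 1
  refine (Module.finrank_zero_iff (R := k)).1 ?_
  rw [finrank_h1_eq hdim hE]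
  exact Module.finrank_zero_of_subsingleton

theorem subsingleton_h1_of_semistable (hdim : topologicalKrullDim X = 1) {n : ℕ} {E : X.Modules}
    (hE : FlatMod.IsFinLocFreeOfRank n E) (hss : SemistableBundle k X E n)
    (hd : (n : ℤ) * Curv2.deg k X Ω 1 < Curv2.deg k X E n) : Subsingleton (Coh.HH X E 1) := by
  haveI := isNoetherian_of_proper (k := k) (X := X)
  refine subsingleton_h1_of_hom_eq_zero (k := k) hdim (isCoh_of_rank hE) fun f => by_contra fun hf => ?_
  obtain ⟨a, ha, hK, hm, hle⟩ := exists_kernel_data (k := k) hdim hE hf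
  rcases Nat.eq_zero_or_pos a with h0 | h0
  · subst h0
    rw [deg_eq_zero_of_rank_zero hK] at hle
    subst ha
    simp only [Nat.cast_one, zero_add, one_mul] at hd hle
    omega
  · have h1 := hss _ a (kernel.ι f) hm h0 hK
    have hn : (n : ℤ) = (a : ℤ) + 1 := by omega
    have h2 : (Curv2.deg k X E n - Curv2.deg k X Ω 1) * (n : ℤ) ≤ Curv2.deg k X (kernel f) a * (n : ℤ) :=
      mul_le_mul_of_nonneg_right (by omega) (Int.natCast_nonneg n)
    rw [hn] at h1 h2 hd
    nlinarith

theorem subsingleton_h1_of_stable (hdim : topologicalKrullDim X = 1) {n : ℕ} (hn2 : 2 ≤ n) {E : X.Modules}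
    (hE : FlatMod.IsFinLocFreeOfRank n E) (hst : StableBundle k X E n)
    (hd : (n : ℤ) * Curv2.deg k X Ω 1 ≤ Curv2.deg k X E n) : Subsingleton (Coh.HH X E 1) := by
  haveI := isNoetherian_of_proper (k := k) (X := X)
  refine subsingleton_h1_of_hom_eq_zero (k := k) hdim (isCoh_of_rank hE) fun f => by_contra fun hf => ?_
  obtain ⟨a, ha, hK, hm, hle⟩ := exists_kernel_data (k := k) hdim hE hf
  have h1 := hst _ a (kernel.ι f) hm (by omega) (by omega) hK
  have hn : (n : ℤ) = (a : ℤ) + 1 := by omega
  have h2 : (Curv2.deg k X E n - Curv2.deg k X Ω 1) * (n : ℤ) ≤ Curv2.deg k X (kernel f) a * (n : ℤ) :=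
    mul_le_mul_of_nonneg_right (by omega) (Int.natCast_nonneg n)
  rw [hn] at h1 h2 hd
  nlinarith

omit [IsIntegral X] [Smooth (X ↘ Spec (CommRingCat.of k))] in
include k in
/-- Spanning at closed points gives global generation. -/
theorem isGloballyGenerated_of_closed_spans {E : X.Modules} (hE : Coh.IsCoh E)
    (h : ∀ x : X, IsClosed ({x} : Set X) → SpansAt E x) : Curv2.IsGloballyGenerated E := by
  haveI := isNoetherian_of_proper (k := k) (X := X)
  haveI := H10Coh.finite_HH_proper k X E hE 0
  let β := Module.finBasis k (Coh.HH X E 0)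
  let φ : FlatMod.freeMod X (Module.finrank k (Coh.HH X E 0)) ⟶ E :=
    Sigma.desc fun j => H11Tilde.homOfGlobal E (sec E (β j))
  have hO : Coh.IsCoh (FlatMod.freeMod X (Module.finrank k (Coh.HH X E 0))) :=
    H16Derived.KFlat.Stalk.isCoh_of_isFinLocFree (H22Alg.KModel.finLocFree_free _)
  have hC := H10Coh.isCoh_cokernel φ hO.1 hE
  have hgen : ∀ (j : Fin (Module.finrank k (Coh.HH X E 0))) (y : X), H06Mod.stalkLin φ y
      ((DerSch.stalkFunctor X y).map (Sigma.ι (fun _ => Coh.structureModule X) j) |>.hom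
        ((Coh.structureModule X).presheaf.germ ⊤ y trivial (H11Ample.one ⊤))) =
      E.presheaf.germ ⊤ y trivial (sec E (β j)) := by
    intro j y
    refine (stalkLin_comp _ _ y _).symm.trans ?_
    rw [Sigma.ι_desc, germ_app]
    congr 1
    exact (H11Tilde.homOfGlobal_app E _ ⊤ _).trans ((one_smul _ _).trans
      (ConcreteCategory.congr_hom (E.presheaf.map_id (op ⊤)) _))
  have hsurj : ∀ y : X, y ∉ CohB1.support (cokernel φ) := by
    intro y
    by_contra hy
    obtain ⟨z, hz, hzc⟩ := IsClosed.exists_closed_singleton (H10Coh.isClosed_support _ hC.2) ⟨y, hy⟩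
    refine (not_not.2 (H10Coh.subsingleton_stalk_cokernel φ z ?_)) hz
    show Function.Surjective (H06Mod.stalkLin φ z)
    rw [← LinearMap.range_eq_top, eq_top_iff, ← h z hzc, Submodule.span_le]
    rintro _ ⟨g, rfl⟩
    have hg : g = sec E (∑ j, β.repr ((sec E).symm g) j • β j) := by rw [β.sum_repr, AddEquiv.apply_symm_apply]
    show E.presheaf.germ ⊤ z trivial g ∈ LinearMap.range (H06Mod.stalkLin φ z)
    rw [hg, map_sum, map_sum]
    refine Submodule.sum_mem _ fun j _ => ?_
    rw [sec_smul, H17.AssPts.germ_smul']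
    exact Submodule.smul_mem _ _ ⟨_, hgen j z⟩
  refine H10Inj.GGOn.isGloballyGenerated_of_spansAt E fun y => ?_
  rw [SpansAt, eq_top_iff, ← LinearMap.range_eq_top.2 (surjective_stalk_of_notMem_support φ (hsurj y)),
    LinearMap.range_eq_map, ← spansStalks_of_epi (𝟙 _) y, Submodule.map_span]
  refine Submodule.span_mono ?_
  rintro _ ⟨_, ⟨j, rfl⟩, rfl⟩
  refine ⟨sec E (β j), ?_⟩
  simp only [Category.comp_id]
  rw [← hgen j y]
  exact congrArg (H06Mod.stalkLin φ y) (germ_app (Sigma.ι (fun _ => Coh.structureModule X) j) y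
    (H11Ample.one ⊤))

theorem isGloballyGenerated_of_h1 [IsAlgClosed k] (hdim : topologicalKrullDim X = 1) {n : ℕ} {E : X.Modules}
    (hE : FlatMod.IsFinLocFreeOfRank n E) (hv : Subsingleton (Coh.HH X E 1))
    (hvp : ∀ M : X.Modules, PicF.IsInvertible M → Curv2.deg k X M 1 = -1 →
      Subsingleton (Coh.HH X (CohB1.tensorMod E M) 1)) : Curv2.IsGloballyGenerated E := by
  haveI := isNoetherian_of_proper (k := k) (X := X)
  refine isGloballyGenerated_of_closed_spans (k := k) (isCoh_of_rank hE) fun x hx => ?_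
  have h1 := finrank_residue_eq_one (k := k) hx
  refine (h0_twist_point_eq_iff (k := k) hx h1 hE).1 ?_
  have hI := isInvertible_pt (k := k) hdim hx
  have hdI : Curv2.deg k X (ClSub.idealMod (ptIdeal x)) 1 = -1 := by
    obtain ⟨-, -, h3⟩ := twist_point (k := k) hx (H11Ample.isInvertible_structureModule (X := X))
      (isCoh_of_isInvertible hI)
    rw [H25Euler.euler_congr (k := k) (SecTwist.unitorR _), h1] at h3
    rw [deg_def]
    push_cast at h3
    omega
  haveI := hvp _ hI hdI
  have e := H10Coh.Tw.commIso (ClSub.idealMod (ptIdeal x)) E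
  have hd := deg_tensor_bundle (k := k) hdim.le hE hI
  rw [hdI, Curv2.deg, Curv2.deg, euler_eq_sub (k := k) hdim.le (CohB1.tensorMod E _),
    euler_eq_sub (k := k) hdim.le E, Module.finrank_zero_of_subsingleton (R := k) (M := Coh.HH X (CohB1.tensorMod E _) 1),
    Module.finrank_zero_of_subsingleton (R := k) (M := Coh.HH X E 1)] at hd
  rw [finrank_h0_congr (k := k) e 0]
  omega

omit [Smooth (X ↘ Spec (CommRingCat.of k))] in
/-- Tensoring with an invertible module preserves stability. -/
theorem stable_tensor (hdim : topologicalKrullDim X ≤ 1) {E M : X.Modules} {n : ℕ}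
    (hE : FlatMod.IsFinLocFreeOfRank n E) (hss : StableBundle k X E n) (hM : PicF.IsInvertible M) :
    StableBundle k X (CohB1.tensorMod E M) n := by
  haveI := isNoetherian_of_proper (k := k) (X := X)
  intro G s i hi hs hsn hG
  haveI := hi
  obtain ⟨N, hN, ⟨e⟩⟩ := H11Sym.exists_inverse hM
  let T := (DCoh.tensorBi (X := X)).flip.obj N
  haveI : Mono (T.map i) := by
    have hS : (ShortComplex.mk i (cokernel.π i) (cokernel.condition i)).ShortExact :=
      { exact := ShortComplex.exact_cokernel _ }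
    exact (H16Derived.KFlat.Stalk.isFlatObj_of_isFlat
      (H16Derived.KFlat.Stalk.isFlat_of_isFinLocFree (H28Pinch.isFinLocFree_of_isInvertible hN)) _ hS).mono_f
  let b : CohB1.tensorMod (CohB1.tensorMod E M) N ≅ E :=
    H10Coh.Tw.assoc E M N ≪≫ PicGrp.tensorModIso (Iso.refl E) (H10Coh.Tw.commIso M N ≪≫ e) ≪≫
      H10Coh.Tw.rightUnitIso E
  have h := hss (CohB1.tensorMod G N) s (T.map i ≫ b.hom) (mono_comp (T.map i) b.hom) hs hsn (rank_tensor hG hN)
  have hd := deg_tensor (k := k) hdim hN hM
  rw [deg_congr (k := k) e, deg_structureModule] at hd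
  rw [deg_tensor_bundle (k := k) hdim hG hN] at h
  rw [deg_tensor_bundle (k := k) hdim hE hM]
  have hN' : Curv2.deg k X N 1 = -Curv2.deg k X M 1 := by omega
  rw [hN'] at h
  nlinarith

end Groth.Agent.H29CurveDual
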