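import Groth.Agent.H05EGA4.DiscFitt
import Groth.Agent.H29Fitt.Rank
import Mathlib.RingTheory.DedekindDomain.Factorization
import Mathlib.RingTheory.Kaehler.Basic

/-!
# The trace of differentials for a finite free extension of Dedekind domains
-/

set_option autoImplicit false

universe u

namespace Groth.Agent.H29CurveDual

section cancel

variable {B : Type u} [CommRing B] [IsDomain B]
variable {M : Type u} [AddCommGroup M] [Module B M] [Module.IsTorsionFree B M]

/-- The ideal of numerators of `M` over `d` with respect to `m`. -/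
def numIdeal (m : M) (d : B) : Ideal B :=
  Submodule.comap (LinearMap.toSpanSingleton B M m) (LinearMap.range (LinearMap.lsmul B M d))

theorem mem_numIdeal {m : M} {d c : B} : c ∈ numIdeal m d ↔ ∃ x, d • x = c • m := Iff.rfl

theorem self_mem_numIdeal (m : M) (d : B) : d ∈ numIdeal m d := ⟨m, rfl⟩

theorem smul_left_cancel_iff' {m : M} (hm : m ≠ 0) {a b : B} : a • m = b • m ↔ a = b :=
  ⟨fun h => smul_left_injective B hm h, fun h => h ▸ rfl⟩

theorem smul_mem_span_iff {m : M} (hm : m ≠ 0) {d : B} (hd : d ≠ 0) {b c : B} {x : M}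
    (hx : d • x = c • m) : b • x ∈ Submodule.span B {m} ↔ b * c ∈ Ideal.span {d} := by
  rw [Submodule.mem_span_singleton, Ideal.mem_span_singleton']
  refine exists_congr fun e => ?_
  constructor
  · intro h
    refine (smul_left_cancel_iff' hm).1 ?_
    rw [mul_smul, mul_smul, ← hx, smul_comm b d, ← h, smul_comm]
  · intro h
    refine smul_right_injective M hd ?_
    change d • e • m = d • b • x
    rw [smul_comm d b, hx, smul_smul, smul_smul, mul_comm, h]

theorem forall_smul_mem_iff {m : M} (hm : m ≠ 0) {d : B} (hd : d ≠ 0)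
    (hdm : ∀ x : M, d • x ∈ Submodule.span B {m}) {b : B} :
    (∀ x : M, b • x ∈ Submodule.span B {m}) ↔ b ∈ (Ideal.span {d}).colon (numIdeal m d : Set B) := by
  rw [Submodule.mem_colon]
  refine ⟨fun h c hc => ?_, fun h x => ?_⟩
  · obtain ⟨x, hx⟩ := mem_numIdeal.1 hc
    exact (smul_mem_span_iff hm hd hx).1 (h x)
  · obtain ⟨c, hc⟩ := Submodule.mem_span_singleton.1 (hdm x)
    exact (smul_mem_span_iff hm hd hc.symm).2 (h c ⟨x, hc.symm⟩)

theorem colon_numIdeal_mul [IsDedekindDomain B] (m : M) (d : B) (_hd : d ≠ 0) :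
    (Ideal.span {d}).colon (numIdeal m d : Set B) * numIdeal m d = Ideal.span {d} := by
  obtain ⟨Q, hQ⟩ := Ideal.dvd_iff_le.2
    ((Ideal.span_singleton_le_iff_mem (numIdeal m d)).2 (self_mem_numIdeal m d))
  refine le_antisymm (Ideal.mul_le.2 fun b hb c hc => Submodule.mem_colon.1 hb c hc) ?_
  conv_lhs => rw [hQ, mul_comm]
  refine Ideal.mul_mono_left fun q hq => Submodule.mem_colon.2 fun c hc => ?_
  rw [hQ, smul_eq_mul, mul_comm q c]
  exact Ideal.mul_mem_mul hc hq

variable {N : Type u} [AddCommGroup N] [Module B N] [Module.IsTorsionFree B N]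

/-- Rank one lattices with the same conductor are isomorphic, matching the marked elements. -/
theorem exists_equiv_of_colon_eq [IsDedekindDomain B] {m : M} {n : N} (hm : m ≠ 0) (hn : n ≠ 0)
    {d : B} (hd : d ≠ 0) (hdm : ∀ x : M, d • x ∈ Submodule.span B {m})
    (hdn : ∀ x : N, d • x ∈ Submodule.span B {n})
    (h : ∀ b : B, (∀ x : M, b • x ∈ Submodule.span B {m}) ↔ (∀ x : N, b • x ∈ Submodule.span B {n})) :
    ∃ e : M ≃ₗ[B] N, e m = n := by
  have hc : (Ideal.span {d}).colon (numIdeal m d : Set B) = (Ideal.span {d}).colon (numIdeal n d : Set B) :=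
    Ideal.ext fun b => ((forall_smul_mem_iff hm hd hdm).symm.trans (h b)).trans (forall_smul_mem_iff hn hd hdn)
  have hne : (Ideal.span {d}).colon (numIdeal n d : Set B) ≠ 0 := fun h0 => by
    have := colon_numIdeal_mul n d hd
    rw [h0, zero_mul] at this
    exact hd (Ideal.span_singleton_eq_bot.1 this.symm)
  have hP : numIdeal m d = numIdeal n d := by
    refine mul_left_cancel₀ hne ?_
    rw [colon_numIdeal_mul n d hd, ← hc, colon_numIdeal_mul m d hd]
  choose c hc' using fun x : M => Submodule.mem_span_singleton.1 (hdm x)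
  choose y hy using fun x : M => mem_numIdeal.1
    (show c x ∈ numIdeal n d from hP ▸ mem_numIdeal.2 ⟨x, (hc' x).symm⟩)
  have hcadd : ∀ x z, c (x + z) = c x + c z := fun x z =>
    (smul_left_cancel_iff' hm).1 (by rw [hc', smul_add, add_smul, hc', hc'])
  have hcsmul : ∀ (b : B) x, c (b • x) = b * c x := fun b x =>
    (smul_left_cancel_iff' hm).1 (by rw [hc', mul_smul, hc', smul_comm])
  have hinj : Function.Injective fun z : N => d • z := smul_right_injective N hd
  let e : M →ₗ[B] N :=
    { toFun := y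
      map_add' := fun x z => hinj (by simp only [smul_add, hy, hcadd, add_smul])
      map_smul' := fun b x => hinj (by simp only [RingHom.id_apply, hy, hcsmul, mul_smul, smul_comm d b]) }
  have he : e m = n := hinj (show d • y m = d • n by
    rw [hy, show c m = d from (smul_left_cancel_iff' hm).1 (hc' m)])
  refine ⟨LinearEquiv.ofBijective e ⟨?_, ?_⟩, he⟩
  · intro x z hxz
    refine smul_right_injective M hd ?_
    change d • x = d • z
    rw [← hc', ← hc', show c x = c z from (smul_left_cancel_iff' hn).1 (by rw [← hy, ← hy]; exact congrArg _ hxz)]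
  · intro z
    obtain ⟨b, hb⟩ := Submodule.mem_span_singleton.1 (hdn z)
    obtain ⟨x, hx⟩ := mem_numIdeal.1 (show b ∈ numIdeal m d from hP.symm ▸ mem_numIdeal.2 ⟨z, hb.symm⟩)
    refine ⟨x, hinj ?_⟩
    change d • y x = d • z
    rw [hy, ← hb, show c x = b from (smul_left_cancel_iff' hm).1 ((hc' x).trans hx)]

/-- The Fitting ideal of `M / B m` is its annihilator. -/
theorem fitt_quotient_span [IsDedekindDomain B] {m : M} (hm : m ≠ 0) {d : B} (hd : d ≠ 0)
    (hdm : ∀ x : M, d • x ∈ Submodule.span B {m}) (b : B) :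
    b ∈ Fitt.ideal B (M ⧸ Submodule.span B {m}) 0 ↔ ∀ x : M, b • x ∈ Submodule.span B {m} := by
  obtain ⟨a, ha⟩ := IsDedekindDomain.exists_sup_span_eq
    ((Ideal.span_singleton_le_iff_mem (numIdeal m d)).2 (self_mem_numIdeal m d))
    (fun h => hd (Ideal.span_singleton_eq_bot.1 h))
  obtain ⟨x₀, hx₀⟩ := mem_numIdeal.1 (show a ∈ numIdeal m d from
    ha ▸ Ideal.mem_sup_right (Ideal.mem_span_singleton_self a))
  let g : B →ₗ[B] M ⧸ Submodule.span B {m} :=
    LinearMap.toSpanSingleton B _ (Submodule.Quotient.mk x₀)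
  have hg : Function.Surjective g := fun q => by
    obtain ⟨x, rfl⟩ := Submodule.Quotient.mk_surjective _ q
    obtain ⟨c, hc⟩ := Submodule.mem_span_singleton.1 (hdm x)
    have hcP : c ∈ numIdeal m d := ⟨x, hc.symm⟩
    rw [← ha, Submodule.mem_sup] at hcP
    obtain ⟨p, hp, q, hq, hpq⟩ := hcP
    obtain ⟨p', rfl⟩ := Ideal.mem_span_singleton'.1 hp
    obtain ⟨q', rfl⟩ := Ideal.mem_span_singleton'.1 hq
    refine ⟨q', ?_⟩
    simp only [g, LinearMap.toSpanSingleton_apply]
    rw [← Submodule.Quotient.mk_smul, Submodule.Quotient.eq, Submodule.mem_span_singleton]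
    refine ⟨-p', smul_right_injective M hd ?_⟩
    change d • -p' • m = d • (q' • x₀ - x)
    rw [smul_sub, smul_comm d q', hx₀, ← hc, ← hpq]
    module
  let e : (B ⧸ LinearMap.ker g) ≃ₗ[B] M ⧸ Submodule.span B {m} :=
    LinearMap.quotKerEquivOfSurjective g hg
  rw [← Groth.Agent.H05EGA4.DiscFitt.fitt_congr e, Groth.Agent.H29Fitt.ideal_quotient_zero,
    LinearMap.mem_ker]
  constructor
  · intro h x
    obtain ⟨q, hq⟩ := hg (Submodule.Quotient.mk x)
    have h2 : (Submodule.Quotient.mk (b • x) : M ⧸ Submodule.span B {m}) = 0 := by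
      rw [Submodule.Quotient.mk_smul, ← hq, ← map_smul, smul_eq_mul, mul_comm, ← smul_eq_mul, map_smul, h,
        smul_zero]
    exact (Submodule.Quotient.mk_eq_zero _).1 h2
  · intro h
    exact (Submodule.Quotient.mk_eq_zero _).2 (h x₀)

end cancel

section trace

open KaehlerDifferential

variable {R A B : Type u} [CommRing R] [CommRing A] [CommRing B] [Algebra R A] [Algebra R B] [Algebra A B]
  [IsScalarTower R A B] [IsDomain A] [IsDedekindDomain B] [Module.Finite A B] [Module.Free A B]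
  [Module.IsTorsionFree B Ω[B⁄R]] [Module.IsTorsionFree A B]

omit [IsDomain A] [IsDedekindDomain B] [Module.Finite A B] [Module.Free A B] [Module.IsTorsionFree B Ω[B⁄R]]
  [Module.IsTorsionFree A B] in
theorem ker_map_eq_span {w : Ω[A⁄R]} (hw : ∀ ν : Ω[A⁄R], ∃ a : A, a • w = ν) :
    LinearMap.ker (KaehlerDifferential.map R A B B) =
      Submodule.span B {KaehlerDifferential.map R R A B w} := by
  rw [← range_mapBaseChange R A B]
  refine le_antisymm ?_ ((Submodule.span_singleton_le_iff_mem _ _).2 ⟨1 ⊗ₜ w, by simp [mapBaseChange_tmul]⟩)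
  rintro _ ⟨t, rfl⟩
  induction t using TensorProduct.induction_on with
  | zero => simp
  | tmul b ν =>
    obtain ⟨a, rfl⟩ := hw ν
    rw [mapBaseChange_tmul, map_smul]
    exact Submodule.smul_mem _ _ (Submodule.smul_of_tower_mem _ a (Submodule.mem_span_singleton_self _))
  | add x y hx hy => rw [map_add]; exact Submodule.add_mem _ hx hy

theorem omega_isTorsionFree : Module.IsTorsionFree B (Disc.Omega A B) := by
  refine ⟨fun b hb φ ψ h => Disc.Omega.ext (LinearMap.ext fun x => ?_)⟩
  obtain ⟨a, ha0, c, hc⟩ : ∃ a : A, a ≠ 0 ∧ ∃ c, b * c = algebraMap A B a := by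
    have hb0 : b ≠ 0 := hb.ne_zero
    obtain ⟨a, ha, haI⟩ := Submodule.exists_mem_ne_zero_of_ne_bot
      (Ideal.comap_ne_bot_of_integral_mem (R := A) hb0 (Ideal.mem_span_singleton_self b)
        (Algebra.IsIntegral.isIntegral b))
    exact ⟨a, haI, (Ideal.mem_span_singleton.1 ha).imp fun c hc => hc.symm⟩
  have e : φ.toLinearMap (b * (c * x)) = ψ.toLinearMap (b * (c * x)) :=
    congrArg (fun l : Disc.Omega A B => l.toLinearMap (c * x)) h
  rw [← mul_assoc, hc, ← Algebra.smul_def, map_smul, map_smul] at e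
  exact mul_left_cancel₀ ha0 e

/-- The trace of differentials identifies `Ω_B` with `Hom_A(B, Ω_A)`. -/
theorem exists_traceEquiv (hsyn : Synt.IsSyntomic A B)
    {w : Ω[A⁄R]} (hw : ∀ ν : Ω[A⁄R], ∃ a : A, a • w = ν) (hwB : KaehlerDifferential.map R R A B w ≠ 0)
    {d : B} (hd : d ≠ 0) (hdΩ : ∀ y : Ω[B⁄A], d • y = 0) :
    ∃ θ : Ω[B⁄R] ≃ₗ[B] Disc.Omega A B,
      θ (KaehlerDifferential.map R R A B w) = Disc.Omega.trace A B := by
  haveI := omega_isTorsionFree (A := A) (B := B)
  let m := KaehlerDifferential.map R R A B w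
  have hker := ker_map_eq_span (R := R) (A := A) (B := B) hw
  let q : (Ω[B⁄R] ⧸ Submodule.span B {m}) ≃ₗ[B] Ω[B⁄A] :=
    (Submodule.quotEquivOfEq _ _ hker.symm).trans
      (LinearMap.quotKerEquivOfSurjective _ (KaehlerDifferential.map_surjective R A B))
  have hdm : ∀ x : Ω[B⁄R], d • x ∈ Submodule.span B {m} := fun x => by
    rw [← hker, LinearMap.mem_ker, map_smul]
    exact hdΩ _
  have hfit : ∀ b : B, b ∈ QFDual.different B (Disc.Omega.trace A B) ↔
      ∀ x : Ω[B⁄R], b • x ∈ Submodule.span B {m} := fun b => by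
    rw [H05EGA4.DiscFitt.different_eq_fitt_of_syntomic hsyn, ← H05EGA4.DiscFitt.fitt_congr q]
    exact fitt_quotient_span hwB hd hdm b
  have hdiff : ∀ b : B, b ∈ QFDual.different B (Disc.Omega.trace A B) ↔
      ∀ φ : Disc.Omega A B, b • φ ∈ Submodule.span B {Disc.Omega.trace A B} := fun b => by
    rw [QFDual.mem_different_iff]
    simp only [Submodule.mem_span_singleton]
  have hdN : ∀ φ : Disc.Omega A B, d • φ ∈ Submodule.span B {Disc.Omega.trace A B} :=
    (hdiff d).1 ((hfit d).2 hdm)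
  have htr : Disc.Omega.trace A B ≠ 0 := fun h0 => by
    let β := Module.Free.chooseBasis A B
    obtain ⟨i⟩ := β.index_nonempty
    have h1 : d • (⟨β.coord i⟩ : Disc.Omega A B) = 0 := by
      have := hdN ⟨β.coord i⟩
      rwa [h0, Submodule.span_zero_singleton, Submodule.mem_bot] at this
    rcases smul_eq_zero.1 h1 with h2 | h2
    · exact hd h2
    · have := congrArg (fun l : Disc.Omega A B => l.toLinearMap (β i)) h2
      simp at this
  exact exists_equiv_of_colon_eq hwB htr hd hdm hdN fun b => (hfit b).symm.trans (hdiff b)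

/-- The trace of differentials. -/
theorem exists_trace (hsyn : Synt.IsSyntomic A B)
    {w : Ω[A⁄R]} (hw : ∀ ν : Ω[A⁄R], ∃ a : A, a • w = ν) (hw0 : ∀ a : A, a • w = 0 → a = 0)
    (hwB : KaehlerDifferential.map R R A B w ≠ 0) {d : B} (hd : d ≠ 0) (hdΩ : ∀ y : Ω[B⁄A], d • y = 0) :
    ∃ τ : Ω[B⁄R] →ₗ[A] Ω[A⁄R],
      (∀ (b : B) (ν : Ω[A⁄R]), τ (b • KaehlerDifferential.map R R A B ν) = Algebra.trace A B b • ν) ∧
      ∀ φ : B →ₗ[A] Ω[A⁄R], ∃! η : Ω[B⁄R], ∀ b : B, τ (b • η) = φ b := by
  obtain ⟨θ, hθ⟩ := exists_traceEquiv hsyn hw hwB hd hdΩ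
  let τ : Ω[B⁄R] →ₗ[A] Ω[A⁄R] :=
    { toFun := fun η => (θ η).toLinearMap 1 • w
      map_add' := fun x y => by rw [map_add, Disc.Omega.add_toLinearMap, LinearMap.add_apply, add_smul]
      map_smul' := fun a x => by
        rw [← algebraMap_smul B a x, map_smul, Disc.Omega.smul_toLinearMap_apply, mul_one, RingHom.id_apply,
          Algebra.algebraMap_eq_smul_one, map_smul, smul_assoc] }
  have hτ : ∀ (b : B) η, τ (b • η) = (θ η).toLinearMap b • w := fun b η => by
    change (θ (b • η)).toLinearMap 1 • w = _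
    rw [map_smul, Disc.Omega.smul_toLinearMap_apply, mul_one]
  refine ⟨τ, fun b ν => ?_, fun φ => ?_⟩
  · obtain ⟨a, rfl⟩ := hw ν
    rw [map_smul (KaehlerDifferential.map R R A B), ← algebraMap_smul B a (KaehlerDifferential.map R R A B w),
      smul_smul, hτ, hθ, smul_smul]
    change Algebra.trace A B (b * algebraMap A B a) • w = (Algebra.trace A B b * a) • w
    rw [mul_comm b, ← Algebra.smul_def, map_smul, smul_eq_mul, mul_comm]
  · choose c hc using fun b => hw (φ b)
    let ψ : Disc.Omega A B := ⟨{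
      toFun := c
      map_add' := fun x y => sub_eq_zero.1 (hw0 _ (by rw [sub_smul, add_smul, hc, hc, hc, map_add, sub_self]))
      map_smul' := fun a x => sub_eq_zero.1 (hw0 _ (by
        rw [RingHom.id_apply, sub_smul, smul_assoc, hc, hc, map_smul, sub_self])) }⟩
    refine ⟨θ.symm ψ, fun b => by rw [hτ, θ.apply_symm_apply]; exact hc b, fun η hη => ?_⟩
    refine θ.injective ((θ.apply_symm_apply ψ).symm ▸ Disc.Omega.ext (LinearMap.ext fun b => ?_))
    refine sub_eq_zero.1 (hw0 _ ?_)
    rw [sub_smul, ← hτ, hη b]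
    exact sub_eq_zero.2 (hc b).symm

end trace

end Groth.Agent.H29CurveDual
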