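import Groth.Agent.H29CurveDual.ChartTrace
import Groth.Agent.H17.QCAlgSub

/-!
# The trace of differentials of a finite flat morphism of curves
-/

set_option autoImplicit false
set_option linter.style.haveILetI false

universe u

open CategoryTheory CategoryTheory.Limits AlgebraicGeometry TopologicalSpace Opposite

namespace Groth.Agent.H29CurveDual

variable {X Y S : Scheme.{u}} (f : X ⟶ Y) (q : Y ⟶ S)

/-- The direct image of the structure sheaf of a finite flat morphism is finite locally free. -/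
theorem isFinLocFree_directImage [IsLocallyNoetherian Y] [IsFinite f] [Flat f] :
    FlatMod.IsFinLocFree (RelSpec.QCAlg.directImage f).toModule := by
  refine H8Props.FinLocFree.isFinLocFree_of_sections _ (H17.QCAlgSub.isQCoh_toModule _) fun y => ?_
  obtain ⟨U, hU, hyU, -⟩ := exists_isAffineOpen_mem_and_subset (U := (⊤ : Y.Opens)) (x := y) trivial
  haveI : IsNoetherianRing Γ(Y, U) := IsLocallyNoetherian.component_noetherian ⟨U, hU⟩
  letI := (f.app U).hom.toAlgebra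
  haveI : Module.Finite Γ(Y, U) Γ(X, f ⁻¹ᵁ U) := IsFinite.finite_app (f := f) U hU
  haveI : Module.Flat Γ(Y, U) Γ(X, f ⁻¹ᵁ U) := by
    have h := HasRingHomProperty.appLE (P := @Flat) f inferInstance ⟨U, hU⟩ ⟨f ⁻¹ᵁ U, hU.preimage f⟩ le_rfl
    rw [← Scheme.Hom.app_eq_appLE] at h
    exact h
  exact ⟨U, hU, hyU, (Module.finitePresentation_of_finite Γ(Y, U) Γ(X, f ⁻¹ᵁ U) :), ‹_›⟩

variable [IsIntegral X] [IsIntegral Y] [IsAffine S] [Subsingleton S] [QuasiSeparated q] [QuasiSeparated (f ≫ q)]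
  [SmoothOfRelativeDimension 1 q] [SmoothOfRelativeDimension 1 (f ≫ q)] [IsLocallyNoetherian Y] [IsFinite f] [Flat f]

omit [IsIntegral X] [QuasiSeparated q] [QuasiSeparated (f ≫ q)] [SmoothOfRelativeDimension 1 (f ≫ q)] in
theorem exists_chart (W : Y.Opens) (y : Y) (hy : y ∈ W) : ∃ V, IsChart f q V ∧ y ∈ V ∧ V ≤ W := by
  obtain ⟨U, n, hyU, ⟨e⟩⟩ := isFinLocFree_directImage f y
  obtain ⟨V₀, hV₀, hyV, hle⟩ := exists_isAffineOpen_mem_and_subset (U := W ⊓ U) (x := y) ⟨hy, hyU⟩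
  obtain ⟨g, hyg, hg⟩ := exists_stdSmooth_basicOpen q hV₀ y hyV
  refine ⟨Y.basicOpen g, ⟨hV₀.basicOpen g, ⟨⟨y, hyg⟩⟩, hg, ?_⟩, hyg,
    (Y.basicOpen_le g).trans (hle.trans inf_le_left)⟩
  exact (H8Props.FinLocFree.free_finite_of_chart _ e ((Y.basicOpen_le g).trans (hle.trans inf_le_right))).1

variable {f q}

omit [IsIntegral X] [SmoothOfRelativeDimension 1 q] [SmoothOfRelativeDimension 1 (f ≫ q)]
  [IsLocallyNoetherian Y] [IsFinite f] [Flat f] [QuasiSeparated (f ≫ q)] in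
theorem eq_zero_of_smul_eq_zero {V : Y.Opens} (hV : IsChart f q V) {a : Γ(Y, V)} (ha : a ≠ 0)
    {ν : Γ(Omega.sheaf q, V)} (h : a • ν = 0) : ν = 0 := by
  haveI := hV.nonempty
  letI := algR q V
  obtain ⟨β⟩ := exists_basis_omega (p := q) hV.smooth
  haveI : Module.Free Γ(Y, V) Ω[Γ(Y, V)⁄Γ(S, ⊤)] := Module.Free.of_basis β
  apply (omEquiv q V hV.affine).symm.injective
  rw [map_zero]
  refine β.ext_elem fun i => ?_
  have h1 := congrArg (fun z => β.repr ((omEquiv q V hV.affine).symm z) i) h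
  simp only [map_smul, map_zero, Finsupp.smul_apply, smul_eq_mul, Finsupp.zero_apply, mul_eq_zero] at h1
  rw [h1.resolve_left ha, map_zero, Finsupp.zero_apply]

variable (hη : f (genericPoint X) = genericPoint Y)
  (hDed : ∀ U : X.Opens, IsAffineOpen U → Nonempty U → IsDedekindDomain Γ(X, U))
  (hdf : ∀ V : Y.Opens, IsAffineOpen V → Nonempty V →
    ∃ a : Γ(Y, V), OmegaSh.dSect (f ≫ q) (f ⁻¹ᵁ V) (f.app V a) ≠ 0)

include hη hdf in
/-- A semilinear map killing the pulled back differentials vanishes. -/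
theorem eq_zero_of_semilinear {V V' : Y.Opens} (hV : IsChart f q V) (hV' : IsChart f q V') (e : V' ≤ V)
    (δ : Γ(Omega.sheaf (f ≫ q), f ⁻¹ᵁ V) →+ Γ(Omega.sheaf q, V'))
    (hδ : ∀ a η, δ (f.app V a • η) = Y.presheaf.map (homOfLE e).op a • δ η)
    (hker : ∀ (b : Γ(X, f ⁻¹ᵁ V)) (a : Γ(Y, V)),
      δ (b • OmegaSh.dSect (f ≫ q) (f ⁻¹ᵁ V) (f.app V a)) = 0) (η : Γ(Omega.sheaf (f ≫ q), f ⁻¹ᵁ V)) :
    δ η = 0 := by
  haveI := nonempty_preimage f hη hV.nonempty
  haveI := hV'.nonempty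
  haveI := hV.nonempty
  have hU : IsAffineOpen (f ⁻¹ᵁ V) := hV.affine.preimage f
  obtain ⟨a₀, ha₀⟩ := hdf V hV.affine hV.nonempty
  letI := algR (f ≫ q) (f ⁻¹ᵁ V)
  let eX := omEquiv (f ≫ q) (f ⁻¹ᵁ V) hU
  have hm : eX.symm (OmegaSh.dSect (f ≫ q) (f ⁻¹ᵁ V) (f.app V a₀)) ≠ 0 := fun h => ha₀ (by
    simpa using congrArg eX h)
  obtain ⟨c, hc, b, hb⟩ := omega_rankOne (f ≫ q) hU (eX.symm η) _ hm
  have hb' : c • η = b • OmegaSh.dSect (f ≫ q) (f ⁻¹ᵁ V) (f.app V a₀) := by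
    simpa using congrArg eX hb
  letI := (f.app V).hom.toAlgebra
  haveI : Module.Finite Γ(Y, V) Γ(X, f ⁻¹ᵁ V) := IsFinite.finite_app (f := f) V hV.affine
  obtain ⟨a, ha, haI⟩ := Submodule.exists_mem_ne_zero_of_ne_bot
    (Ideal.comap_ne_bot_of_integral_mem (R := Γ(Y, V)) hc (Ideal.mem_span_singleton_self c)
      (Algebra.IsIntegral.isIntegral c))
  obtain ⟨d, hd⟩ := Ideal.mem_span_singleton'.1 ha
  refine eq_zero_of_smul_eq_zero hV' (a := Y.presheaf.map (homOfLE e).op a) (fun h0 => haI ?_) ?_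
  · exact map_injective_of_isIntegral Y (homOfLE e) (h0.trans (map_zero _).symm)
  · rw [← hδ, show f.app V a = d * c from hd.symm, mul_smul, hb', smul_smul]
    exact hker _ _

omit [IsIntegral X] [QuasiSeparated q] [QuasiSeparated (f ≫ q)] [IsAffine S] [Subsingleton S]
  [SmoothOfRelativeDimension 1 (f ≫ q)] [SmoothOfRelativeDimension 1 q] [IsIntegral Y] in
theorem trFun_res {V V' : Y.Opens} (hV : IsChart f q V) (hV' : IsChart f q V') (e : V' ≤ V)
    (b : Γ(X, f ⁻¹ᵁ V)) :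
    trFun f V' (X.presheaf.map (homOfLE (f.preimage_mono e)).op b) =
      Y.presheaf.map (homOfLE e).op (trFun f V b) :=
  H25FinCov.tr_natural (RelSpec.QCAlg.directImage f) (isFinLocFree_directImage f)
    (U := V) (U' := V') ⟨hV.affine, hV.free, IsFinite.finite_app (f := f) V hV.affine⟩
    ⟨hV'.affine, hV'.free, IsFinite.finite_app (f := f) V' hV'.affine⟩ e b

include hη hdf in
theorem isTraceOn_res {V V' : Y.Opens} (hV : IsChart f q V) (hV' : IsChart f q V') (e : V' ≤ V)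
    {τ : Γ(Omega.sheaf (f ≫ q), f ⁻¹ᵁ V) →+ Γ(Omega.sheaf q, V)} (hτ : IsTraceOn f q V τ)
    {τ' : Γ(Omega.sheaf (f ≫ q), f ⁻¹ᵁ V') →+ Γ(Omega.sheaf q, V')} (hτ' : IsTraceOn f q V' τ')
    (η : Γ(Omega.sheaf (f ≫ q), f ⁻¹ᵁ V)) :
    τ' ((Omega.sheaf (f ≫ q)).presheaf.map (homOfLE (f.preimage_mono e)).op η) =
      (Omega.sheaf q).presheaf.map (homOfLE e).op (τ η) := by
  let r₁ := ((Omega.sheaf (f ≫ q)).presheaf.map (homOfLE (f.preimage_mono e)).op).hom
  let r₂ := ((Omega.sheaf q).presheaf.map (homOfLE e).op).hom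
  have happ : ∀ a : Γ(Y, V), X.presheaf.map (homOfLE (f.preimage_mono e)).op (f.app V a) =
      f.app V' (Y.presheaf.map (homOfLE e).op a) := fun a =>
    (congr($(f.naturality (homOfLE e).op) a)).symm
  refine sub_eq_zero.1 (eq_zero_of_semilinear hη hdf hV hV' e (τ'.comp r₁ - r₂.comp τ) (fun a η => ?_)
    (fun b a => ?_) η)
  · show τ' ((Omega.sheaf (f ≫ q)).presheaf.map _ (f.app V a • η)) -
      (Omega.sheaf q).presheaf.map _ (τ (f.app V a • η)) = _ • (τ' _ - _)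
    rw [Scheme.Modules.map_smul, happ, hτ'.semilin, hτ.semilin, Scheme.Modules.map_smul, smul_sub]
    rfl
  · show τ' ((Omega.sheaf (f ≫ q)).presheaf.map _ (b • _)) - (Omega.sheaf q).presheaf.map _ (τ (b • _)) = 0
    rw [Scheme.Modules.map_smul, ← dSect_res (f ≫ q) (f.preimage_mono e), happ, hτ'.formula, hτ.formula,
      Scheme.Modules.map_smul, ← dSect_res q e, trFun_res hV hV' e, sub_self]

include hη hDed hdf in
/-- The trace of differentials as a morphism of modules. -/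
theorem exists_omegaTrace :
    ∃ τ : (Scheme.Modules.pushforward f).obj (Omega.sheaf (f ≫ q)) ⟶ Omega.sheaf q,
      ∀ V, IsChart f q V → ∃ τV, IsTraceOn f q V τV ∧
        ∀ η : Γ(Omega.sheaf (f ≫ q), f ⁻¹ᵁ V), τ.app V η = τV η := by
  choose τ hτ using fun V (hV : IsChart f q V) => exists_isTraceOn f q hη hDed hdf hV
  obtain ⟨T, hT⟩ := H17.PrinOmega.exists_hom_of_basis
    ((Scheme.Modules.pushforward f).obj (Omega.sheaf (f ≫ q))) (Omega.sheaf q) (IsChart f q)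
    (exists_chart f q)
    (fun V hV => { toFun := fun η => τ V hV η
                   map_add' := fun a b => map_add (τ V hV) a b
                   map_smul' := fun a η => (hτ V hV).semilin a η })
    (fun V V' hV hV' e η => isTraceOn_res hη hdf hV hV' e (hτ V hV) (hτ V' hV') η)
  exact ⟨T, fun V hV => ⟨τ V hV, hτ V hV, fun η => hT V hV η⟩⟩

end Groth.Agent.H29CurveDual
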